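import Cfsg.Agent.Lib.J3Uniq.Moves

/-!
# Uniqueness of the third Janko group: the amalgam with the value `1` of `(r c r⁻¹ c) ^ 4`

Produced by a double coset enumeration program.

Owner: helper74.
-/

set_option autoImplicit false
set_option maxRecDepth 100000

namespace Cfsg.Agent.Lib.J3Uniq.Alt0

open Cfsg.Agent.Lib.CosetEnum

/-- Facts, block 0. -/
def fc0 : List Fc :=
  [⟨0, 0, 1, 1, 0, 0⟩, ⟨1, 3, 0, 1, 3, 0⟩, ⟨1, 1015, 0, 1, 4, 0⟩, ⟨1, 59, 0, 1, 59, 0⟩, ⟨1, 536, 0, 1, 290, 0⟩, ⟨1, 0, 1, 2, 0, 0⟩, ⟨1, 1, 1, 3, 0, 0⟩, ⟨3, 594, 0, 3, 4, 0⟩, ⟨3, 152, 0, 3, 176, 0⟩, ⟨3, 1825, 0, 3, 724, 0⟩, ⟨2, 0, 1, 0, 0, 0⟩, ⟨2, 0, 0, 1, 22, 270⟩, ⟨1, 270, 1, 0, 22, 0⟩, ⟨3, 22, 1, 1, 0, 509⟩, ⟨3, 0, 1, 3, 580, 770⟩, ⟨3, 1, 1, 4, 0, 0⟩, ⟨4, 282, 0, 4, 1038, 0⟩, ⟨4, 0,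 1, 5, 0, 0⟩, ⟨4, 1, 1, 6, 0, 0⟩, ⟨5, 0, 1, 3, 0, 1⟩, ⟨5, 0, 0, 4, 4, 651⟩, ⟨4, 651, 1, 3, 4, 1⟩, ⟨6, 22, 1, 4, 0, 509⟩, ⟨4, 2, 1, 7, 0, 0⟩, ⟨4, 8, 1, 8, 0, 0⟩, ⟨8, 920, 0, 8, 1038, 0⟩, ⟨4, 29, 1, 9, 0, 0⟩, ⟨9, 940, 0, 9, 1038, 0⟩, ⟨7, 0, 1, 6, 1044, 1557⟩, ⟨6, 0, 1, 7, 1038, 197⟩, ⟨7, 22, 1, 4, 0, 632⟩, ⟨8, 22, 1, 4, 0, 1019⟩, ⟨9, 22, 1, 4, 0, 597⟩, ⟨8, 1918, 0, 8, 1806, 0⟩, ⟨9, 731, 0, 9, 1624, 0⟩, ⟨8, 0, 1, 9, 0, 270⟩, ⟨9, 0, 1, 8, 0, 270⟩, ⟨6, 1, 1, 10, 0, 0⟩, ⟨10, 22, 1, 6, 0, 509⟩, ⟨6, 8, 1, 13, 0, 0⟩, ⟨6, 14, 1, 14, 0, 0⟩, ⟨14, 0, 1, 10, 0, 335⟩, ⟨13, 22, 1, 6, 0, 1019⟩, ⟨13, 1918, 0, 13, 1853, 0⟩, ⟨6, 21, 1, 16, 0, 0⟩, ⟨6, 29, 1, 17, 0, 0⟩, ⟨17, 0, 1, 13, 0, 270⟩, ⟨13, 0, 1, 17, 0, 270⟩, ⟨16, 22, 1, 6, 0, 1359⟩, ⟨17, 731, 0, 17, 1911, 0⟩, ⟨7, 2,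 1, 19, 0, 0⟩, ⟨7, 5, 1, 20, 0, 0⟩, ⟨7, 8, 1, 21, 0, 0⟩, ⟨20, 22, 1, 7, 0, 854⟩, ⟨21, 22, 1, 7, 0, 1019⟩, ⟨7, 29, 1, 25, 0, 0⟩, ⟨8, 2, 1, 26, 0, 0⟩, ⟨26, 1902, 0, 26, 1741, 0⟩, ⟨8, 8, 1, 27, 0, 0⟩, ⟨27, 1910, 0, 27, 1806, 0⟩, ⟨25, 22, 1, 7, 0, 597⟩, ⟨26, 22, 1, 8, 0, 632⟩, ⟨27, 22, 1, 8, 0, 1019⟩, ⟨10, 1, 1, 30, 0, 0⟩]

/-- Justifications, block 0. -/
def pf0 : List Pf :=
  [⟨0, 0, 0, 0, [], []⟩,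
    ⟨0, 3, 2, 0, [(1, 0, 1)], [(5, 3, 0), (1, 0, 0)]⟩,
    ⟨0, 4, 2, 0, [(1, 0, 11)], [(5, 4, 0), (1, 0, 0)]⟩,
    ⟨0, 11, 2, 0, [(5, 5, 0), (1, 0, 12)], [(5, 11, 0), (1, 0, 0)]⟩,
    ⟨0, 28, 2, 0, [(5, 22, 0), (1, 0, 98)], [(5, 28, 0), (1, 0, 0)]⟩,
    ⟨0, 0, 0, 0, [], []⟩,
    ⟨0, 0, 0, 0, [], []⟩,
    ⟨1, 823, 2, 0, [(1, 6, 150)], [(3, 2, 0), (1, 6, 0)]⟩,
    ⟨1, 16, 2, 0, [(3, 1, 0), (1, 6, 13)], [(3, 3, 0), (3, 1, 0), (1, 6, 0)]⟩,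
    ⟨1, 679, 2, 0, [(3, 1, 0), (1, 6, 104)], [(3, 4, 0), (1, 6, 0)]⟩,
    ⟨2, 0, 1, 0, [(2, 5, 0), (2, 0, 0)], []⟩,
    ⟨0, 0, 2, 9, [(0, 22, 0), (5, 22, 0), (2, 10, 0), (0, 371, 0)], [(1, 0, 0)]⟩,
    ⟨1, 270, 1, 0, [(4, 11, 0), (1, 10, 0)], []⟩,
    ⟨3, 22, 1, 9, [(0, 22, 0), (2, 6, 0), (0, 371, 0)], []⟩,
    ⟨3, 0, 1, 0, [(2, 6, 0), (3, 4, 0), (3, 1, 0), (2, 13, 60)], []⟩,
    ⟨0, 0, 0, 0, [], []⟩,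
    ⟨3, 963, 2, 0, [(3, 9, 0), (1, 15, 25)], [(3, 8, 0), (3, 9, 0), (1, 15, 0)]⟩,
    ⟨0, 0, 0, 0, [], []⟩,
    ⟨0, 0, 0, 0, [], []⟩,
    ⟨5, 0, 1, 0, [(2, 17, 0), (2, 15, 0)], []⟩,
    ⟨3, 1, 2, 9, [(0, 22, 0), (3, 7, 0), (2, 19, 46), (0, 371, 0)], [(1, 15, 0)]⟩,
    ⟨4, 651, 1, 0, [(4, 20, 0), (1, 19, 0)], []⟩,
    ⟨6, 22, 1, 9, [(0, 22, 0), (2, 18, 0), (0, 371, 0)], []⟩,
    ⟨0, 0, 0, 0, [], []⟩,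
    ⟨0, 0, 0, 0, [], []⟩,
    ⟨4, 564, 2, 0, [(1, 24, 60)], [(3, 16, 0), (1, 24, 0)]⟩,
    ⟨0, 0, 0, 0, [], []⟩,
    ⟨4, 1382, 2, 0, [(1, 26, 62)], [(3, 16, 0), (1, 26, 0)]⟩,
    ⟨7, 0, 1, 0, [(2, 23, 0), (3, 16, 0), (3, 16, 0), (2, 22, 190)], []⟩,
    ⟨6, 0, 1, 9, [(0, 22, 0), (2, 28, 66), (0, 371, 0)], []⟩,
    ⟨7, 22, 1, 9, [(0, 22, 0), (2, 23, 0), (0, 371, 0)], []⟩,
    ⟨8, 22, 1, 9, [(0, 22, 0), (2, 24, 0), (0, 371, 0)], []⟩,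
    ⟨9, 22, 1, 9, [(0, 22, 0), (2, 26, 0), (0, 371, 0)], []⟩,
    ⟨4, 434, 2, 21, [(0, 104, 0), (1, 21, 130), (0, 104, 0), (2, 6, 51), (0, 104, 0), (1, 12, 14), (0, 104, 0), (5, 21, 0), (2, 10, 48), (3, 11, 0), (0, 104, 0), (3, 1, 0), (3, 3, 0), (1, 6, 89), (0, 104, 0), (3, 9, 0), (2, 19, 130), (3, 20, 0), (0, 104, 0), (1, 24, 145), (0, 104, 0)], [(1, 24, 145)]⟩,
    ⟨4, 959, 2, 21, [(0, 104, 0), (1, 17, 25), (3, 20, 0), (0, 104, 0), (2, 31, 57), (0, 104, 0), (3, 33, 0), (1, 31, 126), (0, 104, 0), (2, 15, 41), (0, 104, 0), (1, 14, 136), (0, 104, 0), (3, 9, 0), (2, 19, 90), (3, 20, 0), (0, 104, 0), (1, 26, 26), (0, 104, 0)], [(1, 26, 76)]⟩,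
    ⟨8, 0, 1, 0, [(2, 24, 0), (2, 32, 7)], []⟩,
    ⟨9, 0, 1, 0, [(2, 26, 0), (2, 31, 7)], []⟩,
    ⟨0, 0, 0, 0, [], []⟩,
    ⟨10, 22, 1, 9, [(0, 22, 0), (2, 37, 0), (0, 371, 0)], []⟩,
    ⟨0, 0, 0, 0, [], []⟩,
    ⟨0, 0, 0, 0, [], []⟩,
    ⟨14, 0, 1, 0, [(2, 40, 0), (2, 38, 23)], []⟩,
    ⟨13, 22, 1, 9, [(0, 22, 0), (2, 39, 0), (0, 371, 0)], []⟩,
    ⟨6, 434, 2, 21, [(0, 104, 0), (1, 22, 172), (0, 104, 0), (2, 15, 72), (0, 104, 0), (1, 13, 120), (0, 104, 0), (3, 1, 0), (3, 3, 0), (2, 13, 34), (0, 104, 0), (3, 9, 0), (1, 15, 63), (0, 104, 0), (3, 16, 0), (3, 16, 0), (2, 22, 172), (0, 104, 0), (1, 39, 145), (0, 104, 0)], [(1, 39, 145)]⟩,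
    ⟨0, 0, 0, 0, [], []⟩,
    ⟨0, 0, 0, 0, [], []⟩,
    ⟨17, 0, 1, 0, [(2, 45, 0), (2, 42, 7)], []⟩,
    ⟨13, 0, 1, 9, [(0, 22, 0), (2, 46, 2), (0, 371, 0)], []⟩,
    ⟨16, 22, 1, 9, [(0, 22, 0), (2, 44, 0), (0, 371, 0)], []⟩,
    ⟨13, 667, 2, 11, [(0, 104, 0), (2, 39, 155), (0, 104, 0), (2, 18, 68), (0, 104, 0), (2, 15, 164), (0, 104, 0), (2, 6, 58), (0, 104, 0), (3, 4, 0), (3, 3, 0), (2, 13, 3), (0, 104, 0), (3, 7, 0), (3, 9, 0), (2, 19, 156), (3, 20, 0), (0, 104, 0), (3, 16, 0), (3, 16, 0), (2, 22, 18), (0, 104, 0), (2, 42, 104), (0, 104, 0), (3, 43, 0), (2, 46, 140), (0, 104, 0)], [(3, 43, 0), (1, 47, 138)]⟩,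
    ⟨0, 0, 0, 0, [], []⟩,
    ⟨0, 0, 0, 0, [], []⟩,
    ⟨0, 0, 0, 0, [], []⟩,
    ⟨20, 22, 1, 9, [(0, 22, 0), (2, 51, 0), (0, 371, 0)], []⟩,
    ⟨21, 22, 1, 9, [(0, 22, 0), (2, 52, 0), (0, 371, 0)], []⟩,
    ⟨0, 0, 0, 0, [], []⟩,
    ⟨0, 0, 0, 0, [], []⟩,
    ⟨8, 1899, 2, 0, [(3, 25, 0), (3, 25, 0), (1, 56, 130)], [(3, 33, 0), (1, 56, 0)]⟩,
    ⟨0, 0, 0, 0, [], []⟩,
    ⟨8, 1900, 2, 0, [(1, 58, 154)], [(3, 33, 0), (1, 58, 0)]⟩,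
    ⟨25, 22, 1, 9, [(0, 22, 0), (2, 55, 0), (0, 371, 0)], []⟩,
    ⟨26, 22, 1, 9, [(0, 22, 0), (2, 56, 0), (0, 371, 0)], []⟩,
    ⟨27, 22, 1, 9, [(0, 22, 0), (2, 58, 0), (0, 371, 0)], []⟩,
    ⟨0, 0, 0, 0, [], []⟩]

/-- Facts, block 1. -/
def fc1 : List Fc :=
  [⟨30, 22, 1, 10, 0, 509⟩, ⟨30, 1912, 0, 30, 1624, 0⟩, ⟨10, 8, 1, 33, 0, 0⟩, ⟨33, 22, 1, 10, 0, 1019⟩, ⟨20, 426, 1, 33, 176, 1885⟩, ⟨10, 14, 1, 34, 0, 0⟩, ⟨10, 15, 1, 35, 0, 0⟩, ⟨34, 0, 1, 30, 0, 335⟩, ⟨35, 22, 1, 10, 0, 322⟩, ⟨10, 29, 1, 37, 0, 0⟩, ⟨37, 22, 1, 10, 0, 597⟩, ⟨37, 74, 1, 27, 259, 1165⟩, ⟨14, 1, 1, 57, 0, 0⟩, ⟨57, 22, 1, 14, 0, 509⟩, ⟨25, 227, 1, 57, 1320, 1601⟩, ⟨16, 2, 1, 73, 0, 0⟩, ⟨73, 22, 1, 16, 0, 632⟩, ⟨19, 268, 1, 73, 724, 190⟩, ⟨16, 15, 1, 77, 0, 0⟩, ⟨77, 0, 1, 73, 0, 270⟩,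 ⟨73, 0, 1, 77, 0, 270⟩, ⟨77, 22, 1, 16, 0, 322⟩, ⟨77, 218, 1, 21, 940, 890⟩, ⟨21, 8, 1, 104, 0, 0⟩, ⟨104, 0, 1, 77, 1113, 1340⟩, ⟨77, 15, 1, 104, 940, 356⟩, ⟨104, 22, 1, 21, 0, 1019⟩, ⟨104, 446, 1, 27, 118, 634⟩, ⟨26, 14, 1, 134, 0, 0⟩, ⟨134, 22, 1, 26, 0, 1209⟩, ⟨34, 267, 1, 134, 1146, 1591⟩, ⟨30, 1, 1, 141, 0, 0⟩, ⟨141, 1839, 0, 141, 1624, 0⟩, ⟨141, 33, 0, 141, 157, 0⟩, ⟨30, 1763, 0, 30, 1635, 0⟩, ⟨34, 0, 0, 10, 1015, 869⟩, ⟨134, 0, 0, 35, 1782, 974⟩, ⟨35, 827, 1, 26, 1782, 1209⟩, ⟨27, 861, 0, 27, 1024, 0⟩, ⟨104, 0, 0, 8, 445, 861⟩, ⟨21, 0, 0, 4, 1412, 282⟩, ⟨7, 0, 0, 3, 1718, 1806⟩, ⟨4, 1132, 0, 4, 1448, 0⟩, ⟨8, 13, 0, 8, 1448, 0⟩, ⟨9, 1853, 0, 9, 1448, 0⟩]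

/-- Justifications, block 1. -/
def pf1 : List Pf :=
  [⟨30, 22, 1, 9, [(0, 22, 0), (2, 63, 0), (0, 371, 0)], []⟩,
    ⟨10, 769, 2, 21, [(0, 104, 0), (1, 38, 59), (0, 104, 0), (2, 18, 133), (0, 104, 0), (1, 26, 128), (0, 104, 0), (3, 34, 0), (2, 26, 128), (0, 104, 0), (1, 18, 133), (0, 104, 0), (2, 38, 59), (0, 104, 0), (1, 63, 177), (0, 104, 0)], [(1, 63, 177)]⟩,
    ⟨0, 0, 0, 0, [], []⟩,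
    ⟨33, 22, 1, 9, [(0, 22, 0), (2, 66, 0), (0, 371, 0)], []⟩,
    ⟨20, 426, 1, 21, [(0, 104, 0), (1, 53, 81), (0, 104, 0), (2, 23, 142), (0, 104, 0), (1, 21, 101), (0, 104, 0), (3, 8, 0), (2, 19, 148), (3, 20, 0), (0, 104, 0), (1, 18, 15), (0, 104, 0), (2, 38, 186), (0, 104, 0), (1, 66, 113), (0, 104, 0)], []⟩,
    ⟨0, 0, 0, 0, [], []⟩,
    ⟨0, 0, 0, 0, [], []⟩,
    ⟨34, 0, 1, 0, [(2, 69, 0), (2, 64, 23)], []⟩,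
    ⟨35, 22, 1, 9, [(0, 22, 0), (2, 70, 0), (0, 371, 0)], []⟩,
    ⟨0, 0, 0, 0, [], []⟩,
    ⟨37, 22, 1, 9, [(0, 22, 0), (2, 73, 0), (0, 371, 0)], []⟩,
    ⟨37, 74, 1, 21, [(0, 104, 0), (1, 74, 96), (0, 104, 0), (2, 37, 158), (0, 104, 0), (1, 22, 82), (0, 104, 0), (2, 15, 40), (0, 104, 0), (3, 7, 0), (3, 8, 0), (3, 8, 0), (1, 15, 64), (0, 104, 0), (2, 31, 114), (0, 104, 0), (1, 58, 160), (0, 104, 0)], []⟩,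
    ⟨0, 0, 0, 0, [], []⟩,
    ⟨57, 22, 1, 9, [(0, 22, 0), (2, 76, 0), (0, 371, 0)], []⟩,
    ⟨25, 227, 1, 21, [(0, 104, 0), (1, 60, 114), (0, 104, 0), (2, 29, 74), (0, 104, 0), (1, 37, 3), (0, 104, 0), (2, 64, 190), (0, 104, 0), (3, 65, 0), (1, 64, 6), (0, 104, 0), (2, 41, 179), (0, 104, 0), (1, 76, 19), (0, 104, 0)], []⟩,
    ⟨0, 0, 0, 0, [], []⟩,
    ⟨73, 22, 1, 9, [(0, 22, 0), (2, 79, 0), (0, 371, 0)], []⟩,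
    ⟨19, 268, 1, 11, [(0, 104, 0), (2, 50, 147), (0, 104, 0), (2, 29, 143), (0, 104, 0), (2, 38, 170), (0, 104, 0), (2, 67, 74), (0, 104, 0), (2, 68, 189), (0, 104, 0), (2, 51, 132), (0, 104, 0), (2, 29, 8), (0, 104, 0), (2, 48, 54), (0, 104, 0), (2, 80, 3), (0, 104, 0)], []⟩,
    ⟨0, 0, 0, 0, [], []⟩,
    ⟨77, 0, 1, 0, [(2, 82, 0), (2, 80, 7)], []⟩,
    ⟨73, 0, 1, 9, [(0, 22, 0), (2, 83, 2), (0, 371, 0)], []⟩,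
    ⟨77, 22, 1, 9, [(0, 22, 0), (2, 82, 0), (0, 371, 0)], []⟩,
    ⟨77, 218, 1, 21, [(0, 104, 0), (1, 85, 51), (0, 104, 0), (2, 44, 49), (0, 104, 0), (1, 22, 127), (0, 104, 0), (2, 15, 46), (0, 104, 0), (3, 9, 0), (1, 15, 9), (0, 104, 0), (3, 16, 0), (3, 16, 0), (2, 30, 107), (0, 104, 0), (1, 52, 121), (0, 104, 0)], []⟩,
    ⟨0, 0, 0, 0, [], []⟩,
    ⟨104, 0, 1, 0, [(2, 87, 0), (2, 86, 148)], []⟩,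
    ⟨77, 15, 1, 9, [(0, 22, 0), (2, 88, 137), (0, 371, 0)], []⟩,
    ⟨104, 22, 1, 9, [(0, 22, 0), (2, 87, 0), (0, 371, 0)], []⟩,
    ⟨104, 446, 1, 11, [(0, 104, 0), (2, 89, 61), (0, 104, 0), (2, 84, 79), (0, 104, 0), (2, 81, 182), (0, 104, 0), (2, 50, 122), (0, 104, 0), (2, 23, 74), (0, 104, 0), (2, 15, 96), (0, 104, 0), (3, 9, 0), (2, 19, 137), (3, 20, 0), (0, 104, 0), (2, 31, 160), (0, 104, 0), (3, 25, 0), (2, 62, 12), (0, 104, 0)], []⟩,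
    ⟨0, 0, 0, 0, [], []⟩,
    ⟨134, 22, 1, 9, [(0, 22, 0), (2, 92, 0), (0, 371, 0)], []⟩,
    ⟨34, 267, 1, 11, [(0, 104, 0), (2, 69, 48), (0, 104, 0), (2, 41, 143), (0, 104, 0), (2, 77, 170), (0, 104, 0), (2, 78, 188), (0, 104, 0), (2, 55, 76), (0, 104, 0), (2, 23, 22), (0, 104, 0), (2, 31, 107), (0, 104, 0), (3, 25, 0), (2, 61, 150), (0, 104, 0), (2, 93, 177), (0, 104, 0)], []⟩,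
    ⟨0, 0, 0, 0, [], []⟩,
    ⟨30, 1891, 2, 0, [(1, 95, 170)], [(3, 65, 0), (1, 95, 0)]⟩,
    ⟨30, 362, 2, 21, [(0, 104, 0), (3, 65, 0), (1, 64, 59), (0, 104, 0), (2, 37, 133), (0, 104, 0), (1, 45, 128), (0, 104, 0), (3, 49, 0), (2, 45, 128), (0, 104, 0), (1, 37, 133), (0, 104, 0), (2, 64, 59), (0, 104, 0), (1, 95, 177), (0, 104, 0)], [(1, 95, 40)]⟩,
    ⟨141, 257, 2, 0, [(3, 96, 0), (3, 97, 0), (2, 95, 85)], [(3, 97, 0), (3, 97, 0), (2, 95, 0)]⟩,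
    ⟨30, 1726, 2, 0, [(3, 65, 0), (2, 71, 180)], [(3, 98, 0), (3, 65, 0), (3, 98, 0), (2, 63, 0)]⟩,
    ⟨10, 1760, 2, 0, [(4, 99, 0), (1, 94, 0)], [(1, 70, 167)]⟩,
    ⟨35, 827, 1, 0, [(4, 100, 0), (1, 93, 0)], []⟩,
    ⟨37, 777, 2, 21, [(0, 104, 0), (1, 74, 119), (0, 104, 0), (2, 72, 177), (0, 104, 0), (1, 101, 102), (0, 104, 0), (3, 57, 0), (2, 93, 102), (3, 100, 0), (0, 104, 0), (1, 72, 177), (0, 104, 0), (2, 74, 119), (0, 104, 0), (1, 75, 171), (0, 104, 0)], [(1, 75, 171)]⟩,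
    ⟨27, 861, 2, 0, [(3, 59, 0), (2, 91, 10)], [(3, 102, 0), (2, 58, 0)]⟩,
    ⟨8, 567, 2, 0, [(4, 103, 0), (1, 90, 0)], [(3, 33, 0), (1, 31, 77)]⟩,
    ⟨4, 130, 2, 0, [(4, 104, 0), (1, 54, 0)], [(1, 21, 151)]⟩,
    ⟨3, 1808, 2, 0, [(3, 7, 0), (3, 8, 0), (1, 15, 100)], [(4, 105, 0), (1, 30, 0)]⟩,
    ⟨4, 1136, 2, 0, [(1, 24, 185)], [(3, 106, 0), (1, 24, 0)]⟩,
    ⟨4, 217, 2, 0, [(1, 26, 88)], [(3, 106, 0), (1, 26, 0)]⟩]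

/-- The blocks of facts. -/
def fcs : List (List Fc) := [fc0, fc1]

/-- The blocks of justifications. -/
def pfs : List (List Pf) := [pf0, pf1]

/-- The number of facts. -/
def nFacts : ℕ := 109

/-- The definitions of the nodes. -/
def pars : List (ℕ × ℕ) :=
  [(0, 0), (0, 0), (1, 0), (1, 1), (3, 1), (4, 0), (4, 1), (4, 2), (4, 8), (4, 29), (6, 1), (0, 0), (0, 0), (6, 8), (6, 14), (0, 0), (6, 21), (6, 29), (0, 0), (7, 2), (7, 5), (7, 8), (0, 0), (0, 0), (0, 0), (7, 29), (8, 2), (8, 8), (0, 0), (0, 0), (10, 1), (0, 0), (0, 0), (10, 8), (10, 14), (10, 15), (0, 0), (10, 29), (0, 0), (0, 0), (0, 0), (0, 0), (0, 0), (0, 0), (0, 0), (0, 0), (0, 0), (0, 0), (0, 0), (0, 0), (0, 0), (0, 0), (0, 0), (0, 0), (0, 0), (0, 0), (0, 0), (14, 1), (0, 0), (0, 0), (0, 0),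 (0, 0), (0, 0), (0, 0), (0, 0), (0, 0), (0, 0), (0, 0), (0, 0), (0, 0), (0, 0), (0, 0), (0, 0), (16, 2), (0, 0), (0, 0), (0, 0), (16, 15), (0, 0), (0, 0), (0, 0), (0, 0), (0, 0), (0, 0), (0, 0), (0, 0), (0, 0), (0, 0), (0, 0), (0, 0), (0, 0), (0, 0), (0, 0), (0, 0), (0, 0), (0, 0), (0, 0), (0, 0), (0, 0), (0, 0), (0, 0), (0, 0), (0, 0), (0, 0), (21, 8), (0, 0), (0, 0), (0, 0), (0, 0), (0, 0), (0, 0), (0, 0), (0, 0), (0, 0), (0, 0), (0, 0), (0, 0), (0, 0), (0, 0), (0, 0), (0, 0), (0, 0), (0, 0), (0, 0), (0, 0), (0, 0), (0, 0), (0, 0), (0, 0), (0, 0), (0, 0), (0, 0), (0, 0), (0, 0), (26, 14), (0, 0), (0, 0), (0, 0), (0, 0), (0, 0), (0, 0), (30, 1)]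

/-- The moves as syllables. -/
def mvs : List (List ℕ) :=
  [[2, 2],
    [2, 2],
    [2, 2],
    [6, 1, 6],
    [6, 1, 6],
    [179, 1, 121],
    [121, 1, 179],
    [1909, 1, 252],
    [1904, 1, 288],
    [25, 2, 374],
    [374, 2, 25],
    [107, 2, 107, 2, 107, 2, 107, 2, 107, 2, 107, 2, 107, 2, 107, 2, 107, 2, 107],
    [107, 2, 107, 2, 107, 2, 107, 2, 107, 2, 107, 2, 107, 2, 107, 2, 107, 2, 107],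
    [107, 2, 107, 2, 107, 2, 107, 2, 107, 2, 107, 2, 107, 2, 107, 2, 107, 2, 107],
    [107, 2, 107, 2, 107, 2, 107, 2, 107, 2, 107, 2, 107, 2, 107, 2, 107, 2, 107],
    [107, 2, 107, 2, 107, 2, 107, 2, 107, 2, 107, 2, 107, 2, 107, 2, 107, 2, 107],
    [107, 2, 107, 2, 107, 2, 107, 2, 107, 2, 107, 2, 107, 2, 107, 2, 107, 2, 107],
    [107, 2, 107, 2, 107, 2, 107, 2, 107, 2, 107, 2, 107, 2, 107, 2, 107, 2, 107],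
    [107, 2, 107, 2, 107, 2, 107, 2, 107, 2, 107, 2, 107, 2, 107, 2, 107, 2, 107],
    [107, 2, 107, 2, 107, 2, 107, 2, 107, 2, 107, 2, 107, 2, 107, 2, 107, 2, 107],
    [107, 2, 107, 2, 107, 2, 107, 2, 107, 2, 107, 2, 107, 2, 107, 2, 107, 2, 107],
    [107, 1, 107, 2, 107, 1, 107, 2, 107, 1, 107, 2, 107, 1, 107],
    [107, 1, 107, 2, 107, 1, 107, 2, 107, 1, 107, 2, 107, 1, 107],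
    [107, 1, 107, 2, 107, 1, 107, 2, 107, 1, 107, 2, 107, 1, 107],
    [107, 1, 107, 2, 107, 1, 107, 2, 107, 1, 107, 2, 107, 1, 107],
    [107, 1, 107, 2, 107, 1, 107, 2, 107, 1, 107, 2, 107, 1, 107],
    [107, 1, 107, 2, 107, 1, 107, 2, 107, 1, 107, 2, 107, 1, 107],
    [107, 1, 107, 2, 107, 1, 107, 2, 107, 1, 107, 2, 107, 1, 107],
    [107, 1, 107, 2, 107, 1, 107, 2, 107, 1, 107, 2, 107, 1, 107]]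

/-- The origin of each move. -/
def mvSrc : List MvSrc :=
  [(23, false, 0, [[7], [7]]),
    (23, false, 1, [[7], [7]]),
    (23, false, 2, [[7], [7]]),
    (24, false, 0, [[3], [6], [3]]),
    (24, true, 1, [[2], [6], [2]]),
    (25, false, 0, [[3, 0, 0, 3, 1], [6], [0, 3, 1, 1, 3]]),
    (25, true, 5, [[0, 2, 1, 1, 2], [6], [2, 0, 0, 2, 1]]),
    (26, false, 0, [[0, 0, 3, 1, 1, 3, 5, 1, 1, 5, 1, 3], [6], [0, 0, 5, 1, 5, 1]]),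
    (26, true, 12, [[2, 0, 4, 0, 0, 4, 2, 0, 0, 2, 1, 1], [6], [0, 4, 0, 4, 1, 1]]),
    (27, false, 3, [[0, 5, 1], [7], [3, 0, 0, 3, 5, 1]]),
    (27, false, 10, [[3, 0, 0, 3, 5, 1], [7], [0, 5, 1]]),
    (28, false, 0, [[0, 0, 3, 1, 1], [7], [0, 0, 3, 1, 1], [7], [0, 0, 3, 1, 1], [7], [0, 0, 3, 1, 1], [7], [0, 0, 3, 1, 1], [7], [0, 0, 3, 1, 1], [7], [0, 0, 3, 1, 1], [7], [0, 0, 3, 1, 1], [7], [0, 0, 3, 1, 1], [7], [0, 0, 3, 1, 1]]),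
    (28, false, 6, [[0, 0, 3, 1, 1], [7], [0, 0, 3, 1, 1], [7], [0, 0, 3, 1, 1], [7], [0, 0, 3, 1, 1], [7], [0, 0, 3, 1, 1], [7], [0, 0, 3, 1, 1], [7], [0, 0, 3, 1, 1], [7], [0, 0, 3, 1, 1], [7], [0, 0, 3, 1, 1], [7], [0, 0, 3, 1, 1]]),
    (28, false, 12, [[0, 0, 3, 1, 1], [7], [0, 0, 3, 1, 1], [7], [0, 0, 3, 1, 1], [7], [0, 0, 3, 1, 1], [7], [0, 0, 3, 1, 1], [7], [0, 0, 3, 1, 1], [7], [0, 0, 3, 1, 1], [7], [0, 0, 3, 1, 1], [7], [0, 0, 3, 1, 1], [7], [0, 0, 3, 1, 1]]),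
    (28, false, 18, [[0, 0, 3, 1, 1], [7], [0, 0, 3, 1, 1], [7], [0, 0, 3, 1, 1], [7], [0, 0, 3, 1, 1], [7], [0, 0, 3, 1, 1], [7], [0, 0, 3, 1, 1], [7], [0, 0, 3, 1, 1], [7], [0, 0, 3, 1, 1], [7], [0, 0, 3, 1, 1], [7], [0, 0, 3, 1, 1]]),
    (28, false, 24, [[0, 0, 3, 1, 1], [7], [0, 0, 3, 1, 1], [7], [0, 0, 3, 1, 1], [7], [0, 0, 3, 1, 1], [7], [0, 0, 3, 1, 1], [7], [0, 0, 3, 1, 1], [7], [0, 0, 3, 1, 1], [7], [0, 0, 3, 1, 1], [7], [0, 0, 3, 1, 1], [7], [0, 0, 3, 1, 1]]),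
    (28, false, 30, [[0, 0, 3, 1, 1], [7], [0, 0, 3, 1, 1], [7], [0, 0, 3, 1, 1], [7], [0, 0, 3, 1, 1], [7], [0, 0, 3, 1, 1], [7], [0, 0, 3, 1, 1], [7], [0, 0, 3, 1, 1], [7], [0, 0, 3, 1, 1], [7], [0, 0, 3, 1, 1], [7], [0, 0, 3, 1, 1]]),
    (28, false, 36, [[0, 0, 3, 1, 1], [7], [0, 0, 3, 1, 1], [7], [0, 0, 3, 1, 1], [7], [0, 0, 3, 1, 1], [7], [0, 0, 3, 1, 1], [7], [0, 0, 3, 1, 1], [7], [0, 0, 3, 1, 1], [7], [0, 0, 3, 1, 1], [7], [0, 0, 3, 1, 1], [7], [0, 0, 3, 1, 1]]),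
    (28, false, 42, [[0, 0, 3, 1, 1], [7], [0, 0, 3, 1, 1], [7], [0, 0, 3, 1, 1], [7], [0, 0, 3, 1, 1], [7], [0, 0, 3, 1, 1], [7], [0, 0, 3, 1, 1], [7], [0, 0, 3, 1, 1], [7], [0, 0, 3, 1, 1], [7], [0, 0, 3, 1, 1], [7], [0, 0, 3, 1, 1]]),
    (28, false, 48, [[0, 0, 3, 1, 1], [7], [0, 0, 3, 1, 1], [7], [0, 0, 3, 1, 1], [7], [0, 0, 3, 1, 1], [7], [0, 0, 3, 1, 1], [7], [0, 0, 3, 1, 1], [7], [0, 0, 3, 1, 1], [7], [0, 0, 3, 1, 1], [7], [0, 0, 3, 1, 1], [7], [0, 0, 3, 1, 1]]),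
    (28, false, 54, [[0, 0, 3, 1, 1], [7], [0, 0, 3, 1, 1], [7], [0, 0, 3, 1, 1], [7], [0, 0, 3, 1, 1], [7], [0, 0, 3, 1, 1], [7], [0, 0, 3, 1, 1], [7], [0, 0, 3, 1, 1], [7], [0, 0, 3, 1, 1], [7], [0, 0, 3, 1, 1], [7], [0, 0, 3, 1, 1]]),
    (29, false, 0, [[0, 0, 3, 1, 1], [6], [0, 0, 3, 1, 1], [7], [0, 0, 3, 1, 1], [6], [0, 0, 3, 1, 1], [7], [0, 0, 3, 1, 1], [6], [0, 0, 3, 1, 1], [7], [0, 0, 3, 1, 1], [6], [0, 0, 3, 1, 1]]),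
    (29, false, 12, [[0, 0, 3, 1, 1], [6], [0, 0, 3, 1, 1], [7], [0, 0, 3, 1, 1], [6], [0, 0, 3, 1, 1], [7], [0, 0, 3, 1, 1], [6], [0, 0, 3, 1, 1], [7], [0, 0, 3, 1, 1], [6], [0, 0, 3, 1, 1]]),
    (29, false, 24, [[0, 0, 3, 1, 1], [6], [0, 0, 3, 1, 1], [7], [0, 0, 3, 1, 1], [6], [0, 0, 3, 1, 1], [7], [0, 0, 3, 1, 1], [6], [0, 0, 3, 1, 1], [7], [0, 0, 3, 1, 1], [6], [0, 0, 3, 1, 1]]),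
    (29, false, 36, [[0, 0, 3, 1, 1], [6], [0, 0, 3, 1, 1], [7], [0, 0, 3, 1, 1], [6], [0, 0, 3, 1, 1], [7], [0, 0, 3, 1, 1], [6], [0, 0, 3, 1, 1], [7], [0, 0, 3, 1, 1], [6], [0, 0, 3, 1, 1]]),
    (29, true, 5, [[0, 0, 2, 1, 1], [6], [0, 0, 2, 1, 1], [7], [0, 0, 2, 1, 1], [6], [0, 0, 2, 1, 1], [7], [0, 0, 2, 1, 1], [6], [0, 0, 2, 1, 1], [7], [0, 0, 2, 1, 1], [6], [0, 0, 2, 1, 1]]),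
    (29, true, 17, [[0, 0, 2, 1, 1], [6], [0, 0, 2, 1, 1], [7], [0, 0, 2, 1, 1], [6], [0, 0, 2, 1, 1], [7], [0, 0, 2, 1, 1], [6], [0, 0, 2, 1, 1], [7], [0, 0, 2, 1, 1], [6], [0, 0, 2, 1, 1]]),
    (29, true, 29, [[0, 0, 2, 1, 1], [6], [0, 0, 2, 1, 1], [7], [0, 0, 2, 1, 1], [6], [0, 0, 2, 1, 1], [7], [0, 0, 2, 1, 1], [6], [0, 0, 2, 1, 1], [7], [0, 0, 2, 1, 1], [6], [0, 0, 2, 1, 1]]),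
    (29, true, 41, [[0, 0, 2, 1, 1], [6], [0, 0, 2, 1, 1], [7], [0, 0, 2, 1, 1], [6], [0, 0, 2, 1, 1], [7], [0, 0, 2, 1, 1], [6], [0, 0, 2, 1, 1], [7], [0, 0, 2, 1, 1], [6], [0, 0, 2, 1, 1]])]

/-- The certificate. -/
noncomputable def cert : Cert := mkCert fcs pars mvs 64 29

/-- The justifications. -/
def pf (f : ℕ) : Pf := (pfs.getD (f / 64) []).getD (f % 64) ⟨0, 0, 0, 0, [], []⟩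

theorem facts_ok : allBelow nFacts (fun f => factB cert f (cert.fact f) (pf f)) = true := by
  decide +kernel

/-- The double cosets. -/
def roots : List ℕ :=
  [0, 1, 3, 4, 8, 9]

/-- The edges leaving the double cosets. -/
def cover : List (List (List Step)) :=
  [[[(5, 0, 0), (1, 0, 0)], [(5, 1, 0), (1, 0, 0)], [(5, 2, 0), (1, 0, 0)], [(5, 5, 0), (1, 0, 0)], [(5, 8, 0), (1, 0, 0)], [(5, 14, 0), (1, 0, 0)], [(5, 15, 0), (1, 0, 0)], [(5, 21, 0), (1, 0, 0)], [(5, 22, 0), (1, 0, 0)], [(5, 29, 0), (1, 0, 0)]],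
    [[(1, 5, 0), (3, 11, 0)], [(1, 6, 0)], [(3, 3, 0), (1, 6, 12)], [(3, 1, 0), (1, 6, 18)], [(3, 1, 0), (3, 3, 0), (1, 6, 38)], [(3, 4, 0), (3, 1, 0), (1, 6, 126)], [(3, 1, 0), (3, 4, 0), (3, 3, 0), (1, 6, 19)], [(3, 1, 0), (3, 4, 0), (3, 1, 0), (1, 6, 87)], [(1, 12, 2)], [(3, 4, 0), (3, 3, 0), (1, 6, 5)]],
    [[(1, 14, 0)], [(1, 15, 0)], [(3, 9, 0), (1, 15, 115)], [(3, 8, 0), (1, 15, 2)], [(3, 8, 0), (3, 8, 0), (1, 15, 38)], [(3, 7, 0), (1, 15, 150)], [(3, 7, 0), (3, 9, 0), (1, 15, 85)], [(3, 7, 0), (3, 8, 0), (1, 15, 35)], [(1, 13, 0)], [(3, 7, 0), (3, 8, 0), (3, 8, 0), (1, 15, 107)]],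
    [[(1, 17, 0), (3, 20, 0)], [(3, 16, 0), (3, 106, 0), (1, 17, 58), (3, 20, 0)], [(3, 106, 0), (1, 21, 27)], [(3, 16, 0), (3, 16, 0), (3, 106, 0), (1, 21, 166)], [(1, 24, 0)], [(3, 16, 0), (3, 106, 0), (1, 21, 111)], [(3, 106, 0), (1, 17, 37), (3, 20, 0)], [(3, 16, 0), (3, 16, 0), (3, 106, 0), (1, 17, 67), (3, 20, 0)], [(1, 21, 92)], [(1, 26, 0)]],
    [[(1, 35, 0)], [(3, 33, 0), (1, 35, 154)], [(3, 25, 0), (3, 107, 0), (3, 33, 0), (1, 31, 77)], [(3, 107, 0), (3, 33, 0), (1, 31, 125)], [(3, 25, 0), (3, 25, 0), (3, 107, 0), (3, 33, 0), (1, 35, 130)], [(3, 33, 0), (1, 31, 154)], [(3, 25, 0), (3, 107, 0), (3, 33, 0), (1, 35, 77)], [(3, 107, 0), (3, 33, 0), (1, 35, 58)], [(1, 31, 0)], [(3, 25, 0), (3, 25, 0), (3, 107, 0), (3, 33, 0), (1, 31, 17)]],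
    [[(1, 36, 0)], [(3, 27, 0), (3, 108, 0), (3, 34, 0), (1, 36, 1)], [(3, 27, 0), (3, 27, 0), (3, 108, 0), (3, 34, 0), (1, 32, 132)], [(3, 108, 0), (3, 34, 0), (1, 36, 86)], [(3, 34, 0), (1, 36, 43)], [(3, 27, 0), (3, 108, 0), (3, 34, 0), (1, 32, 103)], [(3, 27, 0), (3, 27, 0), (3, 108, 0), (3, 34, 0), (1, 36, 119)], [(3, 108, 0), (3, 34, 0), (1, 32, 111)], [(1, 32, 0)], [(3, 34, 0), (1, 32, 95)]]]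

theorem cover_ok : coverB cert nFacts roots cover = true := by decide +kernel

end Cfsg.Agent.Lib.J3Uniq.Alt0
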