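import Cfsg.Agent.Lib.J3Uniq.Moves

/-!
# Uniqueness of the third Janko group: the amalgam with the value `k⁻¹` of `(r c r⁻¹ c) ^ 4`

Produced by a double coset enumeration program.

Owner: helper74.
-/

set_option autoImplicit false
set_option maxRecDepth 100000

namespace Cfsg.Agent.Lib.J3Uniq.Alt1

open Cfsg.Agent.Lib.CosetEnum

/-- Facts, block 0. -/
def fc0 : List Fc :=
  [⟨0, 0, 1, 1, 0, 0⟩, ⟨1, 3, 0, 1, 3, 0⟩, ⟨1, 1015, 0, 1, 4, 0⟩, ⟨1, 59, 0, 1, 59, 0⟩, ⟨1, 536, 0, 1, 290, 0⟩, ⟨1, 0, 1, 2, 0, 0⟩, ⟨1, 1, 1, 3, 0, 0⟩, ⟨3, 594, 0, 3, 4, 0⟩, ⟨3, 152, 0, 3, 176, 0⟩, ⟨3, 1825, 0, 3, 724, 0⟩, ⟨1, 22, 1, 4, 0, 0⟩, ⟨3, 0, 1, 8, 0, 0⟩, ⟨3, 1, 1, 9, 0, 0⟩, ⟨9, 282, 0, 9, 1038, 0⟩, ⟨3, 22, 1, 10, 0, 0⟩, ⟨4, 0, 1, 11, 0, 0⟩, ⟨9, 0, 1, 26, 0, 0⟩, ⟨9, 1, 1, 27, 0,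 0⟩, ⟨9, 2, 1, 28, 0, 0⟩, ⟨9, 8, 1, 29, 0, 0⟩, ⟨29, 920, 0, 29, 1038, 0⟩, ⟨9, 22, 1, 30, 0, 0⟩, ⟨9, 29, 1, 31, 0, 0⟩, ⟨31, 940, 0, 31, 1038, 0⟩, ⟨10, 0, 1, 32, 0, 0⟩, ⟨11, 0, 1, 1, 0, 22⟩, ⟨26, 0, 1, 3, 0, 1⟩, ⟨32, 0, 1, 3, 0, 22⟩, ⟨11, 0, 0, 2, 0, 270⟩, ⟨4, 0, 0, 0, 0, 371⟩, ⟨2, 0, 0, 1, 22, 270⟩, ⟨32, 0, 0, 8, 0, 270⟩, ⟨26, 0, 0, 9, 4, 651⟩, ⟨30, 0, 0, 3, 4, 1645⟩, ⟨10, 0, 0, 1, 0, 509⟩, ⟨8, 0, 0, 3, 580, 770⟩, ⟨27, 22, 1, 9, 0, 509⟩, ⟨28, 22, 1, 9, 0, 632⟩, ⟨29, 22, 1, 9, 0, 1019⟩, ⟨31, 22, 1, 9, 0, 597⟩, ⟨29, 831, 1, 31, 172, 396⟩, ⟨27, 0, 1, 28, 1038, 197⟩, ⟨28, 0, 1, 27, 1044, 1557⟩, ⟨31, 0, 1, 29, 0, 270⟩, ⟨31, 8, 1, 29, 154, 1352⟩, ⟨27, 1, 1, 36, 0, 0⟩, ⟨27, 2, 1, 37, 0, 0⟩, ⟨27, 5, 1, 38, 0, 0⟩, ⟨27, 8, 1, 39, 0, 0⟩, ⟨27, 14, 1, 40, 0, 0⟩, ⟨27, 21,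 1, 42, 0, 0⟩, ⟨27, 29, 1, 43, 0, 0⟩, ⟨28, 1, 1, 44, 0, 0⟩, ⟨28, 2, 1, 45, 0, 0⟩, ⟨28, 5, 1, 46, 0, 0⟩, ⟨28, 8, 1, 47, 0, 0⟩, ⟨28, 14, 1, 48, 0, 0⟩, ⟨28, 15, 1, 49, 0, 0⟩, ⟨28, 21, 1, 50, 0, 0⟩, ⟨28, 29, 1, 51, 0, 0⟩, ⟨29, 2, 1, 52, 0, 0⟩, ⟨29, 8, 1, 53, 0, 0⟩, ⟨29, 14, 1, 54, 0, 0⟩, ⟨54, 1458, 0, 54, 1038, 0⟩]

/-- Justifications, block 0. -/
def pf0 : List Pf :=
  [⟨0, 0, 0, 0, [], []⟩,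
    ⟨0, 3, 2, 0, [(1, 0, 1)], [(5, 3, 0), (1, 0, 0)]⟩,
    ⟨0, 4, 2, 0, [(1, 0, 11)], [(5, 4, 0), (1, 0, 0)]⟩,
    ⟨0, 11, 2, 0, [(5, 5, 0), (1, 0, 12)], [(5, 11, 0), (1, 0, 0)]⟩,
    ⟨0, 28, 2, 0, [(5, 22, 0), (1, 0, 98)], [(5, 28, 0), (1, 0, 0)]⟩,
    ⟨0, 0, 0, 0, [], []⟩,
    ⟨0, 0, 0, 0, [], []⟩,
    ⟨1, 823, 2, 0, [(1, 6, 150)], [(3, 2, 0), (1, 6, 0)]⟩,
    ⟨1, 16, 2, 0, [(3, 1, 0), (1, 6, 13)], [(3, 3, 0), (3, 1, 0), (1, 6, 0)]⟩,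
    ⟨1, 679, 2, 0, [(3, 1, 0), (1, 6, 104)], [(3, 4, 0), (1, 6, 0)]⟩,
    ⟨0, 0, 0, 0, [], []⟩,
    ⟨0, 0, 0, 0, [], []⟩,
    ⟨0, 0, 0, 0, [], []⟩,
    ⟨3, 963, 2, 0, [(3, 9, 0), (1, 12, 25)], [(3, 8, 0), (3, 9, 0), (1, 12, 0)]⟩,
    ⟨0, 0, 0, 0, [], []⟩,
    ⟨0, 0, 0, 0, [], []⟩,
    ⟨0, 0, 0, 0, [], []⟩,
    ⟨0, 0, 0, 0, [], []⟩,
    ⟨0, 0, 0, 0, [], []⟩,
    ⟨0, 0, 0, 0, [], []⟩,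
    ⟨9, 564, 2, 0, [(1, 19, 60)], [(3, 13, 0), (1, 19, 0)]⟩,
    ⟨0, 0, 0, 0, [], []⟩,
    ⟨0, 0, 0, 0, [], []⟩,
    ⟨9, 1382, 2, 0, [(1, 22, 62)], [(3, 13, 0), (1, 22, 0)]⟩,
    ⟨0, 0, 0, 0, [], []⟩,
    ⟨11, 0, 1, 0, [(2, 15, 0), (2, 10, 0)], []⟩,
    ⟨26, 0, 1, 0, [(2, 16, 0), (2, 12, 0)], []⟩,
    ⟨32, 0, 1, 0, [(2, 24, 0), (2, 14, 0)], []⟩,
    ⟨1, 0, 2, 9, [(0, 22, 0), (2, 25, 0), (0, 371, 0)], [(1, 5, 0)]⟩,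
    ⟨1, 22, 2, 9, [(1, 10, 0)], [(0, 22, 0), (2, 0, 0), (0, 371, 0)]⟩,
    ⟨0, 371, 2, 0, [(4, 29, 0), (1, 15, 0), (3, 28, 0)], [(5, 22, 0), (1, 0, 2)]⟩,
    ⟨3, 0, 2, 9, [(0, 22, 0), (2, 27, 0), (0, 371, 0)], [(1, 11, 0)]⟩,
    ⟨3, 1, 2, 9, [(0, 22, 0), (3, 7, 0), (2, 26, 46), (0, 371, 0)], [(1, 12, 0)]⟩,
    ⟨9, 651, 2, 0, [(1, 21, 84)], [(4, 32, 0), (1, 26, 0)]⟩,
    ⟨3, 22, 2, 9, [(1, 14, 0)], [(0, 22, 0), (2, 6, 0), (0, 371, 0)]⟩,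
    ⟨1, 509, 2, 0, [(4, 34, 0), (1, 24, 0), (3, 31, 0)], [(3, 4, 0), (3, 1, 0), (1, 6, 179)]⟩,
    ⟨27, 22, 1, 9, [(0, 22, 0), (2, 17, 0), (0, 371, 0)], []⟩,
    ⟨28, 22, 1, 9, [(0, 22, 0), (2, 18, 0), (0, 371, 0)], []⟩,
    ⟨29, 22, 1, 9, [(0, 22, 0), (2, 19, 0), (0, 371, 0)], []⟩,
    ⟨31, 22, 1, 9, [(0, 22, 0), (2, 22, 0), (0, 371, 0)], []⟩,
    ⟨29, 831, 1, 21, [(0, 1054, 0), (1, 38, 100), (0, 104, 0), (2, 12, 95), (0, 104, 0), (1, 14, 123), (3, 34, 0), (0, 104, 0), (2, 25, 84), (3, 28, 0), (3, 30, 0), (0, 104, 0), (3, 4, 0), (3, 3, 0), (1, 6, 3), (0, 104, 0), (3, 7, 0), (2, 26, 167), (3, 32, 0), (0, 104, 0), (1, 22, 117), (0, 104, 0)], []⟩,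
    ⟨27, 0, 1, 0, [(2, 17, 0), (3, 13, 0), (2, 37, 130)], []⟩,
    ⟨28, 0, 1, 0, [(2, 18, 0), (3, 13, 0), (3, 13, 0), (2, 36, 190)], []⟩,
    ⟨31, 0, 1, 0, [(2, 22, 0), (2, 38, 7)], []⟩,
    ⟨31, 8, 1, 9, [(0, 22, 0), (2, 40, 157), (0, 371, 0)], []⟩,
    ⟨0, 0, 0, 0, [], []⟩,
    ⟨0, 0, 0, 0, [], []⟩,
    ⟨0, 0, 0, 0, [], []⟩,
    ⟨0, 0, 0, 0, [], []⟩,
    ⟨0, 0, 0, 0, [], []⟩,
    ⟨0, 0, 0, 0, [], []⟩,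
    ⟨0, 0, 0, 0, [], []⟩,
    ⟨0, 0, 0, 0, [], []⟩,
    ⟨0, 0, 0, 0, [], []⟩,
    ⟨0, 0, 0, 0, [], []⟩,
    ⟨0, 0, 0, 0, [], []⟩,
    ⟨0, 0, 0, 0, [], []⟩,
    ⟨0, 0, 0, 0, [], []⟩,
    ⟨0, 0, 0, 0, [], []⟩,
    ⟨0, 0, 0, 0, [], []⟩,
    ⟨0, 0, 0, 0, [], []⟩,
    ⟨0, 0, 0, 0, [], []⟩,
    ⟨0, 0, 0, 0, [], []⟩,
    ⟨29, 973, 2, 0, [(1, 62, 73)], [(3, 20, 0), (1, 62, 0)]⟩]

/-- Facts, block 1. -/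
def fc1 : List Fc :=
  [⟨31, 1, 1, 55, 0, 0⟩, ⟨31, 2, 1, 56, 0, 0⟩, ⟨31, 29, 1, 57, 0, 0⟩, ⟨36, 0, 1, 58, 0, 0⟩, ⟨36, 1, 1, 59, 0, 0⟩, ⟨36, 2, 1, 60, 0, 0⟩, ⟨36, 8, 1, 62, 0, 0⟩, ⟨36, 14, 1, 63, 0, 0⟩, ⟨36, 15, 1, 64, 0, 0⟩, ⟨36, 22, 1, 66, 0, 0⟩, ⟨36, 29, 1, 67, 0, 0⟩, ⟨54, 0, 1, 31, 172, 1065⟩, ⟨57, 0, 1, 29, 154, 1742⟩, ⟨58, 0, 1, 27, 0, 1⟩, ⟨58, 0, 0, 40, 0, 335⟩, ⟨40, 335, 1, 27, 0, 1⟩, ⟨57, 0, 0, 54, 154, 511⟩, ⟨66, 0, 0, 27, 0, 509⟩, ⟨38, 22, 1, 27, 0, 854⟩, ⟨39, 22, 1, 27, 0, 1019⟩, ⟨43, 22, 1, 27, 0, 597⟩, ⟨44, 22, 1, 28, 0, 509⟩, ⟨45, 22, 1, 28, 0, 632⟩, ⟨46, 22, 1, 28, 0, 854⟩, ⟨47, 22, 1, 28, 0, 1019⟩, ⟨48, 22, 1, 28, 0, 1209⟩, ⟨49, 22, 1, 28, 0, 322⟩, ⟨50, 22, 1, 28, 0, 1359⟩, ⟨51, 22, 1, 28, 0, 597⟩, ⟨52, 22, 1, 29, 0, 632⟩, ⟨53, 22, 1, 29, 0,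 1019⟩, ⟨56, 22, 1, 31, 0, 632⟩, ⟨59, 22, 1, 36, 0, 509⟩, ⟨60, 22, 1, 36, 0, 632⟩, ⟨63, 22, 1, 36, 0, 1209⟩, ⟨64, 22, 1, 36, 0, 322⟩, ⟨67, 22, 1, 36, 0, 597⟩, ⟨39, 831, 1, 43, 580, 1424⟩, ⟨43, 74, 1, 27, 1911, 690⟩, ⟨43, 1461, 0, 43, 1911, 0⟩, ⟨44, 10, 1, 48, 1906, 15⟩, ⟨44, 49, 1, 48, 1826, 1484⟩, ⟨44, 929, 0, 44, 13, 0⟩, ⟨48, 169, 1, 28, 1826, 1918⟩, ⟨48, 1370, 0, 48, 1826, 0⟩, ⟨54, 617, 1, 54, 469, 641⟩, ⟨67, 74, 1, 53, 259, 1440⟩, ⟨39, 861, 0, 39, 1853, 0⟩, ⟨42, 0, 1, 38, 0, 335⟩, ⟨46, 0, 1, 50, 0, 335⟩, ⟨47, 0, 1, 51, 0, 270⟩, ⟨50, 0, 1, 46, 0, 335⟩, ⟨51, 0, 1, 47, 0, 270⟩, ⟨55, 0, 1, 56, 1044, 699⟩, ⟨62, 0, 1, 67, 0, 270⟩, ⟨63, 0, 1, 59, 0, 335⟩, ⟨64, 0, 1, 60, 0, 270⟩, ⟨53, 15, 1, 67, 369, 1777⟩, ⟨62, 612, 1, 46, 118, 240⟩, ⟨46, 2, 1, 62, 176, 1085⟩,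 ⟨37, 14, 1, 73, 0, 0⟩, ⟨37, 21, 1, 75, 0, 0⟩, ⟨38, 1, 1, 77, 0, 0⟩, ⟨38, 14, 1, 80, 0, 0⟩]

/-- Justifications, block 1. -/
def pf1 : List Pf :=
  [⟨0, 0, 0, 0, [], []⟩,
    ⟨0, 0, 0, 0, [], []⟩,
    ⟨0, 0, 0, 0, [], []⟩,
    ⟨0, 0, 0, 0, [], []⟩,
    ⟨0, 0, 0, 0, [], []⟩,
    ⟨0, 0, 0, 0, [], []⟩,
    ⟨0, 0, 0, 0, [], []⟩,
    ⟨0, 0, 0, 0, [], []⟩,
    ⟨0, 0, 0, 0, [], []⟩,
    ⟨0, 0, 0, 0, [], []⟩,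
    ⟨0, 0, 0, 0, [], []⟩,
    ⟨54, 0, 1, 0, [(2, 62, 0), (2, 44, 77)], []⟩,
    ⟨57, 0, 1, 0, [(2, 66, 0), (2, 40, 157)], []⟩,
    ⟨58, 0, 1, 0, [(2, 67, 0), (2, 45, 0)], []⟩,
    ⟨27, 14, 2, 9, [(0, 22, 0), (2, 77, 140), (0, 371, 0)], [(1, 49, 0)]⟩,
    ⟨40, 335, 1, 0, [(4, 78, 0), (1, 77, 0)], []⟩,
    ⟨29, 14, 2, 9, [(0, 22, 0), (2, 76, 80), (0, 371, 0)], [(1, 62, 0)]⟩,
    ⟨36, 22, 2, 9, [(1, 73, 0)], [(0, 22, 0), (2, 45, 0), (0, 371, 0)]⟩,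
    ⟨38, 22, 1, 9, [(0, 22, 0), (2, 47, 0), (0, 371, 0)], []⟩,
    ⟨39, 22, 1, 9, [(0, 22, 0), (2, 48, 0), (0, 371, 0)], []⟩,
    ⟨43, 22, 1, 9, [(0, 22, 0), (2, 51, 0), (0, 371, 0)], []⟩,
    ⟨44, 22, 1, 9, [(0, 22, 0), (2, 52, 0), (0, 371, 0)], []⟩,
    ⟨45, 22, 1, 9, [(0, 22, 0), (2, 53, 0), (0, 371, 0)], []⟩,
    ⟨46, 22, 1, 9, [(0, 22, 0), (2, 54, 0), (0, 371, 0)], []⟩,
    ⟨47, 22, 1, 9, [(0, 22, 0), (2, 55, 0), (0, 371, 0)], []⟩,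
    ⟨48, 22, 1, 9, [(0, 22, 0), (2, 56, 0), (0, 371, 0)], []⟩,
    ⟨49, 22, 1, 9, [(0, 22, 0), (2, 57, 0), (0, 371, 0)], []⟩,
    ⟨50, 22, 1, 9, [(0, 22, 0), (2, 58, 0), (0, 371, 0)], []⟩,
    ⟨51, 22, 1, 9, [(0, 22, 0), (2, 59, 0), (0, 371, 0)], []⟩,
    ⟨52, 22, 1, 9, [(0, 22, 0), (2, 60, 0), (0, 371, 0)], []⟩,
    ⟨53, 22, 1, 9, [(0, 22, 0), (2, 61, 0), (0, 371, 0)], []⟩,
    ⟨56, 22, 1, 9, [(0, 22, 0), (2, 65, 0), (0, 371, 0)], []⟩,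
    ⟨59, 22, 1, 9, [(0, 22, 0), (2, 68, 0), (0, 371, 0)], []⟩,
    ⟨60, 22, 1, 9, [(0, 22, 0), (2, 69, 0), (0, 371, 0)], []⟩,
    ⟨63, 22, 1, 9, [(0, 22, 0), (2, 71, 0), (0, 371, 0)], []⟩,
    ⟨64, 22, 1, 9, [(0, 22, 0), (2, 72, 0), (0, 371, 0)], []⟩,
    ⟨67, 22, 1, 9, [(0, 22, 0), (2, 74, 0), (0, 371, 0)], []⟩,
    ⟨39, 831, 1, 21, [(0, 1054, 0), (1, 83, 100), (0, 104, 0), (2, 17, 95), (0, 104, 0), (1, 21, 123), (3, 33, 0), (0, 104, 0), (2, 27, 58), (3, 31, 0), (3, 35, 0), (0, 104, 0), (3, 7, 0), (1, 12, 27), (0, 104, 0), (2, 36, 173), (0, 104, 0), (1, 51, 127), (0, 104, 0)], []⟩,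
    ⟨43, 74, 1, 21, [(0, 1054, 0), (1, 84, 146), (0, 104, 0), (2, 17, 177), (0, 104, 0), (1, 21, 59), (3, 33, 0), (0, 104, 0), (2, 6, 93), (0, 104, 0), (3, 4, 0), (3, 3, 0), (1, 6, 126), (0, 104, 0), (3, 7, 0), (3, 9, 0), (2, 26, 20), (3, 32, 0), (0, 104, 0), (3, 13, 0), (3, 13, 0), (1, 17, 131), (0, 104, 0)], []⟩,
    ⟨27, 690, 2, 0, [(2, 84, 49)], [(2, 102, 0)]⟩,
    ⟨44, 10, 1, 21, [(0, 1054, 0), (1, 85, 95), (0, 104, 0), (2, 18, 188), (0, 104, 0), (1, 21, 177), (3, 33, 0), (0, 104, 0), (2, 27, 0), (3, 31, 0), (3, 35, 0), (0, 104, 0), (3, 8, 0), (3, 8, 0), (1, 12, 134), (0, 104, 0), (3, 13, 0), (2, 37, 11), (0, 104, 0), (1, 56, 156), (0, 104, 0)], []⟩,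
    ⟨44, 49, 1, 21, [(0, 1054, 0), (1, 104, 24), (0, 104, 0), (2, 56, 187), (0, 104, 0), (1, 42, 188), (0, 104, 0), (2, 84, 110), (0, 104, 0), (1, 102, 150), (0, 104, 0), (2, 42, 168), (0, 104, 0), (1, 56, 154), (0, 104, 0)], []⟩,
    ⟨48, 1484, 2, 0, [(2, 104, 47)], [(2, 105, 0)]⟩,
    ⟨48, 169, 1, 21, [(0, 1054, 0), (1, 89, 85), (0, 104, 0), (2, 18, 24), (0, 104, 0), (1, 21, 22), (3, 33, 0), (0, 104, 0), (2, 6, 11), (0, 104, 0), (3, 1, 0), (3, 4, 0), (3, 1, 0), (1, 6, 179), (0, 104, 0), (3, 8, 0), (3, 8, 0), (2, 26, 132), (3, 32, 0), (0, 104, 0), (3, 13, 0), (1, 18, 47), (0, 104, 0)], []⟩,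
    ⟨28, 1918, 2, 0, [(2, 89, 41)], [(2, 107, 0)]⟩,
    ⟨54, 617, 1, 21, [(0, 1054, 0), (1, 75, 39), (0, 104, 0), (2, 22, 55), (0, 104, 0), (1, 21, 6), (3, 33, 0), (0, 104, 0), (2, 27, 101), (3, 31, 0), (3, 35, 0), (0, 104, 0), (3, 9, 0), (1, 12, 19), (0, 104, 0), (2, 38, 174), (0, 104, 0), (1, 62, 34), (0, 104, 0)], []⟩,
    ⟨67, 74, 1, 21, [(0, 1054, 0), (1, 100, 146), (0, 104, 0), (2, 45, 177), (0, 104, 0), (1, 36, 59), (0, 104, 0), (2, 12, 133), (0, 104, 0), (3, 7, 0), (3, 8, 0), (3, 8, 0), (1, 12, 111), (0, 104, 0), (2, 38, 67), (0, 104, 0), (1, 61, 161), (0, 104, 0)], []⟩,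
    ⟨27, 716, 2, 22, [(0, 104, 0), (1, 41, 36), (0, 104, 0), (2, 85, 158), (0, 1054, 0), (1, 104, 182), (0, 104, 0), (3, 108, 0), (2, 104, 108), (0, 104, 0), (1, 85, 131), (0, 104, 0), (2, 41, 16), (0, 104, 0), (1, 48, 58), (0, 104, 0)], [(1, 48, 155)]⟩,
    ⟨42, 0, 1, 0, [(2, 50, 0), (2, 82, 23)], []⟩,
    ⟨46, 0, 1, 0, [(2, 54, 0), (2, 91, 23)], []⟩,
    ⟨47, 0, 1, 0, [(2, 55, 0), (2, 92, 7)], []⟩,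
    ⟨50, 0, 1, 0, [(2, 58, 0), (2, 87, 23)], []⟩,
    ⟨51, 0, 1, 0, [(2, 59, 0), (2, 88, 7)], []⟩,
    ⟨55, 0, 1, 0, [(2, 64, 0), (3, 23, 0), (3, 23, 0), (2, 95, 126)], []⟩,
    ⟨62, 0, 1, 0, [(2, 70, 0), (2, 100, 7)], []⟩,
    ⟨63, 0, 1, 0, [(2, 71, 0), (2, 96, 23)], []⟩,
    ⟨64, 0, 1, 0, [(2, 72, 0), (2, 97, 7)], []⟩,
    ⟨53, 15, 1, 9, [(0, 22, 0), (2, 110, 60), (0, 371, 0)], []⟩,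
    ⟨62, 612, 1, 21, [(0, 1054, 0), (1, 118, 97), (0, 104, 0), (2, 121, 64), (0, 104, 0), (1, 94, 154), (0, 104, 0), (2, 19, 117), (0, 104, 0), (1, 16, 146), (3, 32, 0), (0, 104, 0), (2, 37, 40), (0, 104, 0), (1, 54, 67), (0, 104, 0)], []⟩,
    ⟨46, 2, 1, 9, [(0, 22, 0), (2, 122, 105), (0, 371, 0)], []⟩,
    ⟨0, 0, 0, 0, [], []⟩,
    ⟨0, 0, 0, 0, [], []⟩,
    ⟨0, 0, 0, 0, [], []⟩,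
    ⟨0, 0, 0, 0, [], []⟩]

/-- Facts, block 2. -/
def fc2 : List Fc :=
  [⟨39, 5, 1, 85, 0, 0⟩, ⟨85, 1909, 0, 85, 1853, 0⟩, ⟨39, 21, 1, 87, 0, 0⟩, ⟨87, 1392, 0, 87, 1853, 0⟩, ⟨40, 0, 1, 88, 0, 0⟩, ⟨40, 2, 1, 90, 0, 0⟩, ⟨40, 15, 1, 94, 0, 0⟩, ⟨40, 29, 1, 96, 0, 0⟩, ⟨88, 0, 1, 27, 0, 14⟩, ⟨88, 0, 0, 36, 0, 335⟩, ⟨73, 22, 1, 37, 0, 1209⟩, ⟨75, 22, 1, 37, 0, 1359⟩, ⟨80, 22, 1, 38, 0, 1209⟩, ⟨85, 22, 1, 39, 0, 854⟩, ⟨87, 22, 1, 39, 0, 1359⟩, ⟨90, 22, 1, 40, 0, 632⟩, ⟨94, 22, 1, 40, 0, 322⟩, ⟨96, 22, 1, 40, 0, 597⟩, ⟨56, 777, 1, 96, 940, 1424⟩, ⟨73, 169, 1, 52, 369, 582⟩, ⟨77, 0, 1, 80, 0, 335⟩, ⟨85, 0, 1, 87, 0, 335⟩, ⟨94, 0, 1, 90, 0, 270⟩, ⟨96, 8, 1, 56, 1113, 1318⟩, ⟨42, 5, 1, 107, 0, 0⟩, ⟨43, 2, 1, 114, 0, 0⟩, ⟨45, 2, 1, 122, 0, 0⟩, ⟨45, 14, 1, 125, 0, 0⟩, ⟨45,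 15, 1, 126, 0, 0⟩, ⟨45, 21, 1, 127, 0, 0⟩, ⟨46, 1, 1, 129, 0, 0⟩, ⟨46, 8, 1, 131, 0, 0⟩, ⟨46, 29, 1, 134, 0, 0⟩, ⟨47, 1, 1, 135, 0, 0⟩, ⟨107, 22, 1, 42, 0, 854⟩, ⟨114, 22, 1, 43, 0, 632⟩, ⟨125, 22, 1, 45, 0, 1209⟩, ⟨126, 22, 1, 45, 0, 322⟩, ⟨129, 22, 1, 46, 0, 509⟩, ⟨131, 22, 1, 46, 0, 1019⟩, ⟨134, 22, 1, 46, 0, 597⟩, ⟨135, 22, 1, 47, 0, 509⟩, ⟨55, 696, 1, 127, 1088, 810⟩, ⟨49, 2, 1, 147, 0, 0⟩, ⟨49, 15, 1, 151, 0, 0⟩, ⟨50, 1, 1, 154, 0, 0⟩, ⟨51, 2, 1, 163, 0, 0⟩, ⟨52, 15, 1, 175, 0, 0⟩, ⟨147, 22, 1, 49, 0, 632⟩, ⟨154, 22, 1, 50, 0, 509⟩, ⟨163, 22, 1, 51, 0, 632⟩, ⟨175, 22, 1, 52, 0, 322⟩, ⟨63, 821, 1, 175, 852, 712⟩, ⟨151, 0, 1, 147, 0, 270⟩, ⟨175, 29, 1, 63, 837, 33⟩, ⟨54, 2, 1, 183, 0, 0⟩, ⟨54, 5, 1, 184, 0, 0⟩, ⟨54, 14, 1, 185, 0, 0⟩, ⟨185, 275, 0, 185,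 1038, 0⟩, ⟨55, 8, 1, 188, 0, 0⟩, ⟨55, 15, 1, 189, 0, 0⟩, ⟨59, 1, 1, 198, 0, 0⟩, ⟨59, 29, 1, 205, 0, 0⟩, ⟨60, 1, 1, 206, 0, 0⟩]

/-- Justifications, block 2. -/
def pf2 : List Pf :=
  [⟨0, 0, 0, 0, [], []⟩,
    ⟨39, 367, 2, 0, [(1, 128, 160)], [(3, 111, 0), (1, 128, 0)]⟩,
    ⟨0, 0, 0, 0, [], []⟩,
    ⟨39, 131, 2, 0, [(1, 130, 17)], [(3, 111, 0), (1, 130, 0)]⟩,
    ⟨0, 0, 0, 0, [], []⟩,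
    ⟨0, 0, 0, 0, [], []⟩,
    ⟨0, 0, 0, 0, [], []⟩,
    ⟨0, 0, 0, 0, [], []⟩,
    ⟨88, 0, 1, 0, [(2, 132, 0), (2, 49, 0)], []⟩,
    ⟨27, 1, 2, 9, [(0, 22, 0), (2, 136, 140), (0, 371, 0)], [(1, 45, 0)]⟩,
    ⟨73, 22, 1, 9, [(0, 22, 0), (2, 124, 0), (0, 371, 0)], []⟩,
    ⟨75, 22, 1, 9, [(0, 22, 0), (2, 125, 0), (0, 371, 0)], []⟩,
    ⟨80, 22, 1, 9, [(0, 22, 0), (2, 127, 0), (0, 371, 0)], []⟩,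
    ⟨85, 22, 1, 9, [(0, 22, 0), (2, 128, 0), (0, 371, 0)], []⟩,
    ⟨87, 22, 1, 9, [(0, 22, 0), (2, 130, 0), (0, 371, 0)], []⟩,
    ⟨90, 22, 1, 9, [(0, 22, 0), (2, 133, 0), (0, 371, 0)], []⟩,
    ⟨94, 22, 1, 9, [(0, 22, 0), (2, 134, 0), (0, 371, 0)], []⟩,
    ⟨96, 22, 1, 9, [(0, 22, 0), (2, 135, 0), (0, 371, 0)], []⟩,
    ⟨56, 777, 1, 21, [(0, 1054, 0), (1, 95, 99), (0, 104, 0), (2, 22, 78), (0, 104, 0), (1, 21, 159), (3, 33, 0), (0, 104, 0), (3, 9, 0), (2, 26, 85), (3, 32, 0), (0, 104, 0), (3, 13, 0), (3, 13, 0), (1, 17, 51), (0, 104, 0), (2, 77, 130), (3, 78, 0), (0, 104, 0), (1, 135, 127), (0, 104, 0)], []⟩,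
    ⟨73, 169, 1, 21, [(0, 1054, 0), (1, 138, 85), (0, 104, 0), (2, 46, 24), (0, 104, 0), (1, 36, 22), (0, 104, 0), (2, 12, 189), (0, 104, 0), (3, 7, 0), (3, 8, 0), (1, 12, 137), (0, 104, 0), (2, 38, 156), (0, 104, 0), (1, 60, 141), (0, 104, 0)], []⟩,
    ⟨77, 0, 1, 0, [(2, 126, 0), (2, 140, 23)], []⟩,
    ⟨85, 0, 1, 0, [(2, 128, 0), (2, 142, 23)], []⟩,
    ⟨94, 0, 1, 0, [(2, 134, 0), (2, 143, 7)], []⟩,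
    ⟨96, 8, 1, 9, [(0, 22, 0), (2, 146, 190), (0, 371, 0)], []⟩,
    ⟨0, 0, 0, 0, [], []⟩,
    ⟨0, 0, 0, 0, [], []⟩,
    ⟨0, 0, 0, 0, [], []⟩,
    ⟨0, 0, 0, 0, [], []⟩,
    ⟨0, 0, 0, 0, [], []⟩,
    ⟨0, 0, 0, 0, [], []⟩,
    ⟨0, 0, 0, 0, [], []⟩,
    ⟨0, 0, 0, 0, [], []⟩,
    ⟨0, 0, 0, 0, [], []⟩,
    ⟨0, 0, 0, 0, [], []⟩,
    ⟨107, 22, 1, 9, [(0, 22, 0), (2, 152, 0), (0, 371, 0)], []⟩,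
    ⟨114, 22, 1, 9, [(0, 22, 0), (2, 153, 0), (0, 371, 0)], []⟩,
    ⟨125, 22, 1, 9, [(0, 22, 0), (2, 155, 0), (0, 371, 0)], []⟩,
    ⟨126, 22, 1, 9, [(0, 22, 0), (2, 156, 0), (0, 371, 0)], []⟩,
    ⟨129, 22, 1, 9, [(0, 22, 0), (2, 158, 0), (0, 371, 0)], []⟩,
    ⟨131, 22, 1, 9, [(0, 22, 0), (2, 159, 0), (0, 371, 0)], []⟩,
    ⟨134, 22, 1, 9, [(0, 22, 0), (2, 160, 0), (0, 371, 0)], []⟩,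
    ⟨135, 22, 1, 9, [(0, 22, 0), (2, 161, 0), (0, 371, 0)], []⟩,
    ⟨55, 696, 1, 21, [(0, 1054, 0), (1, 117, 123), (0, 104, 0), (2, 151, 75), (0, 104, 0), (1, 145, 132), (0, 104, 0), (2, 49, 115), (0, 104, 0), (1, 41, 64), (0, 104, 0), (2, 86, 23), (0, 104, 0), (1, 157, 162), (0, 104, 0)], []⟩,
    ⟨0, 0, 0, 0, [], []⟩,
    ⟨0, 0, 0, 0, [], []⟩,
    ⟨0, 0, 0, 0, [], []⟩,
    ⟨0, 0, 0, 0, [], []⟩,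
    ⟨0, 0, 0, 0, [], []⟩,
    ⟨147, 22, 1, 9, [(0, 22, 0), (2, 171, 0), (0, 371, 0)], []⟩,
    ⟨154, 22, 1, 9, [(0, 22, 0), (2, 173, 0), (0, 371, 0)], []⟩,
    ⟨163, 22, 1, 9, [(0, 22, 0), (2, 174, 0), (0, 371, 0)], []⟩,
    ⟨175, 22, 1, 9, [(0, 22, 0), (2, 175, 0), (0, 371, 0)], []⟩,
    ⟨63, 821, 1, 21, [(0, 1054, 0), (1, 98, 170), (0, 104, 0), (2, 45, 149), (0, 104, 0), (1, 36, 138), (0, 104, 0), (2, 39, 9), (0, 104, 0), (1, 44, 17), (0, 104, 0), (3, 20, 0), (3, 20, 0), (2, 93, 43), (0, 104, 0), (1, 175, 151), (0, 104, 0)], []⟩,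
    ⟨151, 0, 1, 0, [(2, 172, 0), (2, 176, 7)], []⟩,
    ⟨175, 29, 1, 9, [(0, 22, 0), (2, 180, 100), (0, 371, 0)], []⟩,
    ⟨0, 0, 0, 0, [], []⟩,
    ⟨0, 0, 0, 0, [], []⟩,
    ⟨0, 0, 0, 0, [], []⟩,
    ⟨54, 739, 2, 0, [(1, 185, 45)], [(3, 63, 0), (1, 185, 0)]⟩,
    ⟨0, 0, 0, 0, [], []⟩,
    ⟨0, 0, 0, 0, [], []⟩,
    ⟨0, 0, 0, 0, [], []⟩,
    ⟨0, 0, 0, 0, [], []⟩,
    ⟨0, 0, 0, 0, [], []⟩]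

/-- Facts, block 3. -/
def fc3 : List Fc :=
  [⟨60, 14, 1, 210, 0, 0⟩, ⟨185, 0, 1, 54, 326, 1742⟩, ⟨185, 849, 0, 185, 326, 0⟩, ⟨184, 22, 1, 54, 0, 854⟩, ⟨188, 22, 1, 55, 0, 1019⟩, ⟨189, 22, 1, 55, 0, 322⟩, ⟨198, 22, 1, 59, 0, 509⟩, ⟨205, 22, 1, 59, 0, 597⟩, ⟨206, 22, 1, 60, 0, 509⟩, ⟨210, 22, 1, 60, 0, 1209⟩, ⟨185, 123, 1, 185, 1015, 690⟩, ⟨107, 1000, 1, 198, 1911, 590⟩, ⟨126, 1235, 1, 206, 1038, 848⟩, ⟨188, 446, 1, 125, 154, 198⟩, ⟨205, 74, 1, 183, 245, 775⟩, ⟨210, 169, 1, 85, 1038, 1491⟩, ⟨183, 0, 1, 184, 1044, 1251⟩, ⟨206, 0, 1, 210, 0, 335⟩, ⟨210, 0, 1, 206, 0, 335⟩, ⟨85, 5, 1, 210, 1451, 1203⟩, ⟨125, 2, 1, 188, 172, 763⟩, ⟨198, 29, 1, 107, 1911, 1674⟩, ⟨206, 15, 1, 126, 1044, 1496⟩, ⟨63, 1, 1, 228, 0, 0⟩, ⟨64, 1, 1, 235, 0, 0⟩, ⟨228, 22, 1, 63, 0, 509⟩,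 ⟨235, 22, 1, 64, 0, 509⟩, ⟨151, 924, 1, 235, 1038, 1092⟩, ⟨80, 466, 1, 228, 1911, 925⟩, ⟨228, 434, 1, 80, 1911, 632⟩, ⟨75, 29, 1, 307, 0, 0⟩, ⟨228, 831, 1, 307, 1851, 396⟩, ⟨307, 8, 1, 228, 1824, 1352⟩, ⟨77, 15, 1, 321, 0, 0⟩, ⟨80, 15, 1, 344, 0, 0⟩, ⟨344, 0, 1, 228, 1911, 439⟩, ⟨321, 22, 1, 77, 0, 322⟩, ⟨344, 22, 1, 80, 0, 322⟩, ⟨85, 8, 1, 374, 0, 0⟩, ⟨85, 14, 1, 375, 0, 0⟩, ⟨87, 1, 1, 384, 0, 0⟩, ⟨87, 2, 1, 385, 0, 0⟩, ⟨374, 0, 1, 210, 1044, 685⟩, ⟨210, 2, 1, 374, 1038, 425⟩, ⟨374, 22, 1, 85, 0, 1019⟩, ⟨375, 22, 1, 85, 0, 1209⟩, ⟨384, 22, 1, 87, 0, 509⟩, ⟨385, 22, 1, 87, 0, 632⟩, ⟨154, 901, 1, 374, 0, 47⟩, ⟨374, 912, 1, 154, 0, 1537⟩, ⟨385, 25, 1, 321, 580, 232⟩, ⟨90, 65, 1, 384, 1038, 1444⟩, ⟨344, 1102, 1, 375, 1911, 1457⟩, ⟨375, 415, 1, 344, 1911, 98⟩,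 ⟨384, 5, 1, 90, 1044, 1381⟩, ⟨94, 1, 1, 416, 0, 0⟩, ⟨94, 14, 1, 420, 0, 0⟩, ⟨416, 22, 1, 94, 0, 509⟩, ⟨420, 22, 1, 94, 0, 1209⟩, ⟨114, 382, 1, 416, 1044, 1465⟩, ⟨147, 806, 1, 420, 1038, 15⟩, ⟨416, 10, 1, 114, 1038, 380⟩, ⟨420, 10, 1, 147, 1044, 1066⟩, ⟨420, 1672, 1, 416, 0, 469⟩]

/-- Justifications, block 3. -/
def pf3 : List Pf :=
  [⟨0, 0, 0, 0, [], []⟩,
    ⟨185, 0, 1, 0, [(2, 185, 0), (2, 109, 158)], []⟩,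
    ⟨54, 14, 2, 9, [(0, 22, 0), (2, 193, 80), (0, 371, 0)], [(1, 185, 0)]⟩,
    ⟨184, 22, 1, 9, [(0, 22, 0), (2, 184, 0), (0, 371, 0)], []⟩,
    ⟨188, 22, 1, 9, [(0, 22, 0), (2, 187, 0), (0, 371, 0)], []⟩,
    ⟨189, 22, 1, 9, [(0, 22, 0), (2, 188, 0), (0, 371, 0)], []⟩,
    ⟨198, 22, 1, 9, [(0, 22, 0), (2, 189, 0), (0, 371, 0)], []⟩,
    ⟨205, 22, 1, 9, [(0, 22, 0), (2, 190, 0), (0, 371, 0)], []⟩,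
    ⟨206, 22, 1, 9, [(0, 22, 0), (2, 191, 0), (0, 371, 0)], []⟩,
    ⟨210, 22, 1, 9, [(0, 22, 0), (2, 192, 0), (0, 371, 0)], []⟩,
    ⟨185, 123, 1, 11, [(0, 104, 0), (3, 194, 0), (2, 185, 19), (0, 104, 0), (2, 62, 10), (0, 104, 0), (2, 19, 8), (0, 104, 0), (2, 12, 158), (0, 104, 0), (2, 27, 164), (3, 31, 0), (3, 35, 0), (0, 104, 0), (3, 7, 0), (3, 9, 0), (2, 26, 161), (3, 32, 0), (0, 104, 0), (2, 38, 74), (0, 104, 0), (2, 76, 1), (3, 80, 0), (0, 104, 0), (2, 193, 148), (0, 104, 0)], []⟩,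
    ⟨107, 1000, 1, 21, [(0, 1054, 0), (1, 162, 65), (0, 104, 0), (2, 50, 32), (0, 104, 0), (1, 51, 115), (0, 104, 0), (3, 103, 0), (2, 51, 83), (0, 104, 0), (1, 45, 40), (0, 104, 0), (2, 96, 82), (0, 104, 0), (1, 189, 158), (0, 104, 0)], []⟩,
    ⟨126, 1235, 1, 21, [(0, 1054, 0), (1, 165, 58), (0, 104, 0), (2, 53, 57), (0, 104, 0), (1, 37, 129), (0, 104, 0), (3, 13, 0), (2, 36, 182), (0, 104, 0), (1, 45, 183), (0, 104, 0), (2, 97, 0), (0, 104, 0), (1, 191, 89), (0, 104, 0)], []⟩,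
    ⟨188, 446, 1, 21, [(0, 1054, 0), (1, 196, 154), (0, 104, 0), (2, 64, 117), (0, 104, 0), (1, 44, 146), (0, 104, 0), (2, 19, 150), (0, 104, 0), (1, 18, 157), (0, 104, 0), (2, 86, 47), (0, 104, 0), (1, 155, 169), (0, 104, 0)], []⟩,
    ⟨205, 74, 1, 21, [(0, 1054, 0), (1, 199, 146), (0, 104, 0), (2, 68, 177), (0, 104, 0), (1, 73, 59), (3, 81, 0), (0, 104, 0), (2, 17, 133), (0, 104, 0), (1, 22, 128), (0, 104, 0), (2, 75, 180), (0, 104, 0), (3, 63, 0), (1, 183, 123), (0, 104, 0)], []⟩,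
    ⟨210, 169, 1, 21, [(0, 1054, 0), (1, 201, 85), (0, 104, 0), (2, 69, 24), (0, 104, 0), (1, 73, 22), (3, 81, 0), (0, 104, 0), (2, 17, 189), (0, 104, 0), (3, 13, 0), (1, 17, 172), (0, 104, 0), (2, 83, 90), (0, 104, 0), (1, 128, 128), (0, 104, 0)], []⟩,
    ⟨183, 0, 1, 0, [(2, 183, 0), (3, 63, 0), (3, 63, 0), (2, 195, 125)], []⟩,
    ⟨206, 0, 1, 0, [(2, 191, 0), (2, 201, 23)], []⟩,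
    ⟨210, 0, 1, 0, [(2, 192, 0), (2, 200, 23)], []⟩,
    ⟨85, 5, 1, 9, [(0, 22, 0), (3, 129, 0), (2, 207, 153), (0, 371, 0)], []⟩,
    ⟨125, 2, 1, 9, [(0, 22, 0), (2, 205, 2), (0, 371, 0)], []⟩,
    ⟨198, 29, 1, 9, [(0, 22, 0), (2, 203, 67), (0, 371, 0)], []⟩,
    ⟨206, 15, 1, 9, [(0, 22, 0), (2, 204, 11), (0, 371, 0)], []⟩,
    ⟨0, 0, 0, 0, [], []⟩,
    ⟨0, 0, 0, 0, [], []⟩,
    ⟨228, 22, 1, 9, [(0, 22, 0), (2, 215, 0), (0, 371, 0)], []⟩,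
    ⟨235, 22, 1, 9, [(0, 22, 0), (2, 216, 0), (0, 371, 0)], []⟩,
    ⟨151, 924, 1, 11, [(0, 104, 0), (2, 172, 171), (0, 104, 0), (2, 57, 174), (0, 104, 0), (2, 41, 186), (0, 104, 0), (2, 83, 78), (0, 104, 0), (2, 141, 165), (0, 104, 0), (2, 207, 168), (0, 104, 0), (2, 192, 169), (0, 104, 0), (2, 120, 189), (0, 104, 0), (2, 218, 19), (0, 104, 0)], []⟩,
    ⟨80, 466, 1, 21, [(0, 1054, 0), (1, 140, 131), (0, 104, 0), (2, 112, 117), (0, 104, 0), (1, 152, 146), (0, 104, 0), (2, 213, 26), (0, 104, 0), (1, 198, 18), (0, 104, 0), (2, 119, 136), (0, 104, 0), (1, 215, 41), (0, 104, 0)], []⟩,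
    ⟨228, 434, 1, 21, [(0, 1054, 0), (1, 217, 153), (0, 104, 0), (2, 71, 34), (0, 104, 0), (1, 73, 174), (3, 81, 0), (0, 104, 0), (2, 84, 5), (0, 104, 0), (1, 102, 136), (0, 104, 0), (2, 82, 24), (0, 104, 0), (1, 127, 183), (0, 104, 0)], []⟩,
    ⟨0, 0, 0, 0, [], []⟩,
    ⟨228, 831, 1, 21, [(0, 1054, 0), (1, 217, 100), (0, 104, 0), (2, 182, 55), (0, 104, 0), (1, 179, 6), (0, 104, 0), (2, 147, 69), (0, 104, 0), (1, 138, 27), (0, 104, 0), (2, 139, 190), (0, 104, 0), (1, 222, 117), (0, 104, 0)], []⟩,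
    ⟨307, 8, 1, 9, [(0, 22, 0), (2, 223, 157), (0, 371, 0)], []⟩,
    ⟨0, 0, 0, 0, [], []⟩,
    ⟨0, 0, 0, 0, [], []⟩,
    ⟨344, 0, 1, 0, [(2, 226, 0), (2, 221, 7)], []⟩,
    ⟨321, 22, 1, 9, [(0, 22, 0), (2, 225, 0), (0, 371, 0)], []⟩,
    ⟨344, 22, 1, 9, [(0, 22, 0), (2, 226, 0), (0, 371, 0)], []⟩,
    ⟨0, 0, 0, 0, [], []⟩,
    ⟨0, 0, 0, 0, [], []⟩,
    ⟨0, 0, 0, 0, [], []⟩,
    ⟨0, 0, 0, 0, [], []⟩,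
    ⟨374, 0, 1, 0, [(2, 230, 0), (2, 207, 17)], []⟩,
    ⟨210, 2, 1, 9, [(0, 22, 0), (2, 234, 17), (0, 371, 0)], []⟩,
    ⟨374, 22, 1, 9, [(0, 22, 0), (2, 230, 0), (0, 371, 0)], []⟩,
    ⟨375, 22, 1, 9, [(0, 22, 0), (2, 231, 0), (0, 371, 0)], []⟩,
    ⟨384, 22, 1, 9, [(0, 22, 0), (2, 232, 0), (0, 371, 0)], []⟩,
    ⟨385, 22, 1, 9, [(0, 22, 0), (2, 233, 0), (0, 371, 0)], []⟩,
    ⟨154, 901, 1, 11, [(0, 104, 0), (2, 173, 112), (0, 104, 0), (2, 58, 28), (0, 104, 0), (2, 18, 125), (0, 104, 0), (3, 13, 0), (2, 37, 112), (0, 104, 0), (2, 86, 15), (0, 104, 0), (2, 165, 40), (0, 104, 0), (2, 214, 168), (0, 104, 0), (2, 210, 183), (0, 104, 0), (2, 234, 4), (0, 104, 0)], []⟩,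
    ⟨374, 912, 1, 11, [(0, 104, 0), (2, 235, 11), (0, 104, 0), (2, 209, 43), (0, 104, 0), (2, 204, 47), (0, 104, 0), (2, 156, 32), (0, 104, 0), (2, 53, 86), (0, 104, 0), (2, 18, 132), (0, 104, 0), (3, 13, 0), (3, 13, 0), (2, 37, 161), (0, 104, 0), (2, 91, 61), (0, 104, 0), (2, 177, 121), (0, 104, 0)], []⟩,
    ⟨385, 25, 1, 11, [(0, 104, 0), (2, 233, 2), (0, 104, 0), (2, 130, 12), (0, 104, 0), (3, 111, 0), (2, 48, 53), (0, 104, 0), (2, 136, 25), (3, 137, 0), (0, 104, 0), (2, 98, 143), (0, 104, 0), (2, 217, 38), (0, 104, 0), (2, 220, 108), (0, 104, 0), (2, 148, 12), (0, 104, 0), (2, 228, 0), (0, 104, 0)], []⟩,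
    ⟨90, 65, 1, 21, [(0, 1054, 0), (1, 143, 7), (0, 104, 0), (2, 49, 156), (0, 104, 0), (1, 36, 11), (0, 104, 0), (3, 13, 0), (2, 36, 9), (0, 104, 0), (1, 48, 17), (0, 104, 0), (2, 142, 77), (0, 104, 0), (1, 232, 129), (0, 104, 0)], []⟩,
    ⟨344, 1102, 1, 21, [(0, 1054, 0), (1, 229, 108), (0, 104, 0), (2, 148, 139), (0, 104, 0), (1, 225, 7), (0, 104, 0), (2, 242, 188), (0, 104, 0), (1, 239, 150), (0, 104, 0), (2, 149, 156), (0, 104, 0), (3, 129, 0), (1, 231, 65), (0, 104, 0)], []⟩,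
    ⟨375, 415, 1, 21, [(0, 1054, 0), (1, 237, 116), (0, 104, 0), (2, 128, 119), (0, 104, 0), (3, 111, 0), (1, 101, 119), (0, 104, 0), (2, 51, 48), (0, 104, 0), (1, 47, 11), (0, 104, 0), (2, 140, 19), (0, 104, 0), (1, 226, 188), (0, 104, 0)], []⟩,
    ⟨384, 5, 1, 9, [(0, 22, 0), (2, 243, 153), (0, 371, 0)], []⟩,
    ⟨0, 0, 0, 0, [], []⟩,
    ⟨0, 0, 0, 0, [], []⟩,
    ⟨416, 22, 1, 9, [(0, 22, 0), (2, 247, 0), (0, 371, 0)], []⟩,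
    ⟨420, 22, 1, 9, [(0, 22, 0), (2, 248, 0), (0, 371, 0)], []⟩,
    ⟨114, 382, 1, 21, [(0, 1054, 0), (1, 163, 140), (0, 104, 0), (3, 103, 0), (2, 101, 135), (0, 104, 0), (1, 130, 112), (0, 104, 0), (3, 131, 0), (2, 238, 137), (0, 104, 0), (1, 246, 118), (0, 104, 0), (2, 150, 182), (0, 104, 0), (1, 247, 187), (0, 104, 0)], []⟩,
    ⟨147, 806, 1, 21, [(0, 1054, 0), (1, 176, 113), (0, 104, 0), (2, 57, 97), (0, 104, 0), (1, 37, 65), (0, 104, 0), (3, 13, 0), (2, 36, 188), (0, 104, 0), (1, 49, 63), (0, 104, 0), (2, 144, 11), (0, 104, 0), (1, 248, 156), (0, 104, 0)], []⟩,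
    ⟨416, 10, 1, 21, [(0, 1054, 0), (1, 249, 95), (0, 104, 0), (2, 134, 188), (0, 104, 0), (1, 79, 89), (0, 104, 0), (2, 17, 11), (0, 104, 0), (3, 13, 0), (1, 17, 83), (0, 104, 0), (2, 84, 139), (0, 104, 0), (1, 153, 64), (0, 104, 0)], []⟩,
    ⟨420, 10, 1, 21, [(0, 1054, 0), (1, 250, 95), (0, 104, 0), (2, 134, 2), (0, 104, 0), (1, 132, 63), (3, 137, 0), (0, 104, 0), (2, 99, 182), (0, 104, 0), (1, 216, 183), (0, 104, 0), (2, 219, 150), (0, 104, 0), (1, 181, 26), (0, 104, 0)], []⟩,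
    ⟨420, 1672, 1, 21, [(0, 1054, 0), (1, 254, 188), (0, 104, 0), (2, 171, 109), (0, 104, 0), (1, 90, 15), (0, 104, 0), (2, 41, 42), (0, 104, 0), (1, 51, 45), (0, 104, 0), (2, 163, 60), (0, 104, 0), (1, 251, 150), (0, 104, 0)], []⟩]

/-- Facts, block 4. -/
def fc4 : List Fc :=
  [⟨114, 29, 1, 553, 0, 0⟩, ⟨553, 0, 1, 416, 1044, 1246⟩, ⟨416, 15, 1, 553, 1038, 914⟩, ⟨553, 310, 1, 131, 0, 1142⟩, ⟨122, 2, 1, 593, 0, 0⟩, ⟨593, 22, 1, 122, 0, 632⟩, ⟨125, 14, 1, 608, 0, 0⟩, ⟨125, 29, 1, 611, 0, 0⟩, ⟨134, 74, 1, 608, 1826, 959⟩, ⟨593, 218, 1, 611, 167, 452⟩, ⟨611, 15, 1, 593, 202, 1192⟩, ⟨129, 29, 1, 638, 0, 0⟩, ⟨638, 22, 1, 129, 0, 597⟩, ⟨163, 218, 1, 638, 13, 1424⟩, ⟨638, 8, 1, 163, 13, 1098⟩, ⟨134, 14, 1, 672, 0, 0⟩, ⟨135, 14, 1, 678, 0, 0⟩, ⟨135, 21, 1, 680, 0,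 0⟩, ⟨672, 22, 1, 134, 0, 1209⟩, ⟨678, 22, 1, 135, 0, 1209⟩, ⟨680, 22, 1, 135, 0, 1359⟩, ⟨154, 267, 1, 680, 13, 1559⟩, ⟨184, 108, 1, 678, 837, 961⟩, ⟨680, 240, 1, 154, 13, 434⟩, ⟨672, 10, 1, 307, 425, 244⟩, ⟨307, 5, 1, 672, 271, 1060⟩, ⟨185, 8, 1, 948, 0, 0⟩, ⟨948, 1162, 0, 948, 1038, 0⟩, ⟨188, 21, 1, 963, 0, 0⟩, ⟨948, 0, 1, 185, 1015, 1019⟩, ⟨948, 22, 0, 948, 1015, 0⟩, ⟨963, 22, 1, 188, 0, 1359⟩, ⟨948, 642, 1, 0, 1126, 1603⟩, ⟨948, 1077, 0, 948, 1101, 0⟩, ⟨185, 0, 0, 3, 1503, 508⟩, ⟨54, 0, 0, 9, 114, 242⟩, ⟨31, 1100, 0, 31, 1146, 0⟩, ⟨184, 0, 0, 28, 114, 920⟩, ⟨55, 619, 0, 55, 1624, 0⟩, ⟨678, 0, 0, 47, 1624, 584⟩, ⟨189, 0, 0, 188, 1624, 894⟩, ⟨135, 1584, 0, 135, 1624, 0⟩, ⟨680, 1902, 0, 680, 1624, 0⟩, ⟨344, 147, 1, 375, 381, 1836⟩, ⟨344, 333, 0, 344, 1341,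 0⟩, ⟨210, 1, 1, 1039, 0, 0⟩, ⟨210, 5, 1, 1040, 0, 0⟩, ⟨1039, 22, 1, 210, 0, 509⟩, ⟨1040, 22, 1, 210, 0, 854⟩, ⟨1039, 33, 1, 672, 984, 370⟩, ⟨1040, 294, 1, 188, 109, 745⟩, ⟨1040, 0, 0, 963, 109, 1078⟩, ⟨125, 0, 0, 43, 1059, 1337⟩, ⟨114, 0, 0, 45, 863, 143⟩, ⟨611, 0, 0, 27, 1059, 1556⟩, ⟨553, 0, 0, 122, 863, 871⟩, ⟨593, 0, 0, 28, 779, 1614⟩, ⟨131, 0, 0, 28, 732, 309⟩, ⟨46, 508, 0, 46, 599, 0⟩]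

/-- Justifications, block 4. -/
def pf4 : List Pf :=
  [⟨0, 0, 0, 0, [], []⟩,
    ⟨553, 0, 1, 0, [(2, 256, 0), (2, 253, 49)], []⟩,
    ⟨416, 15, 1, 9, [(0, 22, 0), (2, 257, 35), (0, 371, 0)], []⟩,
    ⟨553, 310, 1, 11, [(0, 104, 0), (2, 258, 168), (0, 104, 0), (2, 255, 47), (0, 104, 0), (2, 252, 24), (0, 104, 0), (2, 171, 122), (0, 104, 0), (2, 57, 74), (0, 104, 0), (2, 18, 114), (0, 104, 0), (3, 13, 0), (3, 13, 0), (2, 37, 130), (0, 104, 0), (2, 87, 159), (0, 104, 0), (2, 167, 130), (0, 104, 0)], []⟩,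
    ⟨0, 0, 0, 0, [], []⟩,
    ⟨593, 22, 1, 9, [(0, 22, 0), (2, 260, 0), (0, 371, 0)], []⟩,
    ⟨0, 0, 0, 0, [], []⟩,
    ⟨0, 0, 0, 0, [], []⟩,
    ⟨134, 74, 1, 21, [(0, 1054, 0), (1, 168, 146), (0, 104, 0), (2, 54, 177), (0, 104, 0), (1, 56, 52), (0, 104, 0), (3, 108, 0), (2, 56, 135), (0, 104, 0), (1, 53, 93), (0, 104, 0), (2, 164, 56), (0, 104, 0), (1, 262, 22), (0, 104, 0)], []⟩,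
    ⟨593, 218, 1, 21, [(0, 1054, 0), (1, 261, 101), (0, 104, 0), (2, 154, 31), (0, 104, 0), (1, 157, 66), (0, 104, 0), (2, 170, 113), (0, 104, 0), (1, 187, 96), (0, 104, 0), (2, 212, 15), (0, 104, 0), (1, 263, 74), (0, 104, 0)], []⟩,
    ⟨611, 15, 1, 9, [(0, 22, 0), (2, 265, 99), (0, 371, 0)], []⟩,
    ⟨0, 0, 0, 0, [], []⟩,
    ⟨638, 22, 1, 9, [(0, 22, 0), (2, 267, 0), (0, 371, 0)], []⟩,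
    ⟨163, 218, 1, 21, [(0, 1054, 0), (1, 178, 101), (0, 104, 0), (2, 59, 31), (0, 104, 0), (1, 52, 167), (0, 104, 0), (3, 106, 0), (2, 52, 120), (0, 104, 0), (1, 54, 27), (0, 104, 0), (2, 166, 173), (0, 104, 0), (1, 267, 127), (0, 104, 0)], []⟩,
    ⟨638, 8, 1, 9, [(0, 22, 0), (2, 269, 190), (0, 371, 0)], []⟩,
    ⟨0, 0, 0, 0, [], []⟩,
    ⟨0, 0, 0, 0, [], []⟩,
    ⟨0, 0, 0, 0, [], []⟩,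
    ⟨672, 22, 1, 9, [(0, 22, 0), (2, 271, 0), (0, 371, 0)], []⟩,
    ⟨678, 22, 1, 9, [(0, 22, 0), (2, 272, 0), (0, 371, 0)], []⟩,
    ⟨680, 22, 1, 9, [(0, 22, 0), (2, 273, 0), (0, 371, 0)], []⟩,
    ⟨154, 267, 1, 11, [(0, 104, 0), (2, 173, 48), (0, 104, 0), (2, 113, 56), (0, 104, 0), (2, 166, 153), (0, 104, 0), (2, 268, 62), (0, 104, 0), (2, 269, 168), (0, 104, 0), (2, 174, 104), (0, 104, 0), (2, 114, 142), (0, 104, 0), (2, 169, 180), (0, 104, 0), (2, 276, 175), (0, 104, 0)], []⟩,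
    ⟨184, 108, 1, 11, [(0, 104, 0), (2, 208, 96), (0, 104, 0), (2, 206, 47), (0, 104, 0), (2, 190, 180), (0, 104, 0), (2, 68, 41), (0, 104, 0), (2, 45, 101), (0, 104, 0), (2, 42, 165), (0, 104, 0), (2, 88, 174), (0, 104, 0), (2, 169, 136), (0, 104, 0), (2, 275, 42), (0, 104, 0)], []⟩,
    ⟨680, 240, 1, 11, [(0, 104, 0), (2, 273, 67), (0, 104, 0), (2, 161, 175), (0, 104, 0), (2, 116, 51), (0, 104, 0), (2, 178, 134), (0, 104, 0), (2, 270, 78), (0, 104, 0), (2, 267, 76), (0, 104, 0), (2, 158, 22), (0, 104, 0), (2, 115, 64), (0, 104, 0), (2, 177, 172), (0, 104, 0)], []⟩,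
    ⟨672, 10, 1, 21, [(0, 1054, 0), (1, 274, 95), (0, 104, 0), (2, 160, 2), (0, 104, 0), (1, 123, 63), (0, 104, 0), (2, 70, 60), (0, 104, 0), (1, 71, 40), (0, 104, 0), (2, 217, 82), (0, 104, 0), (1, 223, 14), (0, 104, 0)], []⟩,
    ⟨307, 5, 1, 9, [(0, 22, 0), (2, 280, 150), (0, 371, 0)], []⟩,
    ⟨0, 0, 0, 0, [], []⟩,
    ⟨185, 550, 2, 0, [(1, 282, 144)], [(3, 186, 0), (1, 282, 0)]⟩,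
    ⟨0, 0, 0, 0, [], []⟩,
    ⟨948, 0, 1, 0, [(2, 282, 0), (2, 202, 129)], []⟩,
    ⟨185, 8, 2, 9, [(0, 22, 0), (2, 285, 7), (0, 371, 0)], [(1, 282, 0)]⟩,
    ⟨963, 22, 1, 9, [(0, 22, 0), (2, 284, 0), (0, 371, 0)], []⟩,
    ⟨948, 642, 1, 11, [(0, 104, 0), (2, 282, 145), (0, 104, 0), (3, 194, 0), (2, 185, 163), (0, 104, 0), (2, 62, 34), (0, 104, 0), (2, 43, 87), (0, 104, 0), (2, 40, 11), (0, 104, 0), (2, 19, 155), (0, 104, 0), (2, 12, 68), (0, 104, 0), (2, 6, 164), (0, 104, 0), (2, 0, 58), (0, 104, 0)], []⟩,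
    ⟨0, 1877, 2, 0, [(5, 2, 0), (2, 288, 62)], [(5, 3, 0), (2, 288, 0)]⟩,
    ⟨9, 456, 2, 21, [(0, 1054, 0), (1, 19, 113), (0, 104, 0), (2, 76, 185), (3, 80, 0), (0, 104, 0), (1, 185, 95), (0, 104, 0), (2, 285, 100), (0, 104, 0), (1, 288, 108), (0, 104, 0), (5, 24, 0), (2, 288, 76), (0, 104, 0), (3, 283, 0), (3, 286, 0), (3, 289, 0), (1, 285, 86), (0, 104, 0)], [(1, 21, 172), (3, 33, 0)]⟩,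
    ⟨3, 508, 2, 0, [(4, 290, 0), (1, 193, 0)], [(1, 12, 24)]⟩,
    ⟨9, 242, 2, 0, [(1, 22, 133)], [(4, 291, 0), (1, 75, 0)]⟩,
    ⟨9, 892, 2, 0, [(4, 291, 0), (1, 184, 0)], [(1, 18, 60)]⟩,
    ⟨31, 1471, 2, 0, [(3, 23, 0), (1, 64, 118)], [(3, 292, 0), (1, 64, 0)]⟩,
    ⟨28, 1237, 2, 0, [(4, 293, 0), (1, 278, 0)], [(1, 55, 113)]⟩,
    ⟨55, 191, 2, 0, [(1, 188, 41)], [(3, 294, 0), (1, 187, 0)]⟩,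
    ⟨47, 744, 2, 0, [(1, 161, 36)], [(4, 295, 0), (1, 275, 0)]⟩,
    ⟨135, 885, 2, 0, [(1, 273, 130)], [(3, 297, 0), (1, 273, 0)]⟩,
    ⟨344, 147, 1, 11, [(0, 104, 0), (2, 245, 57), (0, 104, 0), (2, 231, 94), (0, 104, 0), (3, 129, 0), (2, 236, 84), (0, 104, 0), (2, 240, 72), (0, 104, 0), (2, 279, 166), (0, 104, 0), (3, 298, 0), (2, 277, 44), (0, 104, 0), (2, 241, 151), (0, 104, 0), (2, 230, 32), (0, 104, 0), (3, 129, 0), (2, 237, 58), (0, 104, 0)], []⟩,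
    ⟨375, 1836, 2, 0, [(2, 244, 34)], [(2, 299, 0)]⟩,
    ⟨0, 0, 0, 0, [], []⟩,
    ⟨0, 0, 0, 0, [], []⟩,
    ⟨1039, 22, 1, 9, [(0, 22, 0), (2, 301, 0), (0, 371, 0)], []⟩,
    ⟨1040, 22, 1, 9, [(0, 22, 0), (2, 302, 0), (0, 371, 0)], []⟩,
    ⟨1039, 33, 1, 21, [(0, 1054, 0), (1, 303, 9), (0, 104, 0), (2, 211, 180), (0, 104, 0), (3, 129, 0), (1, 231, 125), (0, 104, 0), (2, 244, 155), (0, 104, 0), (3, 300, 0), (1, 227, 89), (0, 104, 0), (2, 224, 115), (0, 104, 0), (1, 281, 39), (0, 104, 0)], []⟩,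
    ⟨1040, 294, 1, 21, [(0, 1054, 0), (1, 304, 128), (0, 104, 0), (2, 303, 140), (0, 104, 0), (1, 305, 39), (0, 104, 0), (2, 271, 117), (0, 104, 0), (1, 264, 144), (0, 104, 0), (2, 262, 153), (0, 104, 0), (1, 212, 160), (0, 104, 0)], []⟩,
    ⟨188, 745, 2, 0, [(2, 306, 0)], [(2, 287, 160)]⟩,
    ⟨39, 168, 2, 22, [(0, 104, 0), (1, 128, 68), (0, 104, 0), (2, 207, 73), (0, 1054, 0), (1, 302, 137), (3, 307, 0), (0, 104, 0), (2, 284, 36), (0, 104, 0), (1, 196, 155), (0, 104, 0), (2, 197, 39), (3, 296, 0), (0, 104, 0), (1, 205, 74), (0, 104, 0)], [(1, 101, 159)]⟩,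
    ⟨43, 1663, 2, 0, [(1, 153, 96)], [(4, 308, 0), (1, 164, 0)]⟩,
    ⟨43, 1234, 2, 0, [(4, 308, 0), (1, 263, 0)], [(1, 84, 109)]⟩,
    ⟨45, 992, 2, 0, [(4, 309, 0), (1, 256, 0)], [(1, 154, 67)]⟩,
    ⟨27, 1154, 2, 0, [(4, 310, 0), (1, 266, 0)], [(1, 41, 16)]⟩,
    ⟨122, 763, 2, 0, [(4, 311, 0), (1, 259, 0)], [(1, 260, 151), (3, 312, 0)]⟩,
    ⟨28, 614, 2, 0, [(1, 54, 48)], [(4, 313, 0), (1, 167, 0)]⟩]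

/-- The blocks of facts. -/
def fcs : List (List Fc) := [fc0, fc1, fc2, fc3, fc4]

/-- The blocks of justifications. -/
def pfs : List (List Pf) := [pf0, pf1, pf2, pf3, pf4]

/-- The number of facts. -/
def nFacts : ℕ := 315

/-- The definitions of the nodes. -/
def pars : List (ℕ × ℕ) :=
  [(0, 0), (0, 0), (1, 0), (1, 1), (1, 22), (0, 0), (0, 0), (0, 0), (3, 0), (3, 1), (3, 22), (4, 0), (0, 0), (0, 0), (0, 0), (0, 0), (0, 0), (0, 0), (0, 0), (0, 0), (0, 0), (0, 0), (0, 0), (0, 0), (0, 0), (0, 0), (9, 0), (9, 1), (9, 2), (9, 8), (9, 22), (9, 29), (10, 0), (0, 0), (0, 0), (0, 0), (27, 1), (27, 2), (27, 5), (27, 8), (27, 14), (0, 0), (27, 21), (27, 29), (28, 1), (28, 2), (28, 5), (28, 8), (28, 14), (28, 15), (28, 21), (28, 29), (29, 2), (29, 8), (29, 14), (31,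 1), (31, 2), (31, 29), (36, 0), (36, 1), (36, 2), (0, 0), (36, 8), (36, 14), (36, 15), (0, 0), (36, 22), (36, 29), (0, 0), (0, 0), (0, 0), (0, 0), (0, 0), (37, 14), (0, 0), (37, 21), (0, 0), (38, 1), (0, 0), (0, 0), (38, 14), (0, 0), (0, 0), (0, 0), (0, 0), (39, 5), (0, 0), (39, 21), (40, 0), (0, 0), (40, 2), (0, 0), (0, 0), (0, 0), (40, 15), (0, 0), (40, 29), (0, 0), (0, 0), (0, 0), (0, 0), (0, 0), (0, 0), (0, 0), (0, 0), (0, 0), (0, 0), (42, 5), (0, 0), (0, 0), (0, 0), (0, 0), (0, 0), (0, 0), (43, 2), (0, 0), (0, 0), (0, 0), (0, 0), (0, 0), (0, 0), (0, 0), (45, 2), (0, 0), (0, 0), (45, 14), (45, 15), (45, 21), (0, 0), (46, 1), (0, 0), (46, 8), (0, 0), (0, 0), (46, 29), (47, 1), (0, 0), (0, 0), (0, 0), (0, 0), (0, 0), (0, 0), (0, 0), (0, 0), (0, 0), (0, 0),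 (0, 0), (49, 2), (0, 0), (0, 0), (0, 0), (49, 15), (0, 0), (0, 0), (50, 1), (0, 0), (0, 0), (0, 0), (0, 0), (0, 0), (0, 0), (0, 0), (0, 0), (51, 2), (0, 0), (0, 0), (0, 0), (0, 0), (0, 0), (0, 0), (0, 0), (0, 0), (0, 0), (0, 0), (0, 0), (52, 15), (0, 0), (0, 0), (0, 0), (0, 0), (0, 0), (0, 0), (0, 0), (54, 2), (54, 5), (54, 14), (0, 0), (0, 0), (55, 8), (55, 15), (0, 0), (0, 0), (0, 0), (0, 0), (0, 0), (0, 0), (0, 0), (0, 0), (59, 1), (0, 0), (0, 0), (0, 0), (0, 0), (0, 0), (0, 0), (59, 29), (60, 1), (0, 0), (0, 0), (0, 0), (60, 14), (0, 0), (0, 0), (0, 0), (0, 0), (0, 0), (0, 0), (0, 0), (0, 0), (0, 0), (0, 0), (0, 0), (0, 0), (0, 0), (0, 0), (0, 0), (0, 0), (0, 0), (63, 1), (0, 0), (0, 0), (0, 0), (0, 0), (0, 0), (0, 0), (64, 1), (0, 0), (0, 0), (0, 0), (0,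 0), (0, 0), (0, 0), (0, 0), (0, 0), (0, 0), (0, 0), (0, 0), (0, 0), (0, 0), (0, 0), (0, 0), (0, 0), (0, 0), (0, 0), (0, 0), (0, 0), (0, 0), (0, 0), (0, 0), (0, 0), (0, 0), (0, 0), (0, 0), (0, 0), (0, 0), (0, 0), (0, 0), (0, 0), (0, 0), (0, 0), (0, 0), (0, 0), (0, 0), (0, 0), (0, 0), (0, 0), (0, 0), (0, 0), (0, 0), (0, 0), (0, 0), (0, 0), (0, 0), (0, 0), (0, 0), (0, 0), (0, 0), (0, 0), (0, 0), (0, 0), (0, 0), (0, 0), (0, 0), (0, 0), (0, 0), (0, 0), (0, 0), (0, 0), (0, 0), (0, 0), (0, 0), (0, 0), (0, 0), (0, 0), (0, 0), (0, 0), (0, 0), (75, 29), (0, 0), (0, 0), (0, 0), (0, 0), (0, 0), (0, 0), (0, 0), (0, 0), (0, 0), (0, 0), (0, 0), (0, 0), (0, 0), (77, 15), (0, 0), (0, 0), (0, 0), (0, 0), (0, 0), (0, 0), (0, 0), (0, 0), (0, 0), (0, 0), (0, 0), (0, 0), (0, 0),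 (0, 0), (0, 0), (0, 0), (0, 0), (0, 0), (0, 0), (0, 0), (0, 0), (0, 0), (80, 15), (0, 0), (0, 0), (0, 0), (0, 0), (0, 0), (0, 0), (0, 0), (0, 0), (0, 0), (0, 0), (0, 0), (0, 0), (0, 0), (0, 0), (0, 0), (0, 0), (0, 0), (0, 0), (0, 0), (0, 0), (0, 0), (0, 0), (0, 0), (0, 0), (0, 0), (0, 0), (0, 0), (0, 0), (0, 0), (85, 8), (85, 14), (0, 0), (0, 0), (0, 0), (0, 0), (0, 0), (0, 0), (0, 0), (0, 0), (87, 1), (87, 2), (0, 0), (0, 0), (0, 0), (0, 0), (0, 0), (0, 0), (0, 0), (0, 0), (0, 0), (0, 0), (0, 0), (0, 0), (0, 0), (0, 0), (0, 0), (0, 0), (0, 0), (0, 0), (0, 0), (0, 0), (0, 0), (0, 0), (0, 0), (0, 0), (0, 0), (0, 0), (0, 0), (0, 0), (0, 0), (0, 0), (94, 1), (0, 0), (0, 0), (0, 0), (94, 14), (0, 0), (0, 0), (0, 0), (0, 0), (0, 0), (0, 0), (0, 0), (0, 0), (0, 0),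 (0, 0), (0, 0), (0, 0), (0, 0), (0, 0), (0, 0), (0, 0), (0, 0), (0, 0), (0, 0), (0, 0), (0, 0), (0, 0), (0, 0), (0, 0), (0, 0), (0, 0), (0, 0), (0, 0), (0, 0), (0, 0), (0, 0), (0, 0), (0, 0), (0, 0), (0, 0), (0, 0), (0, 0), (0, 0), (0, 0), (0, 0), (0, 0), (0, 0), (0, 0), (0, 0), (0, 0), (0, 0), (0, 0), (0, 0), (0, 0), (0, 0), (0, 0), (0, 0), (0, 0), (0, 0), (0, 0), (0, 0), (0, 0), (0, 0), (0, 0), (0, 0), (0, 0), (0, 0), (0, 0), (0, 0), (0, 0), (0, 0), (0, 0), (0, 0), (0, 0), (0, 0), (0, 0), (0, 0), (0, 0), (0, 0), (0, 0), (0, 0), (0, 0), (0, 0), (0, 0), (0, 0), (0, 0), (0, 0), (0, 0), (0, 0), (0, 0), (0, 0), (0, 0), (0, 0), (0, 0), (0, 0), (0, 0), (0, 0), (0, 0), (0, 0), (0, 0), (0, 0), (0, 0), (0, 0), (0, 0), (0, 0), (0, 0), (0, 0), (0, 0), (0, 0), (0, 0),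 (0, 0), (0, 0), (0, 0), (0, 0), (0, 0), (0, 0), (0, 0), (0, 0), (0, 0), (0, 0), (0, 0), (0, 0), (0, 0), (0, 0), (0, 0), (0, 0), (0, 0), (0, 0), (0, 0), (0, 0), (0, 0), (0, 0), (0, 0), (0, 0), (0, 0), (0, 0), (0, 0), (114, 29), (0, 0), (0, 0), (0, 0), (0, 0), (0, 0), (0, 0), (0, 0), (0, 0), (0, 0), (0, 0), (0, 0), (0, 0), (0, 0), (0, 0), (0, 0), (0, 0), (0, 0), (0, 0), (0, 0), (0, 0), (0, 0), (0, 0), (0, 0), (0, 0), (0, 0), (0, 0), (0, 0), (0, 0), (0, 0), (0, 0), (0, 0), (0, 0), (0, 0), (0, 0), (0, 0), (0, 0), (0, 0), (0, 0), (0, 0), (122, 2), (0, 0), (0, 0), (0, 0), (0, 0), (0, 0), (0, 0), (0, 0), (0, 0), (0, 0), (0, 0), (0, 0), (0, 0), (0, 0), (0, 0), (125, 14), (0, 0), (0, 0), (125, 29), (0, 0), (0, 0), (0, 0), (0, 0), (0, 0), (0, 0), (0, 0), (0, 0), (0,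 0), (0, 0), (0, 0), (0, 0), (0, 0), (0, 0), (0, 0), (0, 0), (0, 0), (0, 0), (0, 0), (0, 0), (0, 0), (0, 0), (0, 0), (0, 0), (0, 0), (0, 0), (129, 29), (0, 0), (0, 0), (0, 0), (0, 0), (0, 0), (0, 0), (0, 0), (0, 0), (0, 0), (0, 0), (0, 0), (0, 0), (0, 0), (0, 0), (0, 0), (0, 0), (0, 0), (0, 0), (0, 0), (0, 0), (0, 0), (0, 0), (0, 0), (0, 0), (0, 0), (0, 0), (0, 0), (0, 0), (0, 0), (0, 0), (0, 0), (0, 0), (0, 0), (134, 14), (0, 0), (0, 0), (0, 0), (0, 0), (0, 0), (135, 14), (0, 0), (135, 21), (0, 0), (0, 0), (0, 0), (0, 0), (0, 0), (0, 0), (0, 0), (0, 0), (0, 0), (0, 0), (0, 0), (0, 0), (0, 0), (0, 0), (0, 0), (0, 0), (0, 0), (0, 0), (0, 0), (0, 0), (0, 0), (0, 0), (0, 0), (0, 0), (0, 0), (0, 0), (0, 0), (0, 0), (0, 0), (0, 0), (0, 0), (0, 0), (0, 0), (0, 0),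 (0, 0), (0, 0), (0, 0), (0, 0), (0, 0), (0, 0), (0, 0), (0, 0), (0, 0), (0, 0), (0, 0), (0, 0), (0, 0), (0, 0), (0, 0), (0, 0), (0, 0), (0, 0), (0, 0), (0, 0), (0, 0), (0, 0), (0, 0), (0, 0), (0, 0), (0, 0), (0, 0), (0, 0), (0, 0), (0, 0), (0, 0), (0, 0), (0, 0), (0, 0), (0, 0), (0, 0), (0, 0), (0, 0), (0, 0), (0, 0), (0, 0), (0, 0), (0, 0), (0, 0), (0, 0), (0, 0), (0, 0), (0, 0), (0, 0), (0, 0), (0, 0), (0, 0), (0, 0), (0, 0), (0, 0), (0, 0), (0, 0), (0, 0), (0, 0), (0, 0), (0, 0), (0, 0), (0, 0), (0, 0), (0, 0), (0, 0), (0, 0), (0, 0), (0, 0), (0, 0), (0, 0), (0, 0), (0, 0), (0, 0), (0, 0), (0, 0), (0, 0), (0, 0), (0, 0), (0, 0), (0, 0), (0, 0), (0, 0), (0, 0), (0, 0), (0, 0), (0, 0), (0, 0), (0, 0), (0, 0), (0, 0), (0, 0), (0, 0), (0, 0), (0, 0), (0, 0),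 (0, 0), (0, 0), (0, 0), (0, 0), (0, 0), (0, 0), (0, 0), (0, 0), (0, 0), (0, 0), (0, 0), (0, 0), (0, 0), (0, 0), (0, 0), (0, 0), (0, 0), (0, 0), (0, 0), (0, 0), (0, 0), (0, 0), (0, 0), (0, 0), (0, 0), (0, 0), (0, 0), (0, 0), (0, 0), (0, 0), (0, 0), (0, 0), (0, 0), (0, 0), (0, 0), (0, 0), (0, 0), (0, 0), (0, 0), (0, 0), (0, 0), (0, 0), (0, 0), (0, 0), (0, 0), (0, 0), (0, 0), (0, 0), (0, 0), (0, 0), (0, 0), (0, 0), (0, 0), (0, 0), (0, 0), (0, 0), (0, 0), (0, 0), (0, 0), (0, 0), (0, 0), (0, 0), (0, 0), (0, 0), (0, 0), (0, 0), (0, 0), (0, 0), (0, 0), (0, 0), (0, 0), (0, 0), (0, 0), (0, 0), (0, 0), (0, 0), (0, 0), (0, 0), (0, 0), (0, 0), (0, 0), (0, 0), (0, 0), (0, 0), (0, 0), (0, 0), (0, 0), (0, 0), (0, 0), (0, 0), (0, 0), (0, 0), (0, 0), (0, 0), (0, 0), (0, 0),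 (0, 0), (0, 0), (0, 0), (0, 0), (0, 0), (0, 0), (0, 0), (0, 0), (0, 0), (0, 0), (0, 0), (0, 0), (0, 0), (0, 0), (0, 0), (0, 0), (0, 0), (0, 0), (0, 0), (0, 0), (0, 0), (0, 0), (0, 0), (0, 0), (0, 0), (0, 0), (0, 0), (0, 0), (0, 0), (0, 0), (0, 0), (0, 0), (0, 0), (0, 0), (0, 0), (0, 0), (0, 0), (0, 0), (0, 0), (0, 0), (0, 0), (185, 8), (0, 0), (0, 0), (0, 0), (0, 0), (0, 0), (0, 0), (0, 0), (0, 0), (0, 0), (0, 0), (0, 0), (0, 0), (0, 0), (0, 0), (188, 21), (0, 0), (0, 0), (0, 0), (0, 0), (0, 0), (0, 0), (0, 0), (0, 0), (0, 0), (0, 0), (0, 0), (0, 0), (0, 0), (0, 0), (0, 0), (0, 0), (0, 0), (0, 0), (0, 0), (0, 0), (0, 0), (0, 0), (0, 0), (0, 0), (0, 0), (0, 0), (0, 0), (0, 0), (0, 0), (0, 0), (0, 0), (0, 0), (0, 0), (0, 0), (0, 0), (0, 0), (0, 0), (0, 0), (0,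 0), (0, 0), (0, 0), (0, 0), (0, 0), (0, 0), (0, 0), (0, 0), (0, 0), (0, 0), (0, 0), (0, 0), (0, 0), (0, 0), (0, 0), (0, 0), (0, 0), (0, 0), (0, 0), (0, 0), (0, 0), (0, 0), (0, 0), (0, 0), (0, 0), (0, 0), (0, 0), (0, 0), (0, 0), (0, 0), (0, 0), (0, 0), (0, 0), (0, 0), (0, 0), (0, 0), (0, 0), (210, 1), (210, 5)]

/-- The moves as syllables. -/
def mvs : List (List ℕ) :=
  [[2, 2],
    [2, 2],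
    [2, 2],
    [6, 1, 6],
    [6, 1, 6],
    [179, 1, 121],
    [121, 1, 179],
    [1909, 1, 252],
    [1904, 1, 288],
    [25, 2, 374],
    [374, 2, 25],
    [107, 2, 107, 2, 107, 2, 107, 2, 107, 2, 107, 2, 107, 2, 107, 2, 107, 2, 107],
    [107, 2, 107, 2, 107, 2, 107, 2, 107, 2, 107, 2, 107, 2, 107, 2, 107, 2, 107],
    [107, 2, 107, 2, 107, 2, 107, 2, 107, 2, 107, 2, 107, 2, 107, 2, 107, 2, 107],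
    [107, 2, 107, 2, 107, 2, 107, 2, 107, 2, 107, 2, 107, 2, 107, 2, 107, 2, 107],
    [107, 2, 107, 2, 107, 2, 107, 2, 107, 2, 107, 2, 107, 2, 107, 2, 107, 2, 107],
    [107, 2, 107, 2, 107, 2, 107, 2, 107, 2, 107, 2, 107, 2, 107, 2, 107, 2, 107],
    [107, 2, 107, 2, 107, 2, 107, 2, 107, 2, 107, 2, 107, 2, 107, 2, 107, 2, 107],
    [107, 2, 107, 2, 107, 2, 107, 2, 107, 2, 107, 2, 107, 2, 107, 2, 107, 2, 107],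
    [107, 2, 107, 2, 107, 2, 107, 2, 107, 2, 107, 2, 107, 2, 107, 2, 107, 2, 107],
    [107, 2, 107, 2, 107, 2, 107, 2, 107, 2, 107, 2, 107, 2, 107, 2, 107, 2, 107],
    [1057, 1, 107, 2, 107, 1, 107, 2, 107, 1, 107, 2, 107, 1, 107],
    [107, 1, 107, 2, 1057, 1, 107, 2, 107, 1, 107, 2, 107, 1, 107],
    [107, 1, 107, 2, 107, 1, 107, 2, 1057, 1, 107, 2, 107, 1, 107],
    [107, 1, 107, 2, 107, 1, 107, 2, 107, 1, 107, 2, 1057, 1, 107],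
    [1057, 1, 107, 2, 107, 1, 107, 2, 107, 1, 107, 2, 107, 1, 107],
    [107, 1, 107, 2, 1057, 1, 107, 2, 107, 1, 107, 2, 107, 1, 107],
    [107, 1, 107, 2, 107, 1, 107, 2, 1057, 1, 107, 2, 107, 1, 107],
    [107, 1, 107, 2, 107, 1, 107, 2, 107, 1, 107, 2, 1057, 1, 107]]

/-- The origin of each move. -/
def mvSrc : List MvSrc :=
  [(23, false, 0, [[7], [7]]),
    (23, false, 1, [[7], [7]]),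
    (23, false, 2, [[7], [7]]),
    (24, false, 0, [[3], [6], [3]]),
    (24, true, 1, [[2], [6], [2]]),
    (25, false, 0, [[3, 0, 0, 3, 1], [6], [0, 3, 1, 1, 3]]),
    (25, true, 5, [[0, 2, 1, 1, 2], [6], [2, 0, 0, 2, 1]]),
    (26, false, 0, [[0, 0, 3, 1, 1, 3, 5, 1, 1, 5, 1, 3], [6], [0, 0, 5, 1, 5, 1]]),
    (26, true, 12, [[2, 0, 4, 0, 0, 4, 2, 0, 0, 2, 1, 1], [6], [0, 4, 0, 4, 1, 1]]),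
    (27, false, 3, [[0, 5, 1], [7], [3, 0, 0, 3, 5, 1]]),
    (27, false, 10, [[3, 0, 0, 3, 5, 1], [7], [0, 5, 1]]),
    (28, false, 0, [[0, 0, 3, 1, 1], [7], [0, 0, 3, 1, 1], [7], [0, 0, 3, 1, 1], [7], [0, 0, 3, 1, 1], [7], [0, 0, 3, 1, 1], [7], [0, 0, 3, 1, 1], [7], [0, 0, 3, 1, 1], [7], [0, 0, 3, 1, 1], [7], [0, 0, 3, 1, 1], [7], [0, 0, 3, 1, 1]]),
    (28, false, 6, [[0, 0, 3, 1, 1], [7], [0, 0, 3, 1, 1], [7], [0, 0, 3, 1, 1], [7], [0, 0, 3, 1, 1], [7], [0, 0, 3, 1, 1], [7], [0, 0, 3, 1, 1], [7], [0, 0, 3, 1, 1], [7], [0, 0, 3, 1, 1], [7], [0, 0, 3, 1, 1], [7], [0, 0, 3, 1, 1]]),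
    (28, false, 12, [[0, 0, 3, 1, 1], [7], [0, 0, 3, 1, 1], [7], [0, 0, 3, 1, 1], [7], [0, 0, 3, 1, 1], [7], [0, 0, 3, 1, 1], [7], [0, 0, 3, 1, 1], [7], [0, 0, 3, 1, 1], [7], [0, 0, 3, 1, 1], [7], [0, 0, 3, 1, 1], [7], [0, 0, 3, 1, 1]]),
    (28, false, 18, [[0, 0, 3, 1, 1], [7], [0, 0, 3, 1, 1], [7], [0, 0, 3, 1, 1], [7], [0, 0, 3, 1, 1], [7], [0, 0, 3, 1, 1], [7], [0, 0, 3, 1, 1], [7], [0, 0, 3, 1, 1], [7], [0, 0, 3, 1, 1], [7], [0, 0, 3, 1, 1], [7], [0, 0, 3, 1, 1]]),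
    (28, false, 24, [[0, 0, 3, 1, 1], [7], [0, 0, 3, 1, 1], [7], [0, 0, 3, 1, 1], [7], [0, 0, 3, 1, 1], [7], [0, 0, 3, 1, 1], [7], [0, 0, 3, 1, 1], [7], [0, 0, 3, 1, 1], [7], [0, 0, 3, 1, 1], [7], [0, 0, 3, 1, 1], [7], [0, 0, 3, 1, 1]]),
    (28, false, 30, [[0, 0, 3, 1, 1], [7], [0, 0, 3, 1, 1], [7], [0, 0, 3, 1, 1], [7], [0, 0, 3, 1, 1], [7], [0, 0, 3, 1, 1], [7], [0, 0, 3, 1, 1], [7], [0, 0, 3, 1, 1], [7], [0, 0, 3, 1, 1], [7], [0, 0, 3, 1, 1], [7], [0, 0, 3, 1, 1]]),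
    (28, false, 36, [[0, 0, 3, 1, 1], [7], [0, 0, 3, 1, 1], [7], [0, 0, 3, 1, 1], [7], [0, 0, 3, 1, 1], [7], [0, 0, 3, 1, 1], [7], [0, 0, 3, 1, 1], [7], [0, 0, 3, 1, 1], [7], [0, 0, 3, 1, 1], [7], [0, 0, 3, 1, 1], [7], [0, 0, 3, 1, 1]]),
    (28, false, 42, [[0, 0, 3, 1, 1], [7], [0, 0, 3, 1, 1], [7], [0, 0, 3, 1, 1], [7], [0, 0, 3, 1, 1], [7], [0, 0, 3, 1, 1], [7], [0, 0, 3, 1, 1], [7], [0, 0, 3, 1, 1], [7], [0, 0, 3, 1, 1], [7], [0, 0, 3, 1, 1], [7], [0, 0, 3, 1, 1]]),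
    (28, false, 48, [[0, 0, 3, 1, 1], [7], [0, 0, 3, 1, 1], [7], [0, 0, 3, 1, 1], [7], [0, 0, 3, 1, 1], [7], [0, 0, 3, 1, 1], [7], [0, 0, 3, 1, 1], [7], [0, 0, 3, 1, 1], [7], [0, 0, 3, 1, 1], [7], [0, 0, 3, 1, 1], [7], [0, 0, 3, 1, 1]]),
    (28, false, 54, [[0, 0, 3, 1, 1], [7], [0, 0, 3, 1, 1], [7], [0, 0, 3, 1, 1], [7], [0, 0, 3, 1, 1], [7], [0, 0, 3, 1, 1], [7], [0, 0, 3, 1, 1], [7], [0, 0, 3, 1, 1], [7], [0, 0, 3, 1, 1], [7], [0, 0, 3, 1, 1], [7], [0, 0, 3, 1, 1]]),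
    (29, false, 0, [[0, 3, 1, 1, 3, 0, 0, 3, 1, 1], [6], [0, 0, 3, 1, 1], [7], [0, 0, 3, 1, 1], [6], [0, 0, 3, 1, 1], [7], [0, 0, 3, 1, 1], [6], [0, 0, 3, 1, 1], [7], [0, 0, 3, 1, 1], [6], [0, 0, 3, 1, 1]]),
    (29, false, 12, [[0, 0, 3, 1, 1], [6], [0, 0, 3, 1, 1], [7], [0, 3, 1, 1, 3, 0, 0, 3, 1, 1], [6], [0, 0, 3, 1, 1], [7], [0, 0, 3, 1, 1], [6], [0, 0, 3, 1, 1], [7], [0, 0, 3, 1, 1], [6], [0, 0, 3, 1, 1]]),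
    (29, false, 24, [[0, 0, 3, 1, 1], [6], [0, 0, 3, 1, 1], [7], [0, 0, 3, 1, 1], [6], [0, 0, 3, 1, 1], [7], [0, 3, 1, 1, 3, 0, 0, 3, 1, 1], [6], [0, 0, 3, 1, 1], [7], [0, 0, 3, 1, 1], [6], [0, 0, 3, 1, 1]]),
    (29, false, 36, [[0, 0, 3, 1, 1], [6], [0, 0, 3, 1, 1], [7], [0, 0, 3, 1, 1], [6], [0, 0, 3, 1, 1], [7], [0, 0, 3, 1, 1], [6], [0, 0, 3, 1, 1], [7], [0, 3, 1, 1, 3, 0, 0, 3, 1, 1], [6], [0, 0, 3, 1, 1]]),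
    (29, true, 10, [[0, 0, 2, 1, 1, 2, 0, 0, 2, 1], [6], [0, 0, 2, 1, 1], [7], [0, 0, 2, 1, 1], [6], [0, 0, 2, 1, 1], [7], [0, 0, 2, 1, 1], [6], [0, 0, 2, 1, 1], [7], [0, 0, 2, 1, 1], [6], [0, 0, 2, 1, 1]]),
    (29, true, 22, [[0, 0, 2, 1, 1], [6], [0, 0, 2, 1, 1], [7], [0, 0, 2, 1, 1, 2, 0, 0, 2, 1], [6], [0, 0, 2, 1, 1], [7], [0, 0, 2, 1, 1], [6], [0, 0, 2, 1, 1], [7], [0, 0, 2, 1, 1], [6], [0, 0, 2, 1, 1]]),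
    (29, true, 34, [[0, 0, 2, 1, 1], [6], [0, 0, 2, 1, 1], [7], [0, 0, 2, 1, 1], [6], [0, 0, 2, 1, 1], [7], [0, 0, 2, 1, 1, 2, 0, 0, 2, 1], [6], [0, 0, 2, 1, 1], [7], [0, 0, 2, 1, 1], [6], [0, 0, 2, 1, 1]]),
    (29, true, 46, [[0, 0, 2, 1, 1], [6], [0, 0, 2, 1, 1], [7], [0, 0, 2, 1, 1], [6], [0, 0, 2, 1, 1], [7], [0, 0, 2, 1, 1], [6], [0, 0, 2, 1, 1], [7], [0, 0, 2, 1, 1, 2, 0, 0, 2, 1], [6], [0, 0, 2, 1, 1]])]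

/-- The certificate. -/
noncomputable def cert : Cert := mkCert fcs pars mvs 64 29

/-- The justifications. -/
def pf (f : ℕ) : Pf := (pfs.getD (f / 64) []).getD (f % 64) ⟨0, 0, 0, 0, [], []⟩

theorem facts_ok : allBelow nFacts (fun f => factB cert f (cert.fact f) (pf f)) = true := by
  decide +kernel

/-- The start and the two traces of the contradiction. -/
def finA : List Step := []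

/-- The second trace. -/
def finB : List Step := [(3, 314, 0), (3, 314, 0), (3, 314, 0), (3, 314, 0), (3, 314, 0), (3, 314, 0), (3, 314, 0), (3, 314, 0), (3, 314, 0), (3, 314, 0)]

theorem fin_ok : clashB cert nFacts (46, 0) finA finB = true := by decide +kernel

end Cfsg.Agent.Lib.J3Uniq.Alt1
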