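import Mathlib
import Cfsg.Agent.Lib.HJUniq.Amalgam

/-!
# Uniqueness of the third Janko group: a double coset certificate

An amalgamated group on `a, t, q, r` is covered by finitely many double cosets of `C = ⟨a, t, q⟩`.  Every fact
is an equation `w i * c * r ^ p = l * w j * e` with `c, l, e` in `C`, justified by two traces from one start.

Owner: helper74.
-/

set_option autoImplicit false
set_option linter.style.haveILetI false

namespace Cfsg.Agent.Lib.J3Uniq

open Cfsg.Agent.Lib.CosetEnum Cfsg.Agent.Lib.ExactCover Cfsg.Agent.Lib.HJUniq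

/-- The product of two positions. -/
noncomputable def mulI (i j : ℕ) : ℕ := scan 6 HJC1920.table (wd j) i

/-- The inverse letter, without relations. -/
def flipL (g : ℕ) : ℕ := if g % 2 = 0 then g + 1 else g - 1

/-- The inverse word, without relations. -/
def invWord' (l : List ℕ) : List ℕ := (l.map flipL).reverse

/-- The inverse position. -/
noncomputable def invI (i : ℕ) : ℕ := sc (invWord' (wd i))

/-- A state `L * w I * R`. -/
abbrev St : Type := ℕ × ℕ × ℕ

/-- A fact `w i * c * r ^ p = l * w j * e`. -/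
structure Fc where
  i : ℕ
  c : ℕ
  p : ℕ
  j : ℕ
  l : ℕ
  e : ℕ

/-- A step: a kind and two arguments. -/
abbrev Step : Type := ℕ × ℕ × ℕ

/-- The data of a certificate. -/
structure Cert where
  /-- the facts -/
  fact : ℕ → Fc
  /-- the parent and the position defining a node -/
  par : ℕ → ℕ × ℕ
  /-- images of the elements of `W`: `r * xa k * r⁻¹ = xb k` -/
  xa : ℕ → ℕ
  /-- images of the elements of `W` -/
  xb : ℕ → ℕ
  /-- the words equal to `r` -/
  mv : ℕ → List ℕ
  /-- their number -/
  nmv : ℕ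
  /-- the number of images -/
  nx : ℕ

variable (K : Cert)

/-- One step. -/
noncomputable def app (n : ℕ) : Step → St → Option St
  | (0, e, _), (L, I, R) => if e < 1920 then some (L, I, mulI R e) else none
  | (1, f, k), (L, I, R) =>
    if f < n ∧ k < K.nx ∧ I = (K.fact f).i ∧ (K.fact f).p = 1 ∧ R = mulI (K.fact f).c (K.xb k) then
      some (mulI L (K.fact f).l, (K.fact f).j, mulI (K.fact f).e (K.xa k)) else none
  | (2, f, k), (L, I, R) =>
    if f < n ∧ k < K.nx ∧ I = (K.fact f).j ∧ (K.fact f).p = 1 ∧ R = mulI (K.fact f).e (K.xa k) then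
      some (mulI L (invI (K.fact f).l), (K.fact f).i, mulI (K.fact f).c (K.xb k)) else none
  | (3, f, _), (L, I, R) =>
    if f < n ∧ I = (K.fact f).i ∧ (K.fact f).p = 0 then
      some (mulI L (K.fact f).l, (K.fact f).j, mulI (K.fact f).e (mulI (invI (K.fact f).c) R)) else none
  | (4, f, _), (L, I, R) =>
    if f < n ∧ I = (K.fact f).j ∧ (K.fact f).p = 0 then
      some (mulI L (invI (K.fact f).l), (K.fact f).i, mulI (K.fact f).c (mulI (invI (K.fact f).e) R)) else none
  | (_, e, _), (L, I, R) =>
    if I = 0 ∧ e < 1920 then some (mulI L e, 0, mulI (invI e) R) else none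

/-- A sequence of steps. -/
noncomputable def run (n : ℕ) : List Step → St → Option St
  | [], s => some s
  | p :: l, s => (app K n p s).bind (run n l)

/-- The syllable of a step. -/
def piece : Step → List ℕ
  | (0, e, _) => [e + 3]
  | (1, _, _) => [1]
  | (2, _, _) => [2]
  | _ => []

/-- The syllables of a sequence of steps. -/
def pieces (l : List Step) : List ℕ := l.flatMap piece

/-- The justification of a fact: a start, a mode with its move and two sequences of steps. -/
structure Pf where
  si : ℕ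
  sc : ℕ
  mode : ℕ
  m : ℕ
  A : List Step
  B : List Step

/-- The test of a fact. -/
noncomputable def factB (n : ℕ) (f : Fc) (pf : Pf) : Bool :=
  decide (f.i < 4096 ∧ f.j < 4096 ∧ f.c < 1920 ∧ f.l < 1920 ∧ f.e < 1920 ∧ pf.sc < 1920) &&
  match pf.mode with
  | 0 => decide (f.j ≠ 0 ∧ f.p = 1 ∧ f.l = 0 ∧ f.e = 0 ∧ K.par f.j = (f.i, f.c) ∧ f.i < f.j)
  | 1 => decide (f.p = 1 ∧ pf.si = f.i ∧ pf.sc = f.c ∧
      (pieces pf.A = [1] ∨ (pf.m < K.nmv ∧ pieces pf.A = K.mv pf.m))) &&
      (match run K n pf.A (0, f.i, f.c) with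
        | some s => decide (s = (f.l, f.j, f.e))
        | none => false)
  | _ => decide (f.p = 0 ∧ (pieces pf.A = pieces pf.B ∨
      (pf.m < K.nmv ∧ pieces pf.A = K.mv pf.m ∧ pieces pf.B = [1]) ∨
      (pf.m < K.nmv ∧ pieces pf.B = K.mv pf.m ∧ pieces pf.A = [1]))) &&
      (match run K n pf.A (0, pf.si, pf.sc), run K n pf.B (0, pf.si, pf.sc) with
        | some (La, Ia, Ra), some (Lb, Ib, Rb) =>
          decide (Ia = f.i ∧ Ib = f.j ∧ f.l = mulI (invI La) Lb ∧ f.e = mulI (mulI Rb (invI Ra)) f.c)
        | _, _ => false)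

variable {G : Type*} [Group G] {a t q r : G}

/-- The value of a position. -/
noncomputable abbrev el (a t q : G) (i : ℕ) : G := evC a t q (wd i)

/-- The value of a syllable. -/
noncomputable def pval (a t q r : G) (g : ℕ) : G :=
  if g = 1 then r else if g = 2 then r⁻¹ else el a t q (g - 3)

/-- The value of a word in syllables. -/
noncomputable def sval (a t q r : G) (l : List ℕ) : G := (l.map (pval a t q r)).prod

/-- The representatives of the double cosets, by recursion on fuel. -/
noncomputable def nodeF (a t q r : G) : ℕ → ℕ → G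
  | 0, _ => 1
  | f + 1, j => if j = 0 then 1
      else if (K.par j).1 < j then nodeF a t q r f (K.par j).1 * el a t q (K.par j).2 * r else 1

/-- The representative of a double coset. -/
noncomputable def node (a t q r : G) (j : ℕ) : G := nodeF K a t q r (j + 1) j

theorem nodeF_eq (a t q r : G) : ∀ f g j, j < f → j < g → nodeF K a t q r f j = nodeF K a t q r g j := by
  intro f
  induction f with
  | zero => intro g j hj; omega
  | succ f ih =>
    intro g j hj hg
    obtain ⟨g, rfl⟩ : ∃ k, g = k + 1 := ⟨g - 1, by omega⟩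
    simp only [nodeF]
    split_ifs with h0 hp
    · rfl
    · rw [ih g _ (by omega) (by omega)]
    · rfl

theorem node_zero (a t q r : G) : node K a t q r 0 = 1 := rfl

theorem node_succ (a t q r : G) {j : ℕ} (hj : j ≠ 0) (hp : (K.par j).1 < j) :
    node K a t q r j = node K a t q r (K.par j).1 * el a t q (K.par j).2 * r := by
  show nodeF K a t q r (j + 1) j = _
  rw [nodeF, if_neg hj, if_pos hp, node, nodeF_eq K a t q r ((K.par j).1 + 1) j _ (by omega) hp]

/-- The value of a state. -/
noncomputable def val (a t q r : G) (s : St) : G :=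
  el a t q s.1 * node K a t q r s.2.1 * el a t q s.2.2

/-- The meaning of a fact. -/
def Good (a t q r : G) (f : Fc) : Prop :=
  f.c < 1920 ∧ f.l < 1920 ∧ f.e < 1920 ∧
    node K a t q r f.i * el a t q f.c * r ^ f.p = el a t q f.l * node K a t q r f.j * el a t q f.e

theorem scan_lt {l : List ℕ} (hl : ∀ g ∈ l, g < 6) {i : ℕ} (hi : i < 1920) :
    scan 6 HJC1920.table l i < 1920 := by
  obtain ⟨act, -⟩ := exists_act_of_enum HJC1920.enum
  exact (act.scan_eq l hl ⟨i, hi⟩) ▸ Fin.isLt _

theorem scan_append (l l' : List ℕ) (i : ℕ) :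
    scan 6 HJC1920.table (l ++ l') i = scan 6 HJC1920.table l' (scan 6 HJC1920.table l i) := by
  induction l generalizing i with
  | nil => rfl
  | cons g l ih => simp only [scan, List.cons_append, force_eq] at *; exact ih _

theorem mulI_lt {i j : ℕ} (hi : i < 1920) (hj : j < 1920) : mulI i j < 1920 :=
  scan_lt (HJUniq.small_iff.1 (small_wd hj)) hi

theorem flip_small : ∀ g < 6, flipL g < 6 := by decide

theorem small_invWord {l : List ℕ} (h : small l = true) : small (invWord' l) = true := by
  rw [HJUniq.small_iff] at h ⊢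
  intro g hg
  simp only [invWord', List.mem_reverse, List.mem_map] at hg
  obtain ⟨x, hx, rfl⟩ := hg
  exact flip_small x (h x hx)

theorem invI_lt {i : ℕ} (hi : i < 1920) : invI i < 1920 :=
  scan_lt (HJUniq.small_iff.1 (small_invWord (small_wd hi))) (by omega)

theorem ev_invWord' (a t q r : G) {l : List ℕ} (hl : ∀ g ∈ l, g < 8) :
    ev (lett a t q r) (invWord' l) = (ev (lett a t q r) l)⁻¹ := by
  induction l with
  | nil => simp [invWord', ev_nil]
  | cons g l ih =>
    have e : lett a t q r (flipL g) = (lett a t q r g)⁻¹ := by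
      have := hl g List.mem_cons_self
      interval_cases g <;> simp [flipL, lett]
    rw [invWord', List.map_cons, List.reverse_cons, ev_append, ← invWord',
      ih fun x hx => hl x (List.mem_cons_of_mem _ hx), ev_cons, ev_nil, mul_one, e, ev_cons, mul_inv_rev]

/-- The relators of the centraliser hold. -/
def CRels (a t q : G) : Prop := ∀ l ∈ HJC1920.relWords, evC a t q l = 1

/-- Words leading to the same position have the same value. -/
theorem eq_of_sc (h : CRels a t q) {l l' : List ℕ} (hl : small l = true) (hl' : small l' = true)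
    (e : sc l = sc l') : evC a t q l = evC a t q l' := by
  have hR : ∀ x ∈ HJC1920.pres, FreeGroup.lift ![a, t, q] x = 1 := by
    intro x hx
    obtain ⟨l, hl, rfl⟩ := List.mem_map.1 hx
    show FreeGroup.lift ![a, t, q] (word 3 l) = 1
    rw [lift_word3 a t q (HJUniq.small_iff.1 (relWords_small l hl))]
    exact h l hl
  have hσ : ∀ l, small l = true → PresentedGroup.toGroup hR (ExactCover.el (n := 3) HJC1920.relWords l) = evC a t q l := fun l hl =>
    lift_word3 a t q (HJUniq.small_iff.1 hl)
  rw [← hσ l hl, ← hσ l' hl', (sc_eq_iff hl hl').1 e]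

theorem el_zero : el a t q 0 = 1 := rfl

theorem el_mul (h : CRels a t q) {i j : ℕ} (hi : i < 1920) (hj : j < 1920) :
    el a t q i * el a t q j = el a t q (mulI i j) := by
  rw [el, el, ← evC_append]
  refine eq_of_sc h (small_append (small_wd hi) (small_wd hj)) (small_wd (mulI_lt hi hj)) ?_
  rw [sc_wd (mulI_lt hi hj), sc, scan_append]
  show scan 6 HJC1920.table (wd j) (sc (wd i)) = _
  rw [sc_wd hi]
  rfl

theorem el_inv (h : CRels a t q) {i : ℕ} (hi : i < 1920) : el a t q (invI i) = (el a t q i)⁻¹ := by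
  have e : evC a t q (invWord' (wd i)) = (el a t q i)⁻¹ :=
    ev_invWord' a t q 1 fun g hg => lt_trans (HJUniq.small_iff.1 (small_wd hi) g hg) (by omega)
  rw [← e]
  exact eq_of_sc h (small_wd (invI_lt hi)) (small_invWord (small_wd hi)) (by rw [sc_wd (invI_lt hi)]; rfl)

/-- The hypotheses on the images of `W` and on the moves. -/
structure Sound (a t q r : G) : Prop where
  rels : CRels a t q
  twist : ∀ k < K.nx, K.xa k < 1920 ∧ K.xb k < 1920 ∧
    r * el a t q (K.xa k) = el a t q (K.xb k) * r
  move : ∀ m < K.nmv, sval a t q r (K.mv m) = r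

variable {K}

theorem pval_shift (e : ℕ) : pval a t q r (e + 3) = el a t q e := by
  rw [pval, if_neg (by omega), if_neg (by omega)]
  rfl

theorem app_sound (h : Sound K a t q r) {n : ℕ} (hg : ∀ f < n, Good K a t q r (K.fact f))
    {p : Step} {s s' : St} (e : app K n p s = some s') (hs : s.1 < 1920 ∧ s.2.2 < 1920) :
    (s'.1 < 1920 ∧ s'.2.2 < 1920) ∧ val K a t q r s' = val K a t q r s * sval a t q r (piece p) := by
  obtain ⟨L, I, R⟩ := s
  obtain ⟨hL, hR⟩ := hs
  simp only at hL hR
  have hh := h.rels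
  rcases p with ⟨_ | _ | _ | _ | _ | k, f, x⟩ <;> simp only [app, Option.ite_none_right_eq_some] at e <;>
    obtain ⟨hc, he⟩ := e <;> obtain rfl := Option.some_inj.1 he.symm
  · refine ⟨⟨hL, mulI_lt hR hc⟩, ?_⟩
    simp only [val, piece, sval, List.map_cons, List.map_nil, List.prod_cons, List.prod_nil, mul_one,
      pval_shift]
    rw [← el_mul hh hR hc]
    simp only [mul_assoc]
  · obtain ⟨hf, hx, rfl, hp, rfl⟩ := hc
    obtain ⟨g1, g2, g3, g4⟩ := hg f hf
    obtain ⟨x1, x2, x3⟩ := h.twist x hx
    rw [hp, pow_one] at g4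
    refine ⟨⟨mulI_lt hL g2, mulI_lt g3 x1⟩, ?_⟩
    simp only [val, piece, sval, List.map_cons, List.map_nil, List.prod_cons, List.prod_nil, mul_one,
      pval, if_true]
    rw [← el_mul hh hL g2, ← el_mul hh g3 x1, ← el_mul hh g1 x2]
    calc el a t q L * el a t q (K.fact f).l * node K a t q r (K.fact f).j *
          (el a t q (K.fact f).e * el a t q (K.xa x))
        = el a t q L * (el a t q (K.fact f).l * node K a t q r (K.fact f).j * el a t q (K.fact f).e) *
            el a t q (K.xa x) := by group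
      _ = el a t q L * node K a t q r (K.fact f).i * el a t q (K.fact f).c * (r * el a t q (K.xa x)) := by
          rw [← g4]; group
      _ = _ := by rw [x3]; group
  · obtain ⟨hf, hx, rfl, hp, rfl⟩ := hc
    obtain ⟨g1, g2, g3, g4⟩ := hg f hf
    obtain ⟨x1, x2, x3⟩ := h.twist x hx
    rw [hp, pow_one] at g4
    refine ⟨⟨mulI_lt hL (invI_lt g2), mulI_lt g1 x2⟩, ?_⟩
    simp only [val, piece, sval, List.map_cons, List.map_nil, List.prod_cons, List.prod_nil, mul_one,
      pval, show ¬(2 = 1) by omega, if_false, if_true]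
    rw [← el_mul hh hL (invI_lt g2), el_inv hh g2, ← el_mul hh g3 x1, ← el_mul hh g1 x2]
    calc el a t q L * (el a t q (K.fact f).l)⁻¹ * node K a t q r (K.fact f).i *
          (el a t q (K.fact f).c * el a t q (K.xb x))
        = el a t q L * (el a t q (K.fact f).l)⁻¹ * (node K a t q r (K.fact f).i * el a t q (K.fact f).c) *
            (el a t q (K.xb x) * r) * r⁻¹ := by group
      _ = el a t q L * (el a t q (K.fact f).l)⁻¹ *
            (node K a t q r (K.fact f).i * el a t q (K.fact f).c * r) * el a t q (K.xa x) * r⁻¹ := by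
          rw [← x3]; group
      _ = _ := by rw [g4]; group
  · obtain ⟨hf, rfl, hp⟩ := hc
    obtain ⟨g1, g2, g3, g4⟩ := hg f hf
    rw [hp, pow_zero, mul_one] at g4
    refine ⟨⟨mulI_lt hL g2, mulI_lt g3 (mulI_lt (invI_lt g1) hR)⟩, ?_⟩
    simp only [val, piece, sval, List.map_nil, List.prod_nil, mul_one]
    rw [← el_mul hh hL g2, ← el_mul hh g3 (mulI_lt (invI_lt g1) hR), ← el_mul hh (invI_lt g1) hR,
      el_inv hh g1]
    calc el a t q L * el a t q (K.fact f).l * node K a t q r (K.fact f).j *
          (el a t q (K.fact f).e * ((el a t q (K.fact f).c)⁻¹ * el a t q R))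
        = el a t q L * (el a t q (K.fact f).l * node K a t q r (K.fact f).j * el a t q (K.fact f).e) *
            ((el a t q (K.fact f).c)⁻¹ * el a t q R) := by group
      _ = _ := by rw [← g4]; group
  · obtain ⟨hf, rfl, hp⟩ := hc
    obtain ⟨g1, g2, g3, g4⟩ := hg f hf
    rw [hp, pow_zero, mul_one] at g4
    refine ⟨⟨mulI_lt hL (invI_lt g2), mulI_lt g1 (mulI_lt (invI_lt g3) hR)⟩, ?_⟩
    simp only [val, piece, sval, List.map_nil, List.prod_nil, mul_one]
    rw [← el_mul hh hL (invI_lt g2), el_inv hh g2, ← el_mul hh g1 (mulI_lt (invI_lt g3) hR),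
      ← el_mul hh (invI_lt g3) hR, el_inv hh g3]
    calc el a t q L * (el a t q (K.fact f).l)⁻¹ * node K a t q r (K.fact f).i *
          (el a t q (K.fact f).c * ((el a t q (K.fact f).e)⁻¹ * el a t q R))
        = el a t q L * (el a t q (K.fact f).l)⁻¹ * (node K a t q r (K.fact f).i * el a t q (K.fact f).c) *
            ((el a t q (K.fact f).e)⁻¹ * el a t q R) := by group
      _ = _ := by rw [g4]; group
  · obtain ⟨rfl, hf⟩ := hc
    refine ⟨⟨mulI_lt hL hf, mulI_lt (invI_lt hf) hR⟩, ?_⟩
    simp only [val, piece, sval, List.map_nil, List.prod_nil, mul_one, node_zero]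
    rw [← el_mul hh hL hf, ← el_mul hh (invI_lt hf) hR, el_inv hh hf]
    group

theorem run_sound (h : Sound K a t q r) {n : ℕ} (hg : ∀ f < n, Good K a t q r (K.fact f)) :
    ∀ {l : List Step} {s s' : St}, run K n l s = some s' → (s.1 < 1920 ∧ s.2.2 < 1920) →
      (s'.1 < 1920 ∧ s'.2.2 < 1920) ∧ val K a t q r s' = val K a t q r s * sval a t q r (pieces l) := by
  intro l
  induction l with
  | nil =>
    intro s s' e hs
    obtain rfl := Option.some_inj.1 e
    exact ⟨hs, by simp [pieces, sval]⟩
  | cons p l ih =>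
    intro s s' e hs
    obtain ⟨u, hu, hu'⟩ := Option.bind_eq_some_iff.1 e
    obtain ⟨h1, h2⟩ := app_sound h hg hu hs
    obtain ⟨h3, h4⟩ := ih hu' h1
    refine ⟨h3, ?_⟩
    rw [h4, h2, mul_assoc]
    simp only [pieces, sval, List.flatMap_cons, List.map_append, List.prod_append]

theorem fact_good (h : Sound K a t q r) {n : ℕ} (hg : ∀ f < n, Good K a t q r (K.fact f))
    {f : Fc} {pf : Pf} (e : factB K n f pf = true) : Good K a t q r f := by
  simp only [factB, Bool.and_eq_true, decide_eq_true_eq] at e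
  obtain ⟨⟨-, -, hc, hl, he, hsc⟩, e⟩ := e
  refine ⟨hc, hl, he, ?_⟩
  have hh := h.rels
  split at e
  · simp only [decide_eq_true_eq] at e
    obtain ⟨hj, hp, hl0, he0, hpar, hlt⟩ := e
    rw [node_succ K a t q r hj (by rw [hpar]; exact hlt), hpar, hp, hl0, he0, el_zero, pow_one, one_mul,
      mul_one]
  · simp only [Bool.and_eq_true, decide_eq_true_eq] at e
    obtain ⟨⟨hp, -, -, hA⟩, e⟩ := e
    split at e
    · rename_i s hs
      simp only [decide_eq_true_eq] at e
      subst e
      obtain ⟨-, h2⟩ := run_sound h hg hs ⟨Nat.zero_lt_succ _, hc⟩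
      have hv : sval a t q r (pieces pf.A) = r := by
        rcases hA with hA | ⟨hm, hA⟩ <;> rw [hA]
        · simp [sval, pval]
        · exact h.move _ hm
      simp only [val, el_zero, one_mul, hv] at h2
      rw [hp, pow_one, ← h2]
    · simp at e
  · simp only [Bool.and_eq_true, decide_eq_true_eq] at e
    obtain ⟨⟨hp, hA⟩, e⟩ := e
    split at e
    · rename_i La Ia Ra Lb Ib Rb hsa hsb
      simp only [decide_eq_true_eq] at e
      obtain ⟨rfl, rfl, hl', he'⟩ := e
      obtain ⟨⟨ha1, ha2⟩, h1⟩ := run_sound h hg hsa ⟨Nat.zero_lt_succ _, hsc⟩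
      obtain ⟨⟨hb1, hb2⟩, h2⟩ := run_sound h hg hsb ⟨Nat.zero_lt_succ _, hsc⟩
      have hv : sval a t q r (pieces pf.A) = sval a t q r (pieces pf.B) := by
        rcases hA with hA | ⟨hm, hA, hB⟩ | ⟨hm, hB, hA⟩
        · rw [hA]
        · rw [hA, hB, h.move _ hm]; simp [sval, pval]
        · rw [hA, hB, h.move _ hm]; simp [sval, pval]
      simp only [val, el_zero, one_mul, hv] at h1 h2
      rw [hp, pow_zero, mul_one, hl', he', ← el_mul hh (invI_lt ha1) hb1, el_inv hh ha1,
        ← el_mul hh (mulI_lt hb2 (invI_lt ha2)) hc, ← el_mul hh hb2 (invI_lt ha2), el_inv hh ha2]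
      have h3 := h1.trans h2.symm
      calc node K a t q r f.i * el a t q f.c
          = (el a t q La)⁻¹ * (el a t q La * node K a t q r f.i * el a t q Ra) * (el a t q Ra)⁻¹ *
              el a t q f.c := by group
        _ = _ := by rw [h3]; group
    · simp at e

/-- All facts of a checked certificate hold. -/
theorem all_good (h : Sound K a t q r) (pf : ℕ → Pf) (N : ℕ)
    (hB : ∀ f < N, factB K f (K.fact f) (pf f) = true) : ∀ f < N, Good K a t q r (K.fact f) := by
  intro f
  induction f using Nat.strong_induction_on with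
  | _ f ih => exact fun hf => fact_good h (fun g hg => ih g hg (by omega)) (hB f hf)

/-- The test of the edge leaving `(i, c)`: it lands among the listed double cosets. -/
noncomputable def edgeB (K : Cert) (N : ℕ) (roots : List ℕ) (i c : ℕ) (A : List Step) : Bool :=
  decide (pieces A = [1]) &&
    match run K N A (0, i, c) with
    | some s => roots.any (Nat.beq s.2.1)
    | none => false

/-- The double cosets of the list cover the group generated by `a, t, q, r`. -/
theorem covered (h : Sound K a t q r) (hr : r ^ 3 = 1) (pf : ℕ → Pf) (N : ℕ)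
    (hB : ∀ f < N, factB K f (K.fact f) (pf f) = true) (roots : List ℕ) (h0 : 0 ∈ roots)
    (reps : List ℕ) (hreps : ∀ c ∈ reps, c < 1920)
    (hdec : ∀ c < 1920, ∃ c0 ∈ reps, ∃ k < K.nx, c = mulI c0 (K.xb k)) (A : ℕ → ℕ → List Step)
    (hE : ∀ i ∈ roots, ∀ c ∈ reps, edgeB K N roots i c (A i c) = true) :
    ∀ g ∈ Subgroup.closure ({a, t, q, r} : Set G),
      ∃ i ∈ roots, ∃ x < 1920, ∃ y < 1920, g = el a t q x * node K a t q r i * el a t q y := by
  have hh := h.rels
  have hg := all_good h pf N hB
  set S : Set G := {g | ∃ i ∈ roots, ∃ x < 1920, ∃ y < 1920,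
    g = el a t q x * node K a t q r i * el a t q y} with hS
  have hel : ∀ g ∈ S, ∀ c < 1920, g * el a t q c ∈ S := by
    rintro _ ⟨i, hi, x, hx, y, hy, rfl⟩ c hc
    exact ⟨i, hi, x, hx, mulI y c, mulI_lt hy hc, by rw [← el_mul hh hy hc]; group⟩
  have hrS : ∀ g ∈ S, g * r ∈ S := by
    rintro _ ⟨i, hi, x, hx, y, hy, rfl⟩
    obtain ⟨c0, hc0, k, hk, rfl⟩ := hdec y hy
    obtain ⟨k1, k2, k3⟩ := h.twist k hk
    have hB' := hE i hi c0 hc0
    simp only [edgeB, Bool.and_eq_true, decide_eq_true_eq] at hB'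
    obtain ⟨hp, hB'⟩ := hB'
    split at hB'
    · rename_i s hs
      obtain ⟨j, hj, hjs⟩ := List.any_eq_true.1 hB'
      obtain ⟨⟨s1, s3⟩, h2⟩ := run_sound h hg hs ⟨Nat.zero_lt_succ _, hreps c0 hc0⟩
      simp only [val, el_zero, one_mul, hp, sval, pval, List.map_cons, List.map_nil, List.prod_cons,
        List.prod_nil, mul_one, if_true] at h2
      refine ⟨s.2.1, Nat.eq_of_beq_eq_true hjs ▸ hj, mulI x s.1, mulI_lt hx s1, mulI s.2.2 (K.xa k),
        mulI_lt s3 k1, ?_⟩
      rw [← el_mul hh (hreps c0 hc0) k2, ← el_mul hh hx s1, ← el_mul hh s3 k1]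
      calc el a t q x * node K a t q r i * (el a t q c0 * el a t q (K.xb k)) * r
          = el a t q x * (node K a t q r i * el a t q c0) * (el a t q (K.xb k) * r) := by group
        _ = el a t q x * (node K a t q r i * el a t q c0 * r) * el a t q (K.xa k) := by rw [← k3]; group
        _ = _ := by rw [← h2]; group
    · simp at hB'
  have h1 : (1 : G) ∈ S := ⟨0, h0, 0, by omega, 0, by omega, by simp [el_zero, node_zero]⟩
  have hgen : ∀ (l : List ℕ), small l = true → ∀ g ∈ S, g * evC a t q l ∈ S := fun l hl g hgS => by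
    have hlt : sc l < 1920 := scan_lt (HJUniq.small_iff.1 hl) (by omega)
    rw [eq_of_sc hh hl (small_wd hlt) (sc_wd hlt).symm]
    exact hel g hgS _ hlt
  have ev1 : ∀ n, evC a t q [n] = lett a t q 1 n := fun n => by simp [evC, HJUniq.ev]
  intro g hgmem
  suffices key : ∀ g ∈ Subgroup.closure ({a, t, q, r} : Set G), ∀ u ∈ S, u * g ∈ S ∧ u * g⁻¹ ∈ S by
    simpa [hS] using (key g hgmem 1 h1).1
  intro g hgmem
  induction hgmem using Subgroup.closure_induction with
  | mem x hx =>
    intro u hu
    rcases hx with e | e | e | e <;> subst x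
    · exact ⟨by simpa [ev1, lett] using hgen [0] rfl u hu, by simpa [ev1, lett] using hgen [1] rfl u hu⟩
    · exact ⟨by simpa [ev1, lett] using hgen [2] rfl u hu, by simpa [ev1, lett] using hgen [3] rfl u hu⟩
    · exact ⟨by simpa [ev1, lett] using hgen [4] rfl u hu, by simpa [ev1, lett] using hgen [5] rfl u hu⟩
    · refine ⟨hrS u hu, ?_⟩
      rw [inv_eq_of_mul_eq_one_right (show r * (r * r) = 1 by rw [← mul_assoc, ← pow_two, ← pow_succ, hr]), ← mul_assoc]
      exact hrS _ (hrS u hu)
  | one => intro u hu; simpa using hu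
  | mul x y _ _ ihx ihy =>
    intro u hu
    refine ⟨?_, ?_⟩
    · rw [← mul_assoc]; exact (ihy _ (ihx u hu).1).1
    · rw [mul_inv_rev, ← mul_assoc]; exact (ihx _ (ihy u hu).2).2
  | inv x _ ih => intro u hu; exact ⟨(ih u hu).2, by rw [inv_inv]; exact (ih u hu).1⟩

end Cfsg.Agent.Lib.J3Uniq
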