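import Mathlib
import Cfsg.Agent.Lib.J3Uniq.Cert

/-!
# Uniqueness of the third Janko group: relators holding in a group, moves and covers

Owner: helper74.
-/

set_option autoImplicit false
set_option linter.style.haveILetI false
set_option maxRecDepth 100000

namespace Cfsg.Agent.Lib.J3Uniq

open Cfsg.Agent.Lib.CosetEnum Cfsg.Agent.Lib.ExactCover Cfsg.Agent.Lib.HJUniq

/-- Words in `t, k, e` for the elements of `W`. -/
def idxs : List (List ℕ) :=
  [[], [0], [1], [2], [0, 1], [0, 2], [1, 0], [1, 1], [1, 2], [2, 0], [2, 1], [2, 2], [0, 1, 0], [0, 1, 1], [0, 1, 2], [0, 2, 0], [0, 2, 1], [0, 2, 2], [1, 0, 1], [1, 0, 2], [1, 1, 0], [1, 1, 2], [1, 2, 0], [1, 2, 1], [1, 2, 2], [2, 0, 1], [2, 1, 0], [2, 1, 1], [2, 1, 2], [0, 1, 0, 2], [0, 1, 1, 2], [0, 1, 2, 0], [0, 1, 2, 1], [0, 1, 2, 2], [0, 2, 0, 1], [0, 2, 1, 0], [0, 2, 1, 1], [0, 2, 1, 2], [1, 0, 1, 1], [1, 0, 1, 2], [1, 0, 2, 0], [1, 0, 2, 1], [1, 0, 2, 2], [1, 1, 0,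 1], [1, 1, 0, 2], [1, 1, 2, 0], [1, 1, 2, 1], [1, 1, 2, 2], [1, 2, 0, 1], [1, 2, 1, 0], [1, 2, 1, 1], [1, 2, 1, 2], [2, 0, 1, 0], [2, 0, 1, 1], [2, 0, 1, 2], [2, 1, 0, 1], [2, 1, 0, 2], [2, 1, 1, 0], [2, 1, 1, 2], [2, 1, 2, 0], [2, 1, 2, 1], [0, 1, 0, 2, 0], [0, 1, 0, 2, 1], [0, 1, 0, 2, 2], [0, 1, 1, 2, 0], [0, 1, 1, 2, 1], [0, 1, 1, 2, 2], [0, 1, 2, 0, 1], [0, 1, 2, 1, 0], [0, 1, 2, 1, 1], [0, 1, 2, 1, 2], [0, 2, 0, 1, 0], [0, 2, 0, 1, 1], [0, 2, 0, 1, 2], [0, 2, 1, 0, 1], [0, 2, 1, 0, 2], [0, 2, 1, 1, 0], [0, 2, 1, 1, 2], [0, 2, 1, 2, 0], [0, 2, 1, 2, 1], [1, 0, 1, 1, 2], [1, 0, 1, 2, 0], [1, 0, 1, 2, 1], [1, 0, 1, 2, 2], [1, 0, 2, 0, 1], [1, 0, 2, 1, 1], [1, 1, 0, 1, 2], [1, 1, 0, 2, 0], [1, 1, 0, 2, 1], [1, 1, 0, 2, 2], [1, 1, 2, 0, 1], [1, 1, 2, 1, 0], [1, 1, 2, 1, 1], [1, 1, 2, 1, 2], [1, 2, 0, 1, 0], [1, 2, 0, 1, 1], [1, 2, 1, 0, 1], [1, 2, 1, 0, 2], [1, 2, 1, 1, 0], [1, 2, 1, 1, 2], [1, 2, 1, 2, 0], [1, 2,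 1, 2, 1], [2, 0, 1, 2, 1], [2, 1, 0, 1, 1], [2, 1, 1, 0, 1], [2, 1, 1, 2, 1], [2, 1, 2, 1, 0], [2, 1, 2, 1, 1], [2, 1, 2, 1, 2], [0, 1, 0, 2, 0, 1], [0, 1, 0, 2, 1, 1], [0, 1, 1, 2, 0, 1], [0, 1, 1, 2, 1, 1], [0, 1, 2, 0, 1, 0], [0, 1, 2, 0, 1, 1], [0, 1, 2, 1, 0, 1], [0, 1, 2, 1, 0, 2], [0, 1, 2, 1, 2, 0], [0, 1, 2, 1, 2, 1], [0, 2, 0, 1, 2, 1], [0, 2, 1, 0, 1, 1], [0, 2, 1, 1, 0, 1], [0, 2, 1, 1, 2, 1], [0, 2, 1, 2, 1, 0], [0, 2, 1, 2, 1, 1], [0, 2, 1, 2, 1, 2], [1, 0, 1, 1, 2, 0], [1, 0, 1, 1, 2, 1], [1, 0, 1, 1, 2, 2], [1, 0, 1, 2, 0, 1], [1, 0, 1, 2, 1, 0], [1, 0, 1, 2, 1, 2], [1, 0, 2, 0, 1, 0], [1, 0, 2, 0, 1, 1], [1, 0, 2, 0, 1, 2], [1, 0, 2, 1, 1, 0], [1, 0, 2, 1, 1, 2], [1, 1, 0, 1, 2, 0], [1, 1, 0, 1, 2, 1], [1, 1, 0, 1, 2, 2], [1, 1, 0, 2, 0, 1], [1, 1, 2, 0, 1, 0], [1, 1, 2, 1, 0, 2], [1, 1, 2, 1, 1, 0], [1, 1, 2, 1, 1, 2], [1, 1, 2, 1, 2, 1], [1, 2, 1, 0, 1, 1], [1, 2, 1, 1, 0, 1], [1, 2, 1, 2, 1, 0],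 [1, 2, 1, 2, 1, 1], [1, 2, 1, 2, 1, 2], [2, 0, 1, 2, 1, 0], [2, 0, 1, 2, 1, 2], [2, 1, 0, 1, 1, 2], [2, 1, 1, 0, 1, 2], [2, 1, 1, 2, 1, 1], [2, 1, 2, 1, 0, 2], [2, 1, 2, 1, 2, 0], [0, 1, 0, 2, 0, 1, 0], [0, 1, 0, 2, 0, 1, 2], [0, 1, 1, 2, 0, 1, 0], [0, 1, 1, 2, 1, 1, 0], [0, 1, 1, 2, 1, 1, 2], [0, 1, 2, 1, 0, 1, 1], [0, 1, 2, 1, 2, 1, 0], [0, 1, 2, 1, 2, 1, 1], [0, 1, 2, 1, 2, 1, 2], [0, 2, 0, 1, 2, 1, 0], [0, 2, 0, 1, 2, 1, 2], [0, 2, 1, 0, 1, 1, 2], [0, 2, 1, 1, 0, 1, 2], [0, 2, 1, 1, 2, 1, 1], [0, 2, 1, 2, 1, 0, 2], [0, 2, 1, 2, 1, 2, 0], [1, 0, 1, 1, 2, 0, 1], [1, 0, 1, 2, 0, 1, 1], [1, 0, 1, 2, 1, 0, 1], [1, 0, 1, 2, 1, 2, 1], [1, 0, 2, 1, 1, 0, 1], [1, 0, 2, 1, 1, 2, 1], [1, 1, 0, 1, 2, 0, 1], [1, 1, 0, 2, 0, 1, 1], [1, 1, 2, 1, 2, 1, 2], [1, 2, 1, 0, 1, 1, 2], [1, 2, 1, 1, 0, 1, 2], [1, 2, 1, 2, 1, 0, 2], [2, 1, 0, 1, 1, 2, 1], [2, 1, 1, 0, 1, 2, 1], [2, 1, 1, 2, 1, 1, 2], [0, 1, 2, 1, 2, 1, 0, 2], [0, 2, 1,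 1, 0, 1, 2, 1], [0, 2, 1, 1, 2, 1, 1, 2]]

/-- The elements of `W`. -/
def xas : List ℕ :=
  [0, 3, 176, 285, 43, 507, 184, 118, 1498, 573, 1389, 1015, 59, 152, 874, 249, 878, 1392, 64, 1541, 49, 554, 1354, 954, 1863, 282, 1350, 950, 1536, 1126, 1088, 978, 1451, 1634, 720, 1293, 1450, 1113, 862, 1386, 1185, 1037, 1892, 1272, 937, 275, 290, 1856, 1061, 538, 559, 1269, 568, 1406, 969, 1107, 1521, 534, 1345, 1327, 920, 689, 940, 1719, 649, 724, 1864, 871, 1074, 889, 1423, 1161, 1311, 1458, 903, 1005, 1073, 1417, 894, 658, 1713, 1415, 1815, 1698, 1334, 1817, 1866, 1344, 1853, 1672, 1850, 580, 1505, 491, 1435, 1826, 1906, 923, 536, 495, 951, 363, 1385, 1613, 1825, 691, 516, 581, 1671, 1111, 1904, 1833, 893, 1285, 1901, 1835, 664, 1044, 619, 1282, 1837, 1628, 1048, 339, 674, 1697, 1875, 754, 1911, 743, 1902, 1818, 927, 622, 1333, 1903, 1819, 1702, 361, 1919, 347, 1827, 666, 1150, 1162, 1509, 557, 977, 675, 1477, 594, 1001,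 323, 1273, 1910, 1478, 119, 1349, 670, 1106, 1909, 493, 569, 1154, 315, 1294, 1014, 1308, 259, 1608, 1839, 1127, 153, 1394, 1028, 625, 1052, 1529, 1038, 1534, 1482, 1177, 1696, 141, 1300, 13, 384, 1413, 369, 4, 1766, 105]

/-- Their images under `r`. -/
def xbs : List ℕ :=
  [0, 3, 176, 1906, 43, 1835, 184, 118, 969, 1826, 557, 4, 59, 152, 1458, 1901, 1154, 13, 64, 1052, 49, 1107, 1005, 1385, 369, 1354, 977, 538, 754, 1534, 903, 1521, 1282, 105, 978, 1509, 1074, 361, 862, 1333, 625, 516, 384, 1272, 1106, 1406, 1613, 259, 275, 1001, 580, 940, 1498, 1061, 568, 1435, 720, 954, 658, 1162, 1044, 1177, 339, 141, 1311, 1837, 323, 649, 1308, 495, 1037, 874, 871, 1161, 1285, 282, 1451, 920, 569, 951, 1048, 923, 315, 153, 1415, 1902, 691, 664, 675, 119, 573, 1825, 1350, 724, 554, 1850, 1827, 1334, 290, 1628, 1345, 1904, 534, 536, 559, 674, 1423, 1713, 1856, 1344, 1819, 249, 1293, 1088, 1833, 1909, 1111, 1417, 1817, 1073, 491,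 889, 581, 1269, 1866, 1864, 622, 1127, 1273, 1875, 619, 1853, 1386, 743, 927, 1815, 363, 666, 1478, 1608, 1702, 285, 347, 1389, 1038, 893, 1150, 1505, 1818, 1126, 1015, 950, 1697, 1839, 1919, 1113, 1349, 1672, 937, 670, 507, 878, 1529, 493, 1903, 1541, 1392, 1450, 1671, 1910, 1911, 1536, 1394, 1698, 1185, 1028, 1294, 894, 1327, 1477, 689, 1482, 1863, 1413, 1634, 1014, 1766, 1719, 1696, 594, 1892, 1300]

/-- Representatives of the cosets of `W`. -/
def reps : List ℕ := [0, 1, 2, 5, 8, 14, 15, 21, 22, 29]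

/-- A certificate from blocks of facts, definitions and moves. -/
noncomputable def mkCert (fcs : List (List Fc)) (pars : List (ℕ × ℕ)) (mvs : List (List ℕ)) (CH nmv : ℕ) : Cert where
  fact f := (fcs.getD (f / CH) []).getD (f % CH) ⟨0, 0, 2, 0, 0, 0⟩
  par j := pars.getD j (0, 0)
  xa k := xas.getD k 0
  xb k := xbs.getD k 0
  mv m := mvs.getD m []
  nmv := nmv
  nx := 192

/-- The origin of a move: relator, orientation, position and chunks. -/
abbrev MvSrc : Type := ℕ × Bool × ℕ × List (List ℕ)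

/-- The source of a move is the rotation it claims to be. -/
def srcB (R : List (List ℕ)) : MvSrc → Bool
  | (ri, iv, p, ch) =>
    (fun v => decide (ri < R.length ∧ p < v.length ∧ v.getD p 0 = 6 ∧
        ch.flatten = invWord' (v.drop (p + 1) ++ v.take p)) &&
      ch.all fun l => small l || (l == [6] || l == [7]))
      (if iv then invWord' (R.getD ri []) else R.getD ri [])

/-- The syllable of a chunk. -/
noncomputable def chunkSyl (l : List ℕ) : ℕ := if l = [6] then 1 else if l = [7] then 2 else sc l + 3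

/-- The test of the moves. -/
noncomputable def movesB (R : List (List ℕ)) (src : List MvSrc) (K : Cert) : Bool :=
  allBelow K.nmv fun m => (fun s => srcB R s && decide (K.mv m = s.2.2.2.map chunkSyl)) (src.getD m (0, false, 0, []))

/-- The test of one image. -/
noncomputable def twistB (k : ℕ) : Bool :=
  (fun idx => small (sub [2] kW eW idx) && small (sub [2] kW yW idx) &&
    Nat.beq (sc (sub [2] kW eW idx)) (xas.getD k 0) &&
    Nat.beq (sc (sub [2] kW yW idx)) (xbs.getD k 0)) (idxs.getD k [])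

theorem twist_ok : allBelow 192 twistB = true := by decide +kernel

/-- A position is a representative times an element of `W`. -/
noncomputable def decOK (c : ℕ) : Bool :=
  reps.any fun c0 => xbs.any fun x => Nat.beq c (mulI c0 x)

theorem dec_ok : allBelow 1920 decOK = true := by decide +kernel

theorem reps_lt : ∀ c ∈ reps, c < 1920 := by decide

/-- The test of all edges leaving the listed double cosets. -/
noncomputable def coverB (K : Cert) (N : ℕ) (roots : List ℕ) (cover : List (List (List Step))) : Bool :=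
  allBelow roots.length fun n => allBelow reps.length fun m =>
    edgeB K N roots (roots.getD n 0) (reps.getD m 0) ((cover.getD n []).getD m [])

/-- Two traces from one start with the same syllables ending at the same node and right part, with different
left parts. -/
noncomputable def clashB (K : Cert) (N : ℕ) (s : ℕ × ℕ) (A B : List Step) : Bool :=
  decide (s.2 < 1920 ∧ pieces A = pieces B) &&
    match run K N A (0, s.1, s.2), run K N B (0, s.1, s.2) with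
    | some (La, Ia, Ra), some (Lb, Ib, Rb) => decide (Ia = Ib ∧ Ra = Rb ∧ La ≠ Lb)
    | _, _ => false

variable {G : Type*} [Group G] {a t q r : G}

/-- The relators hold. -/
def Holds (R : List (List ℕ)) (a t q r : G) : Prop := ∀ l ∈ R, HJUniq.ev (lett a t q r) l = 1

theorem ev_single (a t q r : G) (g : ℕ) : HJUniq.ev (lett a t q r) [g] = lett a t q r g := by
  simp [HJUniq.ev]

/-- The relators of the universal amalgam. -/
def baseWords : List (List ℕ) := HJC1920.relWords ++ relR kW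

theorem Holds.mono {R R' : List (List ℕ)} (h : Holds R a t q r) (hs : R' ⊆ R) : Holds R' a t q r :=
  fun l hl => h l (hs hl)

theorem Holds.crels (h : Holds baseWords a t q r) : CRels a t q := fun l hl => by
  rw [← ev_small a t q r (HJUniq.relWords_small l hl)]
  exact h l (List.mem_append_left _ hl)

theorem Holds.cube (h : Holds baseWords a t q r) : r ^ 3 = 1 := by
  have := h [6, 6, 6] (by decide +kernel)
  simpa [HJUniq.ev, lett, pow_succ, mul_assoc] using this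

theorem Holds.sq_tq (h : Holds baseWords a t q r) : t * t = 1 ∧ q * q = 1 := by
  constructor
  · simpa [HJUniq.ev, lett] using h [2, 2] (by decide +kernel)
  · simpa [HJUniq.ev, lett] using h [4, 4] (by decide +kernel)

theorem Holds.move {R : List (List ℕ)} (h : Holds R a t q r) (hsub : baseWords ⊆ R)
    (hlet : ∀ l ∈ R, ∀ g ∈ l, g < 8) {K : Cert} {src : List MvSrc} (hB : movesB R src K = true) {m : ℕ}
    (hm : m < K.nmv) : sval a t q r (K.mv m) = r := by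
  have hm' := allBelow_iff.1 hB m hm
  simp only [Bool.and_eq_true, decide_eq_true_eq] at hm'
  obtain ⟨hs, hsyl⟩ := hm'
  rw [hsyl]
  generalize src.getD m (0, false, 0, []) = s at hs ⊢
  obtain ⟨ri, iv, p, ch⟩ := s
  simp only [srcB] at hs
  set v := if iv then invWord' (R.getD ri []) else R.getD ri [] with hv
  simp only [Bool.and_eq_true, decide_eq_true_eq, List.all_eq_true, Bool.or_eq_true, beq_iff_eq] at hs
  obtain ⟨⟨hri, hp, hp6, hfl⟩, hch⟩ := hs
  show sval a t q r (ch.map chunkSyl) = r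
  -- the value of the chunks
  have hval : sval a t q r (ch.map chunkSyl) = HJUniq.ev (lett a t q r) ch.flatten := by
    clear hfl
    induction ch with
    | nil => rfl
    | cons l ch ih =>
      rw [List.flatten_cons, HJUniq.ev_append, ← ih fun x hx => hch x (List.mem_cons_of_mem _ hx),
        List.map_cons, sval, List.map_cons, List.prod_cons]
      refine congrArg (· * _) ?_
      rcases hch l List.mem_cons_self with hl | rfl | rfl
      · have hne : l ≠ [6] ∧ l ≠ [7] := ⟨fun e => by simp [e, small] at hl, fun e => by simp [e, small] at hl⟩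
        rw [chunkSyl, if_neg hne.1, if_neg hne.2, pval_shift, ev_small a t q r hl]
        have hlt : sc l < 1920 := J3Uniq.scan_lt (HJUniq.small_iff.1 hl) (by omega)
        exact (eq_of_sc (h.mono hsub).crels hl (small_wd hlt) (sc_wd hlt).symm).symm
      · simp [chunkSyl, pval, HJUniq.ev, lett]
      · simp [chunkSyl, pval, HJUniq.ev, lett]
  -- the value of the rotated relator
  have hmem : R.getD ri [] ∈ R := by
    rw [List.getD_eq_getElem _ _ hri]; exact List.getElem_mem _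
  have hR : ∀ g ∈ v, g < 8 := by
    rw [hv]
    split
    · intro g hg
      simp only [invWord', List.mem_reverse, List.mem_map] at hg
      obtain ⟨x, hx, rfl⟩ := hg
      have := hlet _ hmem x hx
      interval_cases x <;> decide
    · exact hlet _ hmem
  have hv1 : HJUniq.ev (lett a t q r) v = 1 := by
    rw [hv]
    split
    · rw [ev_invWord' a t q r (hlet _ hmem), h _ hmem, inv_one]
    · exact h _ hmem
  rw [hval, hfl, ev_invWord' a t q r ?_, HJUniq.ev_append, mul_inv_rev]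
  · have e : v = v.take p ++ ([6] ++ v.drop (p + 1)) := by
      rw [List.getD_eq_getElem _ _ hp] at hp6
      rw [List.singleton_append, ← hp6, List.cons_getElem_drop_succ, List.take_append_drop]
    rw [e, HJUniq.ev_append, HJUniq.ev_append, ev_single, show lett a t q r 6 = r from rfl] at hv1
    rw [← mul_inv_rev]
    refine inv_eq_of_mul_eq_one_left ?_
    generalize HJUniq.ev (lett a t q r) (v.take p) = u at hv1 ⊢
    generalize HJUniq.ev (lett a t q r) (v.drop (p + 1)) = w at hv1 ⊢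
    calc r * (w * u) = u⁻¹ * (u * (r * w)) * u := by group
      _ = 1 := by rw [hv1]; group
  · intro g hg
    rcases List.mem_append.1 hg with hg | hg
    · exact hR g (List.mem_of_mem_drop hg)
    · exact hR g (List.mem_of_mem_take hg)

theorem Holds.conj_gen (h : Holds baseWords a t q r) {x y : List ℕ} (hx : small x = true) (hy : small y = true)
    (hy' : ∀ g ∈ y, g < 8 ∧ g ≠ 3 ∧ g ≠ 5) (hmem : red ([6] ++ x ++ [7] ++ invW y) ∈ baseWords) :
    r * evC a t q x * r⁻¹ = evC a t q y := by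
  have e := h _ hmem
  rw [ev_red h.sq_tq.1 h.sq_tq.2, HJUniq.ev_append, HJUniq.ev_append, HJUniq.ev_append,
    ev_invW h.sq_tq.1 h.sq_tq.2 hy', ev_small a t q r hx, ev_small a t q r hy, ev_single, ev_single] at e
  exact mul_inv_eq_one.1 e

theorem Holds.twist (h : Holds baseWords a t q r) {k : ℕ} (hk : k < 192) :
    xas.getD k 0 < 1920 ∧ xbs.getD k 0 < 1920 ∧
      r * J3Uniq.el a t q (xas.getD k 0) = J3Uniq.el a t q (xbs.getD k 0) * r := by
  have hB := allBelow_iff.1 twist_ok k hk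
  simp only [twistB, Bool.and_eq_true, Nat.beq_eq] at hB
  obtain ⟨⟨⟨s1, s2⟩, e1⟩, e2⟩ := hB
  have hA : xas.getD k 0 < 1920 := by
    rw [← e1]; exact J3Uniq.scan_lt (HJUniq.small_iff.1 s1) (by omega)
  have hB : xbs.getD k 0 < 1920 := by
    rw [← e2]; exact J3Uniq.scan_lt (HJUniq.small_iff.1 s2) (by omega)
  refine ⟨hA, hB, ?_⟩
  have h0 : r * evC a t q [2] * r⁻¹ = evC a t q [2] :=
    h.conj_gen rfl rfl (by decide) (by decide +kernel)
  have h1 : r * evC a t q kW * r⁻¹ = evC a t q kW :=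
    h.conj_gen (by decide) (by decide) (by decide) (by decide +kernel)
  have h2 : r * evC a t q eW * r⁻¹ = evC a t q yW :=
    h.conj_gen (by decide) (by decide) (by decide) (by decide +kernel)
  have hc := conj_sub (HJUniq.lett a t q 1) h0 h1 h2 (idxs.getD k [])
  rw [← mul_inv_eq_iff_eq_mul]
  rw [show J3Uniq.el a t q (xas.getD k 0) = evC a t q (sub [2] kW eW (idxs.getD k [])) from
      eq_of_sc h.crels (small_wd hA) s1 (by rw [sc_wd hA, e1]),
    show J3Uniq.el a t q (xbs.getD k 0) = evC a t q (sub [2] kW yW (idxs.getD k [])) from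
      eq_of_sc h.crels (small_wd hB) s2 (by rw [sc_wd hB, e2])]
  exact hc

/-- A certificate built by `mkCert` is sound. -/
theorem Holds.sound {R : List (List ℕ)} (h : Holds R a t q r) (hsub : baseWords ⊆ R)
    (hlet : ∀ l ∈ R, ∀ g ∈ l, g < 8) {fcs : List (List Fc)} {pars : List (ℕ × ℕ)} {mvs : List (List ℕ)}
    {CH nmv : ℕ} {src : List MvSrc} (hB : movesB R src (mkCert fcs pars mvs CH nmv) = true) :
    Sound (mkCert fcs pars mvs CH nmv) a t q r :=
  ⟨(h.mono hsub).crels, fun _ hk => (h.mono hsub).twist hk, fun _ hm => h.move hsub hlet hB hm⟩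

/-- A checked cover bounds the group. -/
theorem finite_of_cover {K : Cert} (h : Sound K a t q r) (hx : K.xb = fun k => xbs.getD k 0)
    (hn : K.nx = 192) (hr : r ^ 3 = 1) (pf : ℕ → Pf) (N : ℕ)
    (hB : ∀ f < N, factB K f (K.fact f) (pf f) = true) (roots : List ℕ) (h0 : 0 ∈ roots)
    (cover : List (List (List Step))) (hC : coverB K N roots cover = true)
    (hgen : Subgroup.closure ({a, t, q, r} : Set G) = ⊤) :
    Finite G ∧ Nat.card G ≤ roots.length * 1920 * 1920 := by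
  have hdec : ∀ c < 1920, ∃ c0 ∈ reps, ∃ k < K.nx, c = mulI c0 (K.xb k) := by
    intro c hc
    have hB := allBelow_iff.1 dec_ok c hc
    simp only [decOK, List.any_eq_true] at hB
    obtain ⟨c0, h0, x, hx', e⟩ := hB
    obtain ⟨k, hk, rfl⟩ := List.getElem_of_mem hx'
    refine ⟨c0, h0, k, lt_of_lt_of_eq hk (by rw [hn]; decide +kernel), ?_⟩
    rw [hx]
    show c = mulI c0 (xbs.getD k 0)
    rw [List.getD_eq_getElem _ _ hk]
    exact Nat.eq_of_beq_eq_true e
  have hE : ∀ i ∈ roots, ∀ c ∈ reps, edgeB K N roots i c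
      ((cover.getD (roots.idxOf i) []).getD (reps.idxOf c) []) = true := by
    intro i hi c hc
    have h1 := List.idxOf_lt_length_of_mem hi
    have h2 := List.idxOf_lt_length_of_mem hc
    have hB := allBelow_iff.1 (allBelow_iff.1 hC _ h1) _ h2
    rwa [List.getD_eq_getElem _ _ h1, List.getD_eq_getElem _ _ h2, List.getElem_idxOf h1,
      List.getElem_idxOf h2] at hB
  have hcov := covered h hr pf N hB roots h0 reps reps_lt hdec _ hE
  let F : Fin roots.length × Fin 1920 × Fin 1920 → G := fun p =>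
    J3Uniq.el a t q p.2.1 * node K a t q r (roots.getD p.1 0) * J3Uniq.el a t q p.2.2
  have hF : Function.Surjective F := fun g => by
    obtain ⟨i, hi, x, hx, y, hy, rfl⟩ := hcov g (hgen ▸ Subgroup.mem_top g)
    obtain ⟨n, hn, rfl⟩ := List.getElem_of_mem hi
    refine ⟨(⟨n, hn⟩, ⟨x, hx⟩, ⟨y, hy⟩), ?_⟩
    show _ * node K a t q r (roots.getD n 0) * _ = _
    rw [List.getD_eq_getElem _ _ hn]
  refine ⟨Finite.of_surjective F hF, ?_⟩
  have h' := Nat.card_le_card_of_surjective F hF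
  simpa [Nat.card_prod, mul_assoc] using h'

/-- A clash makes two positions of `C` equal. -/
theorem eq_of_clash {K : Cert} (h : Sound K a t q r) (pf : ℕ → Pf) (N : ℕ)
    (hB : ∀ f < N, factB K f (K.fact f) (pf f) = true) {s : ℕ × ℕ} {A B : List Step}
    (hC : clashB K N s A B = true) :
    ∃ i < 1920, ∃ j < 1920, i ≠ j ∧ J3Uniq.el a t q i = J3Uniq.el a t q j := by
  simp only [clashB, Bool.and_eq_true, decide_eq_true_eq] at hC
  obtain ⟨⟨hs, hp⟩, hC⟩ := hC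
  have hg := all_good h pf N hB
  split at hC
  · rename_i La Ia Ra Lb Ib Rb hsa hsb
    simp only [decide_eq_true_eq] at hC
    obtain ⟨rfl, rfl, hne⟩ := hC
    obtain ⟨⟨a1, -⟩, e1⟩ := run_sound h hg hsa ⟨Nat.zero_lt_succ _, hs⟩
    obtain ⟨⟨b1, -⟩, e2⟩ := run_sound h hg hsb ⟨Nat.zero_lt_succ _, hs⟩
    refine ⟨La, a1, Lb, b1, hne, ?_⟩
    rw [hp, ← e2] at e1
    simp only [val] at e1
    exact mul_right_cancel (mul_right_cancel e1)
  · simp at hC

end Cfsg.Agent.Lib.J3Uniq
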