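import Mathlib
import Cfsg.Agent.Lib.J3Uniq.Moves
import Cfsg.Agent.Lib.J3Order.Local

/-!
# Uniqueness of the third Janko group: the element `r`

With one class of involutions an element of order three permutes `z, q, qz`, centralises `t` and `k`, and maps
`e` to `y`.

Owner: helper74.
-/

set_option autoImplicit false
set_option linter.style.haveILetI false
set_option maxRecDepth 100000

namespace Cfsg.Agent.Lib.J3Uniq.Amalgam

open Cfsg.Agent.Lib.CosetEnum Cfsg.Agent.Lib.HJUniq

/-- Witnesses that the involutions of `C(z)` are `z` or conjugate to `q` or `t`. -/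
def invWit : List (ℕ × ℕ × ℕ) :=
  [(3, 0, 3), (4, 0, 4), (13, 491, 3), (19, 1, 3), (22, 1, 4), (25, 2, 3), (28, 2, 4), (52, 359, 3), (68, 278, 3), (104, 5, 3), (111, 5, 4), (114, 12, 3), (140, 8, 3), (146, 8, 4), (155, 11, 3), (208, 14, 3), (215, 14, 4), (220, 15, 3), (225, 15, 4), (237, 219, 3), (254, 209, 3), (306, 206, 3), (333, 222, 3), (438, 117, 3), (459, 108, 3), (470, 19, 3), (479, 36, 3), (507, 79, 3), (531, 70, 3), (563, 21, 3), (573, 22, 3), (576, 21, 4), (594, 22, 4), (596, 56, 3), (600, 39, 3), (601, 25, 3), (619, 82, 3), (675, 28, 3), (693, 29, 3), (699, 29, 4), (703, 30, 3), (731, 32, 3), (760, 34, 3), (779, 35, 3), (859, 281, 3), (861, 73, 3), (862, 43, 3), (929, 47, 3), (939, 207, 3), (963, 46, 3), (972, 51, 3), (991, 226, 3), (992, 53, 3), (1003, 218, 3), (1014, 290, 3), (1015, 0, 1015), (1024, 362, 3), (1054, 66, 3), (1096, 62, 3), (1100, 69, 3), (1132, 211, 3), (1146, 413, 3), (1170, 400, 3), (1230, 63, 3), (1246, 45, 3), (1272, 49, 3), (1273, 493,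 3), (1320, 182, 3), (1341, 92, 3), (1343, 166, 3), (1359, 52, 3), (1370, 168, 3), (1388, 136, 3), (1392, 249, 3), (1430, 98, 3), (1448, 187, 3), (1461, 68, 3), (1473, 139, 3), (1494, 84, 3), (1513, 78, 3), (1523, 87, 3), (1543, 83, 3), (1584, 94, 3), (1594, 101, 3), (1595, 433, 3), (1608, 534, 3), (1624, 210, 3), (1635, 106, 3), (1639, 350, 3), (1643, 179, 3), (1660, 200, 3), (1668, 262, 3), (1673, 178, 3), (1694, 293, 3), (1706, 460, 3), (1717, 145, 3), (1726, 221, 3), (1731, 194, 3), (1736, 272, 3), (1741, 189, 3), (1763, 186, 3), (1782, 420, 3), (1797, 405, 3), (1806, 256, 3), (1810, 241, 3), (1817, 144, 3), (1818, 172, 3), (1826, 130, 3), (1835, 107, 3), (1839, 282, 3), (1841, 122, 3), (1844, 116, 3), (1848, 382, 3), (1850, 125, 3), (1853, 121, 3), (1882, 162, 3), (1885, 158, 3), (1888, 390, 3), (1899, 196, 3), (1900, 203, 3), (1902, 253, 3), (1905, 415, 3), (1909, 252, 3), (1910, 538, 3), (1911, 557, 3), (1912, 450, 3), (1913, 424, 3), (1915, 268, 3), (1917, 404,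 3), (1918, 345, 3), (1919, 275, 3)]

/-- Elements of `W` conjugating `k` to its conjugates. -/
def kWit : List ℕ := [0, 3, 49, 64, 249, 275, 282, 290, 339, 361, 491, 536, 538, 580, 664, 670]

/-- Two positions commute. -/
noncomputable def commB (i j : ℕ) : Bool := Nat.beq (mulI i j) (mulI j i)

/-- The witnesses cover the involutions. -/
noncomputable def invB (i : ℕ) : Bool :=
  !(!Nat.beq i 0 && Nat.beq (mulI i i) 0) || invWit.any fun p => Nat.beq p.1 i &&
    Nat.blt p.2.1 1920 && [4, 1015, 3].any (Nat.beq p.2.2) && Nat.beq (mulI i p.2.1) (mulI p.2.1 p.2.2)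

theorem inv_ok : allBelow 1920 invB = true := by decide +kernel

theorem cent_counts : J3Order.Table.centCount 3 = 16 ∧ J3Order.Table.centCount 4 = 192 := by decide +kernel

/-- The elements of order three of `W`. -/
noncomputable def threeB (i : ℕ) : Bool :=
  !(!Nat.beq i 0 && Nat.beq (mulI (mulI i i) i) 0 && commB i 4) || kWit.any fun w => Nat.blt w 1920 &&
    commB w 4 && (Nat.beq (mulI w 176) (mulI i w) || Nat.beq (mulI w 118) (mulI i w))

theorem three_ok : allBelow 1920 threeB = true := by decide +kernel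

theorem not_real : allBelow 1920 (fun x => !commB x 4 || !Nat.beq (mulI x 176) (mulI 118 x)) = true := by
  decide +kernel

/-- The candidates for the image of `t`. -/
noncomputable def tB (i : ℕ) : Bool :=
  !(!Nat.beq i 0 && Nat.beq (mulI i i) 0 && commB i 4 &&
      Nat.beq (mulI (mulI (mulI i 176) (mulI i 176)) (mulI i 176)) 0) ||
    [3, 862, 1272, 573, 1826, 1850].any (Nat.beq i)

theorem t_ok : allBelow 1920 tB = true := by decide +kernel

/-- The indices of the relation `(t k e) ^ 3 = 1`. -/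
def tkeIdx : List ℕ := [0, 1, 2, 0, 1, 2, 0, 1, 2]

/-- The conditions on the images of `t` and `e`. -/
noncomputable def pairB (i j : ℕ) : Bool :=
  (fun wi wj => Nat.beq (sc (wj ++ [4])) (sc ([4] ++ wj)) && Nat.beq (sc (sub wi kW wj qIdx)) 594 &&
    Nat.beq (sc (sub wi kW wj uzIdx)) 1015 && Nat.beq (sc (sub wi kW wj zIdx)) 4 &&
    Nat.beq (sc (sub wi kW wj tkeIdx)) 0) (wd i) (wd j)

theorem pair_ok : ([573, 1826, 1850].all fun i => allBelow 1920 fun j => !pairB i j) = true := by
  decide +kernel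

theorem t_conj : mulI 176 3 = mulI 862 176 ∧ mulI 176 862 = mulI 1272 176 ∧ commB 176 4 = true ∧
    commB 118 4 = true ∧ mulI 118 176 = 0 ∧ commB 176 118 = true := by decide +kernel

/-- The elements of `W` centralising `t`, `k` and `e`. -/
theorem fixed_ok : allBelow 1920 (fun i => !(commB i 4 && commB i 3 && commB i 176 && commB i 285) ||
    [0, 4, 594, 1015].any (Nat.beq i)) = true := by decide +kernel

/-- The indices of `y`. -/
def yIdx : List ℕ := [1, 2, 1, 0, 1]
/-- The indices of the image of `y`. -/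
def y2Idx : List ℕ := [1, 1, 2, 0, 1, 0]

theorem cube_ok : sc (sub [2] kW eW yIdx) = 1906 ∧ sc (sub [2] kW yW yIdx) = 1827 ∧
    sc (sub [2] kW eW y2Idx) = 1827 ∧ sc (sub [2] kW yW y2Idx) = 285 ∧ sc eW = 285 ∧ sc yW = 1906 ∧
    sc [2] = 3 ∧ sc [4] = 4 ∧ sc kW = 176 ∧ sc zW = 1015 ∧ sc uzW = 594 ∧
    sc (sub [2] kW eW tkeIdx) = 0 := by decide +kernel

variable {G : Type*} [Group G] {z a t q : G}

section
variable (h : J3Order.Local.Ctx z a t q)
include h

theorem crels : CRels a t q := fun l hl => by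
  rw [← ev_small a t q 1 (HJUniq.relWords_small l hl)]
  exact h.toRels.ev_rel 1 l hl

theorem val_eq {l : List ℕ} (hl : small l = true) {i : ℕ} (e : sc l = i) :
    evC a t q l = J3Uniq.el a t q i := by
  subst e
  have hlt : sc l < 1920 := J3Uniq.scan_lt (HJUniq.small_iff.1 hl) (by omega)
  exact eq_of_sc (crels h) hl (small_wd hlt) (sc_wd hlt).symm

theorem el_q : J3Uniq.el a t q 4 = q := by
  rw [← val_eq h (l := [4]) rfl cube_ok.2.2.2.2.2.2.2.1]; exact (evC_single a t q).2

theorem el_t : J3Uniq.el a t q 3 = t := by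
  rw [← val_eq h (l := [2]) rfl cube_ok.2.2.2.2.2.2.1]; exact (evC_single a t q).1

theorem el_k : J3Uniq.el a t q 176 = evC a t q kW :=
  (val_eq h (by decide) cube_ok.2.2.2.2.2.2.2.2.1).symm

theorem el_e : J3Uniq.el a t q 285 = evC a t q eW :=
  (val_eq h (by decide) cube_ok.2.2.2.2.1).symm

theorem el_z : J3Uniq.el a t q 1015 = z := h.el_z

theorem el_qz : J3Uniq.el a t q 594 = q * z := by
  rw [← val_eq h (l := uzW) (by decide) cube_ok.2.2.2.2.2.2.2.2.2.2.1]; exact h.toChart.evC_uzW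

theorem el_inj' {i j : ℕ} (hi : i < 1920) (hj : j < 1920)
    (e : J3Uniq.el a t q i = J3Uniq.el a t q j) : i = j := h.el_inj hi hj e

theorem commute_iff {i j : ℕ} (hi : i < 1920) (hj : j < 1920) :
    commB i j = true ↔ Commute (J3Uniq.el a t q i) (J3Uniq.el a t q j) := by
  rw [commB, Commute, SemiconjBy, J3Uniq.el_mul (crels h) hi hj, J3Uniq.el_mul (crels h) hj hi, Nat.beq_eq]
  exact ⟨fun e => by rw [e], fun e => h.el_inj (J3Uniq.mulI_lt hi hj) (J3Uniq.mulI_lt hj hi) e⟩

theorem q_ne : q ≠ z ∧ q ≠ 1 := by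
  refine ⟨fun e => ?_, fun e => ?_⟩
  · exact absurd (el_inj' h (i := 4) (j := 1015) (by omega) (by omega) (by rw [el_q h, el_z h, e])) (by omega)
  · exact absurd (el_inj' h (i := 4) (j := 0) (by omega) (by omega) (by rw [el_q h, J3Uniq.el_zero, e])) (by omega)

theorem mul_el {i j : ℕ} (hi : i < 1920) (hj : j < 1920) :
    J3Uniq.el a t q (mulI i j) = J3Uniq.el a t q i * J3Uniq.el a t q j :=
  (J3Uniq.el_mul (crels h) hi hj).symm

/-- An element swapping `z` and `q`. -/
theorem exists_swap [Finite G] : ∃ g : G, g * z * g⁻¹ = q ∧ g * q * g⁻¹ = z := by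
  obtain ⟨hqz, hq1⟩ := q_ne h
  obtain ⟨g, hg⟩ := isConj_iff.1 (h.hone z q h.ord
    (orderOf_eq_prime (by rw [pow_two]; exact h.toRels.hq) hq1))
  have hgz : g⁻¹ * q * g = z := by rw [← hg]; group
  have hu2 : g⁻¹ * z * g * (g⁻¹ * z * g) = 1 := by
    rw [show g⁻¹ * z * g * (g⁻¹ * z * g) = g⁻¹ * (z * z) * g by group, h.toRels.hz]; group
  have hu1 : g⁻¹ * z * g ≠ 1 := fun e => by
    have hz1 : z = 1 := by
      calc z = g * (g⁻¹ * z * g) * g⁻¹ := by group
        _ = 1 := by rw [e]; group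
    have := h.ord
    rw [hz1, orderOf_one] at this
    omega
  have huz : g⁻¹ * z * g ≠ z := fun e => hqz (by
    calc q = g * z * g⁻¹ := hg.symm
      _ = g * (g⁻¹ * z * g) * g⁻¹ := by rw [e]
      _ = z := by group)
  have hucz : Commute (g⁻¹ * z * g) z := by
    have := (Commute.conj_iff g⁻¹).2 h.toRels.zq
    rwa [inv_inv, hgz] at this
  obtain ⟨i, hi, hiu⟩ := h.surj hucz
  have hiu' : J3Uniq.el a t q i = g⁻¹ * z * g := hiu.symm
  have hB := allBelow_iff.1 inv_ok i hi
  simp only [invB, Bool.or_eq_true, Bool.not_eq_true', List.any_eq_true, Bool.and_eq_true,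
    Nat.beq_eq, Nat.blt_eq] at hB
  rcases hB with hB | ⟨⟨u, w, r0⟩, -, ⟨⟨hu, hw⟩, hr0⟩, hwr⟩
  · exfalso
    rw [Bool.and_eq_false_iff] at hB
    rcases hB with e | e
    · simp only [Bool.not_eq_false', Nat.beq_eq] at e
      exact hu1 (by rw [← hiu', e, J3Uniq.el_zero])
    · refine (Bool.eq_false_iff.1 e) ?_
      refine Nat.beq_eq ▸ el_inj' h (J3Uniq.mulI_lt hi hi) (by omega) ?_
      rw [mul_el h hi hi, hiu', hu2, J3Uniq.el_zero]
  obtain ⟨r1, hr1, rfl⟩ := hr0
  subst hu
  have hr1' : r0 < 1920 := by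
    simp only [List.mem_cons, List.not_mem_nil, or_false] at hr1
    rcases hr1 with rfl | rfl | rfl <;> omega
  have e1 : g⁻¹ * z * g * J3Uniq.el a t q w = J3Uniq.el a t q w * J3Uniq.el a t q r0 := by
    rw [← hiu', ← mul_el h hi hw, ← mul_el h hw hr1', hwr]
  have hwz : Commute (J3Uniq.el a t q w) z := h.commute hw
  set c := J3Uniq.el a t q w
  have hcw : c⁻¹ * (g⁻¹ * z * g) * c = J3Uniq.el a t q r0 := by
    rw [mul_assoc, e1, inv_mul_cancel_left]
  have hz' : (g * c) * z * (g * c)⁻¹ = q := by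
    rw [mul_inv_rev, show g * c * z * (c⁻¹ * g⁻¹) = g * (c * z) * c⁻¹ * g⁻¹ by group, hwz.eq,
      show g * (z * c) * c⁻¹ * g⁻¹ = g * z * g⁻¹ by group, hg]
  have hr0' : (g * c) * J3Uniq.el a t q r0 * (g * c)⁻¹ = z := by rw [← hcw]; group
  simp only [List.mem_cons, List.not_mem_nil, or_false] at hr1
  rcases hr1 with rfl | rfl | rfl
  · exact ⟨g * c, hz', by rwa [el_q h] at hr0'⟩
  · exfalso
    rw [el_z h, hz'] at hr0'
    exact hqz hr0'
  · exfalso
    have h1 := h.count_card (P := fun x => Commute x z ∧ Commute x (J3Uniq.el a t q 3))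
      (p := fun j => Nat.beq (J3Order.Table.mulI 3 j) (J3Order.Table.mulI j 3)) (fun x hx => hx.1)
      fun j hj => ⟨fun e => ⟨h.commute hj, ((commute_iff h (by omega) hj).1 e).symm⟩,
        fun e => (commute_iff h (by omega) hj).2 e.2.symm⟩
    have h2 := h.count_card (P := fun x => Commute x z ∧ Commute x (J3Uniq.el a t q 4))
      (p := fun j => Nat.beq (J3Order.Table.mulI 4 j) (J3Order.Table.mulI j 4)) (fun x hx => hx.1)
      fun j hj => ⟨fun e => ⟨h.commute hj, ((commute_iff h (by omega) hj).1 e).symm⟩,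
        fun e => (commute_iff h (by omega) hj).2 e.2.symm⟩
    change _ = J3Order.Table.centCount 3 at h1
    change _ = J3Order.Table.centCount 4 at h2
    rw [cent_counts.1] at h1
    rw [cent_counts.2, el_q h] at h2
    have hiff : ∀ x, (Commute x z ∧ Commute x (J3Uniq.el a t q 3)) ↔
        (Commute ((g * c) * x * (g * c)⁻¹) z ∧ Commute ((g * c) * x * (g * c)⁻¹) q) := by
      intro x
      rw [← Commute.conj_iff (g * c) (a := x) (b := z), ← Commute.conj_iff (g * c) (a := x)
        (b := J3Uniq.el a t q 3), hz', hr0', and_comm]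
    have h3 := Nat.card_congr ((MulAut.conj (g * c)).toEquiv.subtypeEquiv
      (p := fun x => Commute x z ∧ Commute x (J3Uniq.el a t q 3))
      (q := fun x => Commute x z ∧ Commute x q) hiff)
    omega

/-- An element normalising `W = C(⟨z, q⟩)` with `z ↦ q ↦ q z`, centralising `t` and `k`, with `e ↦ y`. -/
theorem exists_r [Finite G] : ∃ r, RProp z a t q r := by
  obtain ⟨hqz, hq1⟩ := q_ne h
  obtain ⟨g1, hg1z, hg1q⟩ := exists_swap h
  obtain ⟨hs2, hsz, hsq⟩ := l_facts h.toChart
  have hzq : z * q = q * z := h.toRels.zq.eq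
  obtain ⟨g, hgz, hgq⟩ : ∃ g : G, g * z * g⁻¹ = q ∧ g * q * g⁻¹ = q * z := by
    refine ⟨g1 * evC a t q sW, ?_, ?_⟩
    · rw [mul_inv_rev, show g1 * evC a t q sW * z * ((evC a t q sW)⁻¹ * g1⁻¹) =
        g1 * (evC a t q sW * z * (evC a t q sW)⁻¹) * g1⁻¹ by group, hsz, hg1z]
    · rw [mul_inv_rev, show g1 * evC a t q sW * q * ((evC a t q sW)⁻¹ * g1⁻¹) =
        g1 * (evC a t q sW * q * (evC a t q sW)⁻¹) * g1⁻¹ by group, hsq,
        show g1 * (q * z) * g1⁻¹ = (g1 * q * g1⁻¹) * (g1 * z * g1⁻¹) by group, hg1q, hg1z, hzq]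
  -- elements with this action normalise `W`
  have hW : ∀ {g : G}, g * z * g⁻¹ = q → g * q * g⁻¹ = q * z → ∀ x, Commute x z → Commute x q →
      Commute (g * x * g⁻¹) z ∧ Commute (g * x * g⁻¹) q := by
    intro g hgz hgq x hxz hxq
    have h1 := (Commute.conj_iff g).2 hxz
    rw [hgz] at h1
    have h2 := (Commute.conj_iff g).2 hxq
    rw [hgq] at h2
    have h3 := h1.mul_right h2
    rw [← mul_assoc, h.toRels.hq, one_mul] at h3
    exact ⟨h3, h1⟩
  have hadj : ∀ {g w : G}, Commute w z → Commute w q → g * z * g⁻¹ = q → g * q * g⁻¹ = q * z →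
      (w * g) * z * (w * g)⁻¹ = q ∧ (w * g) * q * (w * g)⁻¹ = q * z := by
    intro g w hwz hwq hgz hgq
    constructor
    · rw [mul_inv_rev, show w * g * z * (g⁻¹ * w⁻¹) = w * (g * z * g⁻¹) * w⁻¹ by group, hgz, hwq.eq,
        mul_inv_cancel_right]
    · rw [mul_inv_rev, show w * g * q * (g⁻¹ * w⁻¹) = w * (g * q * g⁻¹) * w⁻¹ by group, hgq,
        (hwq.mul_right hwz).eq, mul_inv_cancel_right]
  have hk176 := el_k h
  have hkz : Commute (J3Uniq.el a t q 176) z := h.commute (i := 176) (by omega)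
  have hkq : Commute (J3Uniq.el a t q 176) q := by
    rw [← el_q h]; exact (commute_iff h (by omega) (by omega)).1 t_conj.2.2.1
  have hk118 : J3Uniq.el a t q 118 = (J3Uniq.el a t q 176)⁻¹ := by
    refine eq_inv_of_mul_eq_one_left ?_
    rw [← mul_el h (by omega) (by omega), t_conj.2.2.2.2.1, J3Uniq.el_zero]
  have hq118 : Commute (J3Uniq.el a t q 118) q := by rw [hk118]; exact hkq.inv_left
  -- fix `k`
  obtain ⟨g, hgz, hgq, hgk⟩ : ∃ g : G, g * z * g⁻¹ = q ∧ g * q * g⁻¹ = q * z ∧
      g * J3Uniq.el a t q 176 * g⁻¹ = J3Uniq.el a t q 176 := by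
    obtain ⟨hjz, hjq⟩ := hW hgz hgq _ hkz hkq
    obtain ⟨j, hj, hje⟩ := h.surj hjz
    have hje' : J3Uniq.el a t q j = g * J3Uniq.el a t q 176 * g⁻¹ := hje.symm
    have hB := allBelow_iff.1 three_ok j hj
    simp only [threeB, Bool.or_eq_true, Bool.not_eq_true', List.any_eq_true, Bool.and_eq_true,
      Nat.beq_eq, Nat.blt_eq] at hB
    rcases hB with hB | ⟨w, -, ⟨hw, hwq⟩, hwk⟩
    · exfalso
      refine absurd hB (Bool.eq_false_iff.not.2 ?_)
      simp only [ne_eq, not_not, Bool.and_eq_true, Bool.not_eq_true', Nat.beq_eq]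
      refine ⟨⟨Bool.eq_false_iff.2 fun e => ?_, ?_⟩, (commute_iff h hj (by omega)).2 (by rw [hje', el_q h]; exact hjq)⟩
      · rw [Nat.eq_of_beq_eq_true e, J3Uniq.el_zero] at hje'
        have h1 : J3Uniq.el a t q 176 = J3Uniq.el a t q 0 := by
          rw [J3Uniq.el_zero]; exact conj_eq_one_iff.1 hje'.symm
        exact absurd (el_inj' h (by omega) (by omega) h1) (by omega)
      · refine el_inj' h (J3Uniq.mulI_lt (J3Uniq.mulI_lt hj hj) hj) (by omega) ?_
        rw [mul_el h (J3Uniq.mulI_lt hj hj) hj, mul_el h hj hj, hje', J3Uniq.el_zero,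
          show g * J3Uniq.el a t q 176 * g⁻¹ * (g * J3Uniq.el a t q 176 * g⁻¹) *
            (g * J3Uniq.el a t q 176 * g⁻¹) = g * (J3Uniq.el a t q 176 * J3Uniq.el a t q 176 *
            J3Uniq.el a t q 176) * g⁻¹ by group,
          ← mul_el h (by omega) (by omega), ← mul_el h (J3Uniq.mulI_lt (by omega) (by omega)) (by omega),
          show mulI (mulI 176 176) 176 = 0 by decide +kernel, J3Uniq.el_zero]
        group
    set wv := J3Uniq.el a t q w with hwv
    have hwz : Commute wv z := h.commute hw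
    have hwq' : Commute wv q := by have e' := (commute_iff h hw (by omega)).1 hwq; rwa [el_q h] at e'
    obtain ⟨hgz', hgq'⟩ := hadj hwz.inv_left hwq'.inv_left hgz hgq
    have hkey : ∀ i, i < 1920 → mulI w i = mulI j w →
        (wv⁻¹ * g) * J3Uniq.el a t q 176 * (wv⁻¹ * g)⁻¹ = J3Uniq.el a t q i := by
      intro i hi e
      have e' : wv * J3Uniq.el a t q i = g * J3Uniq.el a t q 176 * g⁻¹ * wv := by
        rw [← hje', hwv, ← mul_el h hw hi, ← mul_el h hj hw, e]
      rw [mul_inv_rev, inv_inv, show wv⁻¹ * g * J3Uniq.el a t q 176 * (g⁻¹ * wv) =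
        wv⁻¹ * (g * J3Uniq.el a t q 176 * g⁻¹ * wv) by group, ← e', inv_mul_cancel_left]
    rcases hwk with e | e
    · exact ⟨_, hgz', hgq', hkey 176 (by omega) e⟩
    · exfalso
      have h1 := hkey 118 (by omega) e
      rw [hk118] at h1
      generalize wv⁻¹ * g = u at h1 hgz' hgq'
      have hu : u * u * u * J3Uniq.el a t q 176 * (u * u * u)⁻¹ = (J3Uniq.el a t q 176)⁻¹ := by
        calc u * u * u * J3Uniq.el a t q 176 * (u * u * u)⁻¹
            = u * (u * (u * J3Uniq.el a t q 176 * u⁻¹) * u⁻¹) * u⁻¹ := by group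
          _ = u * (u * (J3Uniq.el a t q 176)⁻¹ * u⁻¹) * u⁻¹ := by rw [h1]
          _ = u * (u * J3Uniq.el a t q 176 * u⁻¹)⁻¹ * u⁻¹ := by group
          _ = u * J3Uniq.el a t q 176 * u⁻¹ :=
            congrArg (fun x => u * x * u⁻¹) ((congrArg (·⁻¹) h1).trans (inv_inv _))
          _ = _ := h1
      have hu3 : ∀ x, u * x * u⁻¹ = q → u * u * u * x * (u * u * u)⁻¹ = z := by
        intro x hx
        calc u * u * u * x * (u * u * u)⁻¹ = u * (u * (u * x * u⁻¹) * u⁻¹) * u⁻¹ := by group
          _ = u * (u * q * u⁻¹) * u⁻¹ := by rw [hx]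
          _ = u * (q * z) * u⁻¹ := by rw [hgq']
          _ = u * q * u⁻¹ * (u * z * u⁻¹) := by group
          _ = z := by rw [hgq', hgz', mul_assoc, hzq, ← mul_assoc, h.toRels.hq, one_mul]
      have hz3 : Commute (u * u * u) z := mul_inv_eq_iff_eq_mul.1 (hu3 z hgz')
      have hq3 : Commute (u * u * u) q := mul_inv_eq_iff_eq_mul.1 (by
        calc u * u * u * q * (u * u * u)⁻¹ = u * (u * u * u * z * (u * u * u)⁻¹) * u⁻¹ := by
              rw [show u * u * u * q * (u * u * u)⁻¹ = u * u * u * (u * z * u⁻¹) * (u * u * u)⁻¹ by rw [hgz']]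
              group
          _ = q := by rw [hu3 z hgz', hgz'])
      obtain ⟨x, hx, hxe⟩ := h.surj hz3
      have hxe' : J3Uniq.el a t q x = u * u * u := hxe.symm
      have hB' := allBelow_iff.1 not_real x hx
      simp only [Bool.or_eq_true, Bool.not_eq_true'] at hB'
      rcases hB' with e' | e'
      · exact Bool.eq_false_iff.1 e' ((commute_iff h hx (by omega)).2 (by rw [hxe', el_q h]; exact hq3))
      · refine Bool.eq_false_iff.1 e' (Nat.beq_eq ▸ el_inj' h (J3Uniq.mulI_lt hx (by omega))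
          (J3Uniq.mulI_lt (by omega) hx) ?_)
        rw [mul_el h hx (by omega), mul_el h (by omega) hx, hxe', hk118, ← hu]
        group
  -- fix `t`
  have hsub : ∀ {g : G} (i j : ℕ), g * J3Uniq.el a t q 176 * g⁻¹ = J3Uniq.el a t q 176 →
      g * evC a t q [2] * g⁻¹ = evC a t q (wd i) → g * evC a t q eW * g⁻¹ = evC a t q (wd j) →
      ∀ idx, g * evC a t q (sub [2] kW eW idx) * g⁻¹ = evC a t q (sub (wd i) kW (wd j) idx) := by
    intro g i j hk ht he idx
    exact conj_sub _ ht (by have h' := hk; rw [hk176] at h'; exact h') he idx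
  have htC : Commute t z := h.toRels.zt.symm
  have htq : Commute t q := by
    have e' := (commute_iff h (i := 3) (j := 4) (by omega) (by omega)).1 (by decide +kernel); rwa [el_t h, el_q h] at e'
  have heC : Commute (evC a t q eW) z := by rw [← el_e h]; exact h.commute (i := 285) (by omega)
  have heq : Commute (evC a t q eW) q := by
    have e' := (commute_iff h (i := 285) (j := 4) (by omega) (by omega)).1 (by decide +kernel); rwa [el_e h, el_q h] at e'
  have hpair : ∀ {g : G} (i j : ℕ), i < 1920 → j < 1920 → g * z * g⁻¹ = q → g * q * g⁻¹ = q * z →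
      (∀ idx, g * evC a t q (sub [2] kW eW idx) * g⁻¹ = evC a t q (sub (wd i) kW (wd j) idx)) →
      Commute (J3Uniq.el a t q j) q → pairB i j = true := by
    intro g i j hi hj hgz hgq hs hjq
    have hwi := small_wd hi
    have hwj := small_wd hj
    have hw : ∀ idx, small (sub (wd i) kW (wd j) idx) = true := small_sub hwi (by decide) hwj
    have key : ∀ idx (v : G) n, n < 1920 → J3Uniq.el a t q n = v →
        g * evC a t q (sub [2] kW eW idx) * g⁻¹ = v → sc (sub (wd i) kW (wd j) idx) = n := by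
      intro idx v n hn hv hgv
      refine el_inj' h (J3Uniq.scan_lt (HJUniq.small_iff.1 (hw idx)) (by omega)) hn ?_
      rw [hv, ← hgv, hs idx, val_eq h (hw idx) rfl]
    simp only [pairB, Bool.and_eq_true, Nat.beq_eq]
    refine ⟨⟨⟨⟨?_, ?_⟩, ?_⟩, ?_⟩, ?_⟩
    · refine (h.toChart.iff (small_append hwj rfl) (small_append rfl hwj)).1 ?_
      rw [evC_append, evC_append, (evC_single a t q).2]
      exact hjq.eq
    · exact key qIdx _ 594 (by omega) (el_qz h) (by
        rw [h.toChart.eq_of (l := sub [2] kW eW qIdx) (l' := [4]) (by decide +kernel), (evC_single a t q).2, hgq])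
    · refine key uzIdx _ 1015 (by omega) (el_z h) ?_
      rw [h.toChart.eq_of (l := sub [2] kW eW uzIdx) (l' := uzW) (by decide +kernel), h.toChart.evC_uzW,
        show g * (q * z) * g⁻¹ = g * q * g⁻¹ * (g * z * g⁻¹) by group, hgq, hgz, mul_assoc, hzq, ← mul_assoc,
        h.toRels.hq, one_mul]
    · exact key zIdx _ 4 (by omega) (el_q h) (by
        rw [h.toChart.eq_of (l := sub [2] kW eW zIdx) (l' := zW) (by decide +kernel), h.toRels.evC_zW, hgz])
    · refine key tkeIdx _ 0 (by omega) (J3Uniq.el_zero) ?_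
      rw [h.toChart.eq_of (l := sub [2] kW eW tkeIdx) (l' := []) (by decide +kernel), evC_nil, mul_one,
        mul_inv_cancel]
  obtain ⟨g, hgz, hgq, hgk, hgt⟩ : ∃ g : G, g * z * g⁻¹ = q ∧ g * q * g⁻¹ = q * z ∧
      g * J3Uniq.el a t q 176 * g⁻¹ = J3Uniq.el a t q 176 ∧ g * t * g⁻¹ = t := by
    obtain ⟨hiz, hiq⟩ := hW hgz hgq t htC htq
    obtain ⟨i, hi, hie⟩ := h.surj hiz
    have hie' : J3Uniq.el a t q i = g * t * g⁻¹ := hie.symm
    have hB := allBelow_iff.1 t_ok i hi
    simp only [tB, Bool.or_eq_true, Bool.not_eq_true', List.any_eq_true, Nat.beq_eq] at hB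
    rcases hB with hB | ⟨i', hi', rfl⟩
    · exfalso
      refine absurd hB (Bool.eq_false_iff.not.2 ?_)
      simp only [ne_eq, not_not, Bool.and_eq_true, Bool.not_eq_true', Nat.beq_eq]
      refine ⟨⟨⟨Bool.eq_false_iff.2 fun e => ?_, ?_⟩,
        (commute_iff h hi (by omega)).2 (by rw [hie', el_q h]; exact hiq)⟩, ?_⟩
      · rw [Nat.eq_of_beq_eq_true e, J3Uniq.el_zero] at hie'
        exact absurd (el_inj' h (i := 3) (j := 0) (by omega) (by omega)
          (by rw [el_t h, J3Uniq.el_zero]; exact conj_eq_one_iff.1 hie'.symm)) (by omega)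
      · refine el_inj' h (J3Uniq.mulI_lt hi hi) (by omega) ?_
        rw [mul_el h hi hi, hie', J3Uniq.el_zero,
          show g * t * g⁻¹ * (g * t * g⁻¹) = g * (t * t) * g⁻¹ by group, h.toRels.ht]
        group
      · have hm := J3Uniq.mulI_lt hi (show 176 < 1920 by omega)
        refine el_inj' h (J3Uniq.mulI_lt (J3Uniq.mulI_lt hm hm) hm) (by omega) ?_
        rw [mul_el h (J3Uniq.mulI_lt hm hm) hm, mul_el h hm hm, mul_el h hi (by omega), hie',
          J3Uniq.el_zero]
        conv_lhs => rw [← hgk]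
        have e3 : t * J3Uniq.el a t q 176 * (t * J3Uniq.el a t q 176) * (t * J3Uniq.el a t q 176) = 1 := by
          have e' := congrArg (J3Uniq.el a t q)
            (show mulI (mulI (mulI 3 176) (mulI 3 176)) (mulI 3 176) = 0 by decide +kernel)
          rw [mul_el h (by decide +kernel) (by decide +kernel), mul_el h (by decide +kernel) (by decide +kernel),
            mul_el h (i := 3) (j := 176) (by omega) (by omega), J3Uniq.el_zero, el_t h] at e'
          exact e'
        calc _ = g * (t * J3Uniq.el a t q 176 * (t * J3Uniq.el a t q 176) * (t * J3Uniq.el a t q 176)) * g⁻¹ := by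
              group
          _ = 1 := by rw [e3]; group
    have hbad : ∀ i ∈ [573, 1826, 1850], g * t * g⁻¹ ≠ J3Uniq.el a t q i := by
      intro i hi' e
      have hilt : i < 1920 := by
        simp only [List.mem_cons, List.not_mem_nil, or_false] at hi'
        rcases hi' with rfl | rfl | rfl <;> omega
      obtain ⟨hjz, hjq⟩ := hW hgz hgq _ heC heq
      obtain ⟨j, hj, hje⟩ := h.surj hjz
      have hje' : g * evC a t q eW * g⁻¹ = J3Uniq.el a t q j := hje
      have hs := hsub i j hgk (by rw [(evC_single a t q).1]; exact e) hje'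
      have hp := hpair i j hilt hj hgz hgq hs (hje' ▸ hjq)
      have hB' := allBelow_iff.1 (List.all_eq_true.1 pair_ok i hi') j hj
      rw [hp] at hB'
      exact Bool.noConfusion hB'
    obtain ⟨hadj176z, hadj176q⟩ := hadj hkz hkq hgz hgq
    have h118z : Commute (J3Uniq.el a t q 118) z := h.commute (i := 118) (by omega)
    obtain ⟨hadj118z, hadj118q⟩ := hadj h118z hq118 hgz hgq
    have hk1 : ∀ w, Commute w (J3Uniq.el a t q 176) →
        (w * g) * J3Uniq.el a t q 176 * (w * g)⁻¹ = J3Uniq.el a t q 176 := fun w hw => by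
      rw [mul_inv_rev, show w * g * J3Uniq.el a t q 176 * (g⁻¹ * w⁻¹) =
        w * (g * J3Uniq.el a t q 176 * g⁻¹) * w⁻¹ by group, hgk, hw.eq, mul_inv_cancel_right]
    have e862 : J3Uniq.el a t q 176 * t = J3Uniq.el a t q 862 * J3Uniq.el a t q 176 := by
      have e' := congrArg (J3Uniq.el a t q) t_conj.1
      rw [mul_el h (by omega) (by omega), mul_el h (by omega) (by omega), el_t h] at e'
      exact e'
    have e1272 : J3Uniq.el a t q 176 * J3Uniq.el a t q 862 = J3Uniq.el a t q 1272 * J3Uniq.el a t q 176 := by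
      rw [← mul_el h (by omega) (by omega), ← mul_el h (by omega) (by omega), t_conj.2.1]
    simp only [List.mem_cons, List.not_mem_nil, or_false] at hi'
    rcases hi' with rfl | rfl | rfl | rfl | rfl | rfl
    · exact ⟨g, hgz, hgq, hgk, by rw [← hie', el_t h]⟩
    · refine ⟨_, hadj118z, hadj118q, hk1 _ (by rw [hk118]; exact (Commute.refl _).inv_left), ?_⟩
      rw [mul_inv_rev, show J3Uniq.el a t q 118 * g * t * (g⁻¹ * (J3Uniq.el a t q 118)⁻¹) =
        J3Uniq.el a t q 118 * (g * t * g⁻¹) * (J3Uniq.el a t q 118)⁻¹ by group, ← hie', hk118, inv_inv,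
        mul_assoc, ← e862, inv_mul_cancel_left]
    · refine ⟨_, hadj176z, hadj176q, hk1 _ (Commute.refl _), ?_⟩
      rw [mul_inv_rev, show J3Uniq.el a t q 176 * g * t * (g⁻¹ * (J3Uniq.el a t q 176)⁻¹) =
        J3Uniq.el a t q 176 * (g * t * g⁻¹) * (J3Uniq.el a t q 176)⁻¹ by group, ← hie']
      -- `k³ = 1`
      have hk3 : J3Uniq.el a t q 176 * J3Uniq.el a t q 1272 = t * J3Uniq.el a t q 176 := by
        have e' := congrArg (J3Uniq.el a t q) (show mulI 176 1272 = mulI 3 176 by decide +kernel)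
        rw [mul_el h (by omega) (by omega), mul_el h (by omega) (by omega), el_t h] at e'
        exact e'
      rw [hk3, mul_inv_cancel_right]
    all_goals exact absurd hie'.symm (hbad _ (by simp))
  -- the image of `e`
  obtain ⟨hjz, hjq⟩ := hW hgz hgq _ heC heq
  obtain ⟨j, hj, hje⟩ := h.surj hjz
  have hje' : g * evC a t q eW * g⁻¹ = J3Uniq.el a t q j := hje
  have hgt2 : g * evC a t q [2] * g⁻¹ = evC a t q (wd 3) := by
    show _ = J3Uniq.el a t q 3
    rw [(evC_single a t q).1, el_t h, hgt]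
  have hp := hpair 3 j (by omega) hj hgz hgq (hsub 3 j hgk hgt2 hje') (hje' ▸ hjq)
  have hy : j = 1906 := by
    have hB := allBelow_iff.1 y_check j hj
    simp only [yCheck, Bool.or_eq_true, Nat.beq_eq] at hB
    refine hB.resolve_left fun hbad => ?_
    rw [Bool.not_eq_true'] at hbad
    simp only [pairB] at hp
    rw [show wd 3 = [2] by decide +kernel] at hp
    simp only [Bool.and_eq_true] at hp
    obtain ⟨⟨⟨⟨a1, a2⟩, a3⟩, a4⟩, -⟩ := hp
    rw [a1, a2, a3, a4] at hbad
    simp at hbad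
  have hrt : Commute g t := mul_inv_eq_iff_eq_mul.1 hgt
  have hrk : Commute g (evC a t q kW) := by rw [← hk176]; exact mul_inv_eq_iff_eq_mul.1 hgk
  have hre : g * evC a t q eW * g⁻¹ = evC a t q yW := by
    rw [hje', hy]; exact (val_eq h (by decide) cube_ok.2.2.2.2.2.1).symm
  have hci := fun idx => conj_sub (r := g) (HJUniq.lett a t q 1) (w0 := [2]) (w1 := kW) (w2 := eW) (v0 := [2])
    (v1 := kW) (v2 := yW)
    (by show g * evC a t q [2] * g⁻¹ = evC a t q [2]; rw [(evC_single a t q).1, hgt])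
    (by show g * evC a t q kW * g⁻¹ = evC a t q kW; rw [hrk.eq, mul_inv_cancel_right]) hre idx
  -- the cube fixes `W`
  have hy2 : g * evC a t q yW * g⁻¹ = J3Uniq.el a t q 1827 := by
    rw [val_eq h (l := yW) (by decide) cube_ok.2.2.2.2.2.1, ← val_eq h (small_sub rfl (by decide) (by decide) _) cube_ok.1]
    exact (hci yIdx).trans (val_eq h (small_sub rfl (by decide) (by decide) _) cube_ok.2.1)
  have hy3 : g * J3Uniq.el a t q 1827 * g⁻¹ = evC a t q eW := by
    rw [← val_eq h (small_sub rfl (by decide) (by decide) _) cube_ok.2.2.1, ← el_e h]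
    exact (hci y2Idx).trans (val_eq h (small_sub rfl (by decide) (by decide) _) cube_ok.2.2.2.1)
  have h3e : Commute (g * g * g) (evC a t q eW) := mul_inv_eq_iff_eq_mul.1 (by
    calc g * g * g * evC a t q eW * (g * g * g)⁻¹ = g * (g * (g * evC a t q eW * g⁻¹) * g⁻¹) * g⁻¹ := by group
      _ = evC a t q eW := by rw [hre, hy2, hy3])
  have hgzq : g * (q * z) * g⁻¹ = z := by
    rw [show g * (q * z) * g⁻¹ = g * q * g⁻¹ * (g * z * g⁻¹) by group, hgq, hgz, mul_assoc, hzq,
      ← mul_assoc, h.toRels.hq, one_mul]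
  have h3z : Commute (g * g * g) z := mul_inv_eq_iff_eq_mul.1 (by
    calc g * g * g * z * (g * g * g)⁻¹ = g * (g * (g * z * g⁻¹) * g⁻¹) * g⁻¹ := by group
      _ = z := by rw [hgz, hgq, hgzq])
  have h3q : Commute (g * g * g) q := mul_inv_eq_iff_eq_mul.1 (by
    calc g * g * g * q * (g * g * g)⁻¹ = g * (g * (g * q * g⁻¹) * g⁻¹) * g⁻¹ := by group
      _ = q := by rw [hgq, hgzq, hgz])
  obtain ⟨p, hp', hpe⟩ := h.surj h3z
  have hpe' : J3Uniq.el a t q p = g * g * g := hpe.symm
  have hB := allBelow_iff.1 fixed_ok p hp'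
  simp only [Bool.or_eq_true, Bool.not_eq_true', List.any_eq_true, Nat.beq_eq] at hB
  have hcase : p ∈ [0, 4, 594, 1015] := by
    rcases hB with e | ⟨x, hx, rfl⟩
    · refine absurd e (Bool.eq_false_iff.not.2 ?_)
      simp only [ne_eq, not_not, Bool.and_eq_true]
      refine ⟨⟨⟨(commute_iff h hp' (by omega)).2 ?_, (commute_iff h hp' (by omega)).2 ?_⟩,
        (commute_iff h hp' (by omega)).2 ?_⟩, (commute_iff h hp' (by omega)).2 ?_⟩ <;> rw [hpe']
      · rw [el_q h]; exact h3q
      · rw [el_t h]; exact (hrt.mul_left hrt).mul_left hrt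
      · rw [hk176]; exact (hrk.mul_left hrk).mul_left hrk
      · rw [el_e h]; exact h3e
    · exact hx
  have hgp : g * J3Uniq.el a t q p * g⁻¹ = J3Uniq.el a t q p := by rw [hpe']; group
  refine ⟨g, ?_, hrt, hrk, hre⟩
  have hcube : g * g * g = 1 := by
    simp only [List.mem_cons, List.not_mem_nil, or_false] at hcase
    rcases hcase with rfl | rfl | rfl | rfl
    · rw [← hpe', J3Uniq.el_zero]
    · rw [el_q h, hgq] at hgp
      exact absurd (el_inj' h (i := 594) (j := 4) (by omega) (by omega) (by rw [el_qz h, el_q h, hgp])) (by omega)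
    · rw [el_qz h, hgzq] at hgp
      exact absurd (el_inj' h (i := 1015) (j := 594) (by omega) (by omega) (by rw [el_z h, el_qz h]; exact hgp)) (by omega)
    · rw [el_z h, hgz] at hgp
      exact absurd hgp hqz
  rw [pow_succ, pow_two]
  exact hcube

end

end Cfsg.Agent.Lib.J3Uniq.Amalgam
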