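import Cfsg.Agent.Lib.J3Uniq.Data

/-!
# Uniqueness of the third Janko group: the checks of the double coset certificate

Owner: helper74.
-/

set_option autoImplicit false
set_option maxRecDepth 100000

namespace Cfsg.Agent.Lib.J3Uniq.Data

open Cfsg.Agent.Lib.CosetEnum

/-- One fact is justified. -/
noncomputable def okAt (f : ℕ) : Bool := factB cert f (cert.fact f) (pf f)

theorem facts_part0 : allFrom 0 64 okAt = true := by decide +kernel

theorem facts_part1 : allFrom 64 64 okAt = true := by decide +kernel

theorem facts_part2 : allFrom 128 64 okAt = true := by decide +kernel

theorem facts_part3 : allFrom 192 64 okAt = true := by decide +kernel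

theorem facts_part4 : allFrom 256 64 okAt = true := by decide +kernel

theorem facts_part5 : allFrom 320 64 okAt = true := by decide +kernel

theorem facts_part6 : allFrom 384 64 okAt = true := by decide +kernel

theorem facts_part7 : allFrom 448 64 okAt = true := by decide +kernel

theorem facts_part8 : allFrom 512 64 okAt = true := by decide +kernel

theorem facts_part9 : allFrom 576 64 okAt = true := by decide +kernel

theorem facts_part10 : allFrom 640 64 okAt = true := by decide +kernel

theorem facts_part11 : allFrom 704 64 okAt = true := by decide +kernel

theorem facts_part12 : allFrom 768 64 okAt = true := by decide +kernel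

theorem facts_part13 : allFrom 832 64 okAt = true := by decide +kernel

theorem facts_part14 : allFrom 896 64 okAt = true := by decide +kernel

theorem facts_part15 : allFrom 960 64 okAt = true := by decide +kernel

theorem facts_part16 : allFrom 1024 64 okAt = true := by decide +kernel

theorem facts_part17 : allFrom 1088 64 okAt = true := by decide +kernel

theorem facts_part18 : allFrom 1152 3 okAt = true := by decide +kernel

theorem facts_ok : allBelow nFacts okAt = true := by
  have h := facts_part0
  rw [allBelow_iff]
  intro i hi
  simp only [nFacts] at hi
  by_cases h0 : i < 64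
  · exact allFrom_iff.1 facts_part0 i (by omega) (by omega)
  by_cases h1 : i < 128
  · exact allFrom_iff.1 facts_part1 i (by omega) (by omega)
  by_cases h2 : i < 192
  · exact allFrom_iff.1 facts_part2 i (by omega) (by omega)
  by_cases h3 : i < 256
  · exact allFrom_iff.1 facts_part3 i (by omega) (by omega)
  by_cases h4 : i < 320
  · exact allFrom_iff.1 facts_part4 i (by omega) (by omega)
  by_cases h5 : i < 384
  · exact allFrom_iff.1 facts_part5 i (by omega) (by omega)
  by_cases h6 : i < 448
  · exact allFrom_iff.1 facts_part6 i (by omega) (by omega)
  by_cases h7 : i < 512
  · exact allFrom_iff.1 facts_part7 i (by omega) (by omega)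
  by_cases h8 : i < 576
  · exact allFrom_iff.1 facts_part8 i (by omega) (by omega)
  by_cases h9 : i < 640
  · exact allFrom_iff.1 facts_part9 i (by omega) (by omega)
  by_cases h10 : i < 704
  · exact allFrom_iff.1 facts_part10 i (by omega) (by omega)
  by_cases h11 : i < 768
  · exact allFrom_iff.1 facts_part11 i (by omega) (by omega)
  by_cases h12 : i < 832
  · exact allFrom_iff.1 facts_part12 i (by omega) (by omega)
  by_cases h13 : i < 896
  · exact allFrom_iff.1 facts_part13 i (by omega) (by omega)
  by_cases h14 : i < 960
  · exact allFrom_iff.1 facts_part14 i (by omega) (by omega)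
  by_cases h15 : i < 1024
  · exact allFrom_iff.1 facts_part15 i (by omega) (by omega)
  by_cases h16 : i < 1088
  · exact allFrom_iff.1 facts_part16 i (by omega) (by omega)
  by_cases h17 : i < 1152
  · exact allFrom_iff.1 facts_part17 i (by omega) (by omega)
  exact allFrom_iff.1 facts_part18 i (by omega) (by omega)

theorem cover_ok : coverB cert nFacts roots cover = true := by decide +kernel

theorem roots_nodup : roots.length = 81 ∧ 0 ∈ roots := by decide

end Cfsg.Agent.Lib.J3Uniq.Data
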