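import Mathlib
import Cfsg.Agent.Lib.J3Uniq.Check

/-!
# Uniqueness of the third Janko group: a bound on the amalgamated group

A group generated by `a, t, q, r` with the relators below has at most `81 * 1920 * 1920` elements.

Owner: helper74.
-/

set_option autoImplicit false
set_option linter.style.haveILetI false
set_option maxRecDepth 8000

namespace Cfsg.Agent.Lib.J3Uniq

open Cfsg.Agent.Lib.CosetEnum Cfsg.Agent.Lib.ExactCover Cfsg.Agent.Lib.HJUniq

/-- The word `(r c) ^ 10`. -/
def tenW : List ℕ := (List.replicate 10 ([6] ++ cW)).flatten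

/-- The word `(r c r⁻¹ c) ^ 4 * k ^ 2`. -/
def fourW : List ℕ := (List.replicate 4 ([6] ++ cW ++ [7] ++ cW)).flatten ++ kW ++ kW

/-- The relators of the amalgam. -/
def relWords : List (List ℕ) := HJC1920.relWords ++ relR kW ++ [tenW, fourW]

theorem rel_letters : ∀ l ∈ relWords, ∀ g ∈ l, g < 8 := by decide +kernel

theorem base_subset : baseWords ⊆ relWords := List.subset_append_left _ _

theorem moves_ok : movesB relWords Data.mvSrc Data.cert = true := by decide +kernel

variable {G : Type*} [Group G] {a t q r : G}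

/-- The amalgam is finite, with at most `81 * 1920 * 1920` elements. -/
theorem finite_of_holds (h : Holds relWords a t q r) (hgen : Subgroup.closure ({a, t, q, r} : Set G) = ⊤) :
    Finite G ∧ Nat.card G ≤ 81 * 1920 * 1920 := by
  have h' := finite_of_cover (h.sound base_subset rel_letters (fcs := Data.fcs) (pars := Data.pars)
    (mvs := Data.mvs) (src := Data.mvSrc) moves_ok) rfl rfl (h.mono base_subset).cube Data.pf Data.nFacts
    (fun f hf => allBelow_iff.1 Data.facts_ok f hf) Data.roots Data.roots_nodup.2 Data.cover Data.cover_ok hgen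
  rwa [Data.roots_nodup.1] at h'

theorem el_ev4 (R : List (List ℕ)) {l : List ℕ} (hl : ∀ g ∈ l, g < 8) :
    HJUniq.ev (lett (ExactCover.el (n := 4) R [0]) (ExactCover.el R [2]) (ExactCover.el R [4]) (ExactCover.el R [6])) l = ExactCover.el R l := by
  induction l with
  | nil => rw [HJUniq.ev_nil, el_nil]
  | cons g l ih =>
    conv_rhs => rw [el_cons]
    rw [HJUniq.ev_cons, ih fun x hx => hl x (List.mem_cons_of_mem _ hx)]
    refine congrArg (· * _) ?_
    have := hl g List.mem_cons_self
    interval_cases g
    · rfl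
    · exact (el_flip 0).symm
    · rfl
    · exact (el_flip 2).symm
    · rfl
    · exact (el_flip 4).symm
    · rfl
    · exact (el_flip 6).symm

/-- Two surjections from the amalgam onto simple groups of order exceeding the square root of its order
have the same kernel. -/
theorem ker_eq {P A B : Type*} [Group P] [Group A] [Group B] [Finite P] [IsSimpleGroup A]
    (f : P →* A) (g : P →* B) (hf : Function.Surjective f) (hg : Function.Surjective g)
    (hAB : Nat.card A = Nat.card B) (hlt : Nat.card P < Nat.card A * Nat.card B) : f.ker = g.ker := by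
  haveI : (g.ker.map f).Normal := Subgroup.Normal.map inferInstance f hf
  have hcA : Nat.card f.ker * Nat.card A = Nat.card P := by
    rw [← Subgroup.card_mul_index f.ker, Subgroup.index_ker, MonoidHom.range_eq_top.2 hf, Subgroup.card_top]
  have hcB : Nat.card g.ker * Nat.card B = Nat.card P := by
    rw [← Subgroup.card_mul_index g.ker, Subgroup.index_ker, MonoidHom.range_eq_top.2 hg, Subgroup.card_top]
  haveI : Finite A := Finite.of_surjective f hf
  rcases IsSimpleGroup.eq_bot_or_eq_top_of_normal (g.ker.map f) inferInstance with h | h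
  · have hle : g.ker ≤ f.ker := (Subgroup.map_eq_bot_iff _).1 h
    refine (Subgroup.eq_of_le_of_card_ge hle ?_).symm
    have hA : 0 < Nat.card A := Nat.card_pos
    refine le_of_eq (Nat.eq_of_mul_eq_mul_right hA ?_)
    rw [hcA, hAB, hcB]
  · exfalso
    have h1 : Nat.card A ≤ Nat.card g.ker := by
      rw [← Subgroup.card_top (G := A), ← h]
      exact Nat.card_le_card_of_surjective (fun x : g.ker => (⟨f x, x, x.2, rfl⟩ : g.ker.map f))
        fun ⟨_, x, hx, rfl⟩ => ⟨⟨x, hx⟩, rfl⟩
    exact absurd (hcB ▸ Nat.mul_le_mul_right (Nat.card B) h1) (Nat.not_le.2 hlt)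

/-- Two groups of order `50232960` with the relators, generated by `a, t, q, r`, are isomorphic. -/
theorem nonempty_iso {A : Type*} [Group A] [IsSimpleGroup A] {B : Type*} [Group B]
    {a t q r : A} {a' t' q' r' : B} (h : Holds relWords a t q r) (h' : Holds relWords a' t' q' r')
    (hgen : Subgroup.closure ({a, t, q, r} : Set A) = ⊤) (hgen' : Subgroup.closure ({a', t', q', r'} : Set B) = ⊤)
    (hA : Nat.card A = 50232960) (hB : Nat.card B = 50232960) : Nonempty (A ≃* B) := by
  set P := PresentedGroup (relSet 4 relWords) with hP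
  let g : Fin 4 → P := fun i => ExactCover.el relWords [2 * i.val]
  have hg : ∀ l, (∀ x ∈ l, x < 8) → HJUniq.ev (lett (g 0) (g 1) (g 2) (g 3)) l = ExactCover.el (n := 4) relWords l :=
    fun l hl => el_ev4 relWords hl
  have hJ : Holds relWords (g 0) (g 1) (g 2) (g 3) := fun l hl => by
    rw [hg l (rel_letters l hl)]
    exact PresentedGroup.one_of_mem (List.mem_map.2 ⟨l, hl, rfl⟩)
  have hgP : Subgroup.closure ({g 0, g 1, g 2, g 3} : Set P) = ⊤ := by
    rw [← top_le_iff, ← PresentedGroup.closure_range_of, Subgroup.closure_le]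
    rintro _ ⟨i, rfl⟩
    refine Subgroup.subset_closure ?_
    rw [← el_pos (R := relWords) i]
    fin_cases i <;> simp [g]
  obtain ⟨hfin, hcard⟩ := finite_of_holds hJ hgP
  haveI := hfin
  obtain ⟨F, hF⟩ := exists_hom4 relWords rel_letters h
  obtain ⟨F', hF'⟩ := exists_hom4 relWords rel_letters h'
  have hFs : Function.Surjective F := by
    rw [← MonoidHom.range_eq_top, ← top_le_iff, ← hgen, Subgroup.closure_le]
    rintro x (rfl | rfl | rfl | rfl)
    exacts [⟨_, (hF [0] (by decide)).trans (ev_single _ _ _ _ 0)⟩,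
      ⟨_, (hF [2] (by decide)).trans (ev_single _ _ _ _ 2)⟩,
      ⟨_, (hF [4] (by decide)).trans (ev_single _ _ _ _ 4)⟩,
      ⟨_, (hF [6] (by decide)).trans (ev_single _ _ _ _ 6)⟩]
  have hFs' : Function.Surjective F' := by
    rw [← MonoidHom.range_eq_top, ← top_le_iff, ← hgen', Subgroup.closure_le]
    rintro x (rfl | rfl | rfl | rfl)
    exacts [⟨_, (hF' [0] (by decide)).trans (ev_single _ _ _ _ 0)⟩,
      ⟨_, (hF' [2] (by decide)).trans (ev_single _ _ _ _ 2)⟩,
      ⟨_, (hF' [4] (by decide)).trans (ev_single _ _ _ _ 4)⟩,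
      ⟨_, (hF' [6] (by decide)).trans (ev_single _ _ _ _ 6)⟩]
  have hk : F.ker = F'.ker := ker_eq F F' hFs hFs' (hA.trans hB.symm) (by rw [hA, hB]; exact lt_of_le_of_lt hcard (by norm_num))
  exact ⟨((QuotientGroup.quotientKerEquivOfSurjective F hFs).symm.trans
    (QuotientGroup.quotientMulEquivOfEq hk)).trans (QuotientGroup.quotientKerEquivOfSurjective F' hFs')⟩

end Cfsg.Agent.Lib.J3Uniq
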