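import Cfsg.Agent.Lib.J3Uniq.Moves

/-!
# Uniqueness of the third Janko group: the data of the double coset certificate

Produced by a double coset enumeration program (81 double cosets, 78489 cosets).

Owner: helper74.
-/

set_option autoImplicit false
set_option maxRecDepth 8000

namespace Cfsg.Agent.Lib.J3Uniq.Data

/-- Facts, block 0. -/
def fc0 : List Fc :=
  [⟨0, 0, 1, 1, 0, 0⟩, ⟨1, 3, 0, 1, 3, 0⟩, ⟨1, 1015, 0, 1, 4, 0⟩, ⟨1, 59, 0, 1, 59, 0⟩, ⟨1, 536, 0, 1, 290, 0⟩, ⟨1, 0, 1, 2, 0, 0⟩, ⟨2, 0, 1, 0, 0, 0⟩, ⟨2, 0, 0, 1, 22, 270⟩, ⟨1, 270, 1, 0, 22, 0⟩, ⟨1, 1, 1, 3, 0, 0⟩, ⟨3, 594, 0, 3, 4, 0⟩, ⟨3, 152, 0, 3, 176, 0⟩, ⟨3, 1825, 0, 3, 724, 0⟩, ⟨3, 0, 1, 4, 0, 0⟩, ⟨4, 0, 1, 1, 0, 1⟩, ⟨4, 0, 0, 3, 743, 1202⟩, ⟨3, 1202, 1, 1, 580, 1⟩, ⟨3, 1, 1, 5, 0, 0⟩, ⟨5, 282, 0, 5, 1038,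 0⟩, ⟨5, 0, 1, 6, 0, 0⟩, ⟨6, 0, 1, 3, 0, 1⟩, ⟨6, 0, 0, 5, 4, 651⟩, ⟨5, 651, 1, 3, 4, 1⟩, ⟨5, 1, 1, 7, 0, 0⟩, ⟨5, 2, 1, 8, 0, 0⟩, ⟨7, 22, 1, 5, 0, 509⟩, ⟨8, 22, 1, 5, 0, 632⟩, ⟨7, 0, 1, 8, 1038, 197⟩, ⟨8, 0, 1, 7, 1044, 1557⟩, ⟨5, 8, 1, 9, 0, 0⟩, ⟨9, 920, 0, 9, 1038, 0⟩, ⟨5, 29, 1, 10, 0, 0⟩, ⟨10, 940, 0, 10, 1038, 0⟩, ⟨9, 22, 1, 5, 0, 1019⟩, ⟨10, 22, 1, 5, 0, 597⟩, ⟨9, 459, 0, 9, 1806, 0⟩, ⟨10, 1100, 0, 10, 1624, 0⟩, ⟨9, 0, 1, 10, 0, 270⟩, ⟨10, 0, 1, 9, 0, 270⟩, ⟨7, 1, 1, 11, 0, 0⟩, ⟨7, 2, 1, 12, 0, 0⟩, ⟨11, 22, 1, 7, 0, 509⟩, ⟨12, 22, 1, 7, 0, 632⟩, ⟨7, 5, 1, 13, 0, 0⟩, ⟨7, 8, 1, 14, 0, 0⟩, ⟨13, 22, 1, 7, 0, 854⟩, ⟨14, 22, 1, 7, 0, 1019⟩, ⟨14, 459, 0, 14, 1853, 0⟩, ⟨7, 14, 1, 15, 0, 0⟩, ⟨7, 15, 1, 16, 0, 0⟩, ⟨15, 0, 1, 11, 0, 335⟩, ⟨16, 0, 1, 12, 0, 270⟩, ⟨11, 0, 1, 15, 0,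 335⟩, ⟨12, 0, 1, 16, 0, 270⟩, ⟨15, 22, 1, 7, 0, 1209⟩, ⟨16, 22, 1, 7, 0, 322⟩, ⟨7, 21, 1, 17, 0, 0⟩, ⟨7, 29, 1, 18, 0, 0⟩, ⟨17, 0, 1, 13, 0, 335⟩, ⟨18, 0, 1, 14, 0, 270⟩, ⟨13, 0, 1, 17, 0, 335⟩, ⟨14, 0, 1, 18, 0, 270⟩, ⟨17, 22, 1, 7, 0, 1359⟩, ⟨18, 22, 1, 7, 0, 597⟩]

/-- Justifications, block 0. -/
def pf0 : List Pf :=
  [⟨0, 0, 0, 0, [], []⟩,
    ⟨0, 3, 2, 0, [(1, 0, 1)], [(5, 3, 0), (1, 0, 0)]⟩,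
    ⟨0, 4, 2, 0, [(1, 0, 11)], [(5, 4, 0), (1, 0, 0)]⟩,
    ⟨0, 11, 2, 0, [(5, 5, 0), (1, 0, 12)], [(5, 11, 0), (1, 0, 0)]⟩,
    ⟨0, 28, 2, 0, [(5, 22, 0), (1, 0, 98)], [(5, 28, 0), (1, 0, 0)]⟩,
    ⟨0, 0, 0, 0, [], []⟩,
    ⟨2, 0, 1, 0, [(2, 5, 0), (2, 0, 0)], []⟩,
    ⟨0, 0, 2, 9, [(0, 22, 0), (5, 22, 0), (2, 6, 0), (0, 371, 0)], [(1, 0, 0)]⟩,
    ⟨1, 270, 1, 0, [(4, 7, 0), (1, 6, 0)], []⟩,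
    ⟨0, 0, 0, 0, [], []⟩,
    ⟨1, 823, 2, 0, [(1, 9, 150)], [(3, 2, 0), (1, 9, 0)]⟩,
    ⟨1, 16, 2, 0, [(3, 1, 0), (1, 9, 13)], [(3, 3, 0), (3, 1, 0), (1, 9, 0)]⟩,
    ⟨1, 679, 2, 0, [(3, 1, 0), (1, 9, 104)], [(3, 4, 0), (1, 9, 0)]⟩,
    ⟨0, 0, 0, 0, [], []⟩,
    ⟨4, 0, 1, 0, [(2, 13, 0), (2, 9, 0)], []⟩,
    ⟨1, 1, 2, 9, [(0, 22, 0), (3, 4, 0), (3, 1, 0), (2, 14, 101), (0, 371, 0)], [(1, 9, 0)]⟩,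
    ⟨3, 1202, 1, 0, [(4, 15, 0), (1, 14, 0)], []⟩,
    ⟨0, 0, 0, 0, [], []⟩,
    ⟨3, 963, 2, 0, [(3, 12, 0), (1, 17, 25)], [(3, 11, 0), (3, 12, 0), (1, 17, 0)]⟩,
    ⟨0, 0, 0, 0, [], []⟩,
    ⟨6, 0, 1, 0, [(2, 19, 0), (2, 17, 0)], []⟩,
    ⟨3, 1, 2, 9, [(0, 22, 0), (3, 10, 0), (2, 20, 46), (0, 371, 0)], [(1, 17, 0)]⟩,
    ⟨5, 651, 1, 0, [(4, 21, 0), (1, 20, 0)], []⟩,
    ⟨0, 0, 0, 0, [], []⟩,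
    ⟨0, 0, 0, 0, [], []⟩,
    ⟨7, 22, 1, 9, [(0, 22, 0), (2, 23, 0), (0, 371, 0)], []⟩,
    ⟨8, 22, 1, 9, [(0, 22, 0), (2, 24, 0), (0, 371, 0)], []⟩,
    ⟨7, 0, 1, 0, [(2, 23, 0), (3, 18, 0), (2, 26, 130)], []⟩,
    ⟨8, 0, 1, 0, [(2, 24, 0), (3, 18, 0), (3, 18, 0), (2, 25, 190)], []⟩,
    ⟨0, 0, 0, 0, [], []⟩,
    ⟨5, 564, 2, 0, [(1, 29, 60)], [(3, 18, 0), (1, 29, 0)]⟩,
    ⟨0, 0, 0, 0, [], []⟩,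
    ⟨5, 1382, 2, 0, [(1, 31, 62)], [(3, 18, 0), (1, 31, 0)]⟩,
    ⟨9, 22, 1, 9, [(0, 22, 0), (2, 29, 0), (0, 371, 0)], []⟩,
    ⟨10, 22, 1, 9, [(0, 22, 0), (2, 31, 0), (0, 371, 0)], []⟩,
    ⟨5, 434, 2, 21, [(0, 25, 0), (1, 22, 106), (0, 104, 0), (2, 9, 101), (0, 104, 0), (1, 8, 69), (0, 104, 0), (5, 21, 0), (2, 6, 95), (3, 7, 0), (0, 104, 0), (3, 1, 0), (3, 3, 0), (1, 9, 63), (0, 104, 0), (3, 12, 0), (2, 20, 176), (3, 21, 0), (0, 104, 0), (1, 29, 93), (0, 104, 0)], [(1, 29, 145)]⟩,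
    ⟨5, 959, 2, 21, [(0, 25, 0), (1, 19, 9), (3, 21, 0), (0, 104, 0), (2, 33, 104), (0, 104, 0), (3, 35, 0), (1, 33, 174), (0, 104, 0), (2, 17, 19), (0, 104, 0), (1, 13, 179), (3, 15, 0), (0, 104, 0), (3, 10, 0), (3, 12, 0), (2, 20, 45), (3, 21, 0), (0, 104, 0), (1, 31, 55), (0, 104, 0)], [(1, 31, 76)]⟩,
    ⟨9, 0, 1, 0, [(2, 29, 0), (2, 34, 7)], []⟩,
    ⟨10, 0, 1, 0, [(2, 31, 0), (2, 33, 7)], []⟩,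
    ⟨0, 0, 0, 0, [], []⟩,
    ⟨0, 0, 0, 0, [], []⟩,
    ⟨11, 22, 1, 9, [(0, 22, 0), (2, 39, 0), (0, 371, 0)], []⟩,
    ⟨12, 22, 1, 9, [(0, 22, 0), (2, 40, 0), (0, 371, 0)], []⟩,
    ⟨0, 0, 0, 0, [], []⟩,
    ⟨0, 0, 0, 0, [], []⟩,
    ⟨13, 22, 1, 9, [(0, 22, 0), (2, 43, 0), (0, 371, 0)], []⟩,
    ⟨14, 22, 1, 9, [(0, 22, 0), (2, 44, 0), (0, 371, 0)], []⟩,
    ⟨7, 434, 2, 21, [(0, 25, 0), (1, 25, 186), (0, 104, 0), (2, 17, 15), (0, 104, 0), (1, 16, 124), (0, 104, 0), (3, 1, 0), (3, 3, 0), (2, 14, 105), (3, 15, 0), (0, 104, 0), (3, 11, 0), (1, 17, 79), (0, 104, 0), (3, 18, 0), (2, 25, 153), (0, 104, 0), (1, 44, 93), (0, 104, 0)], [(1, 44, 145)]⟩,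
    ⟨0, 0, 0, 0, [], []⟩,
    ⟨0, 0, 0, 0, [], []⟩,
    ⟨15, 0, 1, 0, [(2, 48, 0), (2, 41, 23)], []⟩,
    ⟨16, 0, 1, 0, [(2, 49, 0), (2, 42, 7)], []⟩,
    ⟨11, 0, 1, 9, [(0, 22, 0), (2, 50, 180), (0, 371, 0)], []⟩,
    ⟨12, 0, 1, 9, [(0, 22, 0), (2, 51, 2), (0, 371, 0)], []⟩,
    ⟨15, 22, 1, 9, [(0, 22, 0), (2, 48, 0), (0, 371, 0)], []⟩,
    ⟨16, 22, 1, 9, [(0, 22, 0), (2, 49, 0), (0, 371, 0)], []⟩,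
    ⟨0, 0, 0, 0, [], []⟩,
    ⟨0, 0, 0, 0, [], []⟩,
    ⟨17, 0, 1, 0, [(2, 56, 0), (2, 45, 23)], []⟩,
    ⟨18, 0, 1, 0, [(2, 57, 0), (2, 46, 7)], []⟩,
    ⟨13, 0, 1, 9, [(0, 22, 0), (2, 58, 180), (0, 371, 0)], []⟩,
    ⟨14, 0, 1, 9, [(0, 22, 0), (2, 59, 2), (0, 371, 0)], []⟩,
    ⟨17, 22, 1, 9, [(0, 22, 0), (2, 56, 0), (0, 371, 0)], []⟩,
    ⟨18, 22, 1, 9, [(0, 22, 0), (2, 57, 0), (0, 371, 0)], []⟩]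

/-- Facts, block 1. -/
def fc1 : List Fc :=
  [⟨18, 1100, 0, 18, 1911, 0⟩, ⟨8, 1, 1, 19, 0, 0⟩, ⟨8, 2, 1, 20, 0, 0⟩, ⟨19, 22, 1, 8, 0, 509⟩, ⟨20, 22, 1, 8, 0, 632⟩, ⟨19, 140, 0, 19, 13, 0⟩, ⟨8, 5, 1, 21, 0, 0⟩, ⟨8, 8, 1, 22, 0, 0⟩, ⟨21, 22, 1, 8, 0, 854⟩, ⟨22, 22, 1, 8, 0, 1019⟩, ⟨8, 14, 1, 23, 0, 0⟩, ⟨8, 15, 1, 24, 0, 0⟩, ⟨23, 0, 1, 19, 0, 335⟩, ⟨24, 0, 1, 20, 0, 270⟩, ⟨19, 0, 1, 23, 0, 335⟩, ⟨20, 0, 1, 24, 0, 270⟩, ⟨23, 22, 1, 8, 0, 1209⟩, ⟨24, 22, 1, 8, 0, 322⟩, ⟨23, 1594, 0, 23, 1826, 0⟩, ⟨8, 21, 1, 25, 0, 0⟩, ⟨8, 29, 1, 26, 0, 0⟩, ⟨25, 0, 1, 21, 0, 335⟩, ⟨26, 0, 1, 22, 0, 270⟩, ⟨21, 0, 1, 25, 0, 335⟩, ⟨22, 0, 1, 26, 0, 270⟩, ⟨25, 22, 1, 8, 0, 1359⟩, ⟨26, 22, 1, 8, 0, 597⟩, ⟨9, 2, 1, 27, 0, 0⟩, ⟨27, 1902, 0, 27, 1806, 0⟩, ⟨9, 8, 1, 28, 0, 0⟩, ⟨28, 1910, 0, 28, 114, 0⟩,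 ⟨27, 22, 1, 9, 0, 632⟩, ⟨28, 22, 1, 9, 0, 1019⟩, ⟨27, 0, 1, 28, 1044, 1212⟩, ⟨28, 0, 1, 27, 1038, 100⟩, ⟨10, 1, 1, 29, 0, 0⟩, ⟨29, 619, 0, 29, 1320, 0⟩, ⟨10, 2, 1, 30, 0, 0⟩, ⟨30, 1272, 0, 30, 1146, 0⟩, ⟨29, 22, 1, 10, 0, 509⟩, ⟨30, 22, 1, 10, 0, 632⟩, ⟨29, 0, 1, 30, 1044, 699⟩, ⟨30, 0, 1, 29, 1038, 828⟩, ⟨11, 1, 1, 31, 0, 0⟩, ⟨11, 2, 1, 32, 0, 0⟩, ⟨31, 22, 1, 11, 0, 509⟩, ⟨32, 22, 1, 11, 0, 632⟩, ⟨31, 1100, 0, 31, 1146, 0⟩, ⟨11, 5, 1, 33, 0, 0⟩, ⟨11, 8, 1, 34, 0, 0⟩, ⟨33, 22, 1, 11, 0, 854⟩, ⟨34, 22, 1, 11, 0, 1019⟩, ⟨21, 426, 1, 34, 176, 642⟩, ⟨34, 14, 1, 21, 118, 174⟩, ⟨11, 14, 1, 35, 0, 0⟩, ⟨11, 15, 1, 36, 0, 0⟩, ⟨35, 0, 1, 31, 0, 335⟩, ⟨36, 0, 1, 32, 0, 270⟩, ⟨31, 0, 1, 35, 0, 335⟩, ⟨32, 0, 1, 36, 0, 270⟩, ⟨35, 22, 1, 11, 0, 1209⟩, ⟨36, 22, 1, 11, 0, 322⟩, ⟨11, 21, 1,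 37, 0, 0⟩, ⟨11, 29, 1, 38, 0, 0⟩]

/-- Justifications, block 1. -/
def pf1 : List Pf :=
  [⟨14, 667, 2, 11, [(0, 104, 0), (2, 44, 155), (0, 104, 0), (2, 23, 68), (0, 104, 0), (2, 17, 164), (0, 104, 0), (2, 9, 58), (0, 104, 0), (3, 1, 0), (3, 3, 0), (2, 14, 155), (3, 15, 0), (0, 104, 0), (3, 11, 0), (2, 20, 138), (3, 21, 0), (0, 104, 0), (3, 18, 0), (2, 25, 18), (0, 104, 0), (2, 46, 104), (0, 104, 0), (3, 47, 0), (2, 59, 87), (0, 104, 0)], [(3, 47, 0), (1, 61, 86)]⟩,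
    ⟨0, 0, 0, 0, [], []⟩,
    ⟨0, 0, 0, 0, [], []⟩,
    ⟨19, 22, 1, 9, [(0, 22, 0), (2, 65, 0), (0, 371, 0)], []⟩,
    ⟨20, 22, 1, 9, [(0, 22, 0), (2, 66, 0), (0, 371, 0)], []⟩,
    ⟨8, 1102, 2, 11, [(0, 104, 0), (2, 27, 162), (0, 104, 0), (2, 63, 146), (0, 104, 0), (3, 64, 0), (2, 61, 52), (0, 104, 0), (3, 47, 0), (2, 59, 28), (0, 104, 0), (3, 64, 0), (2, 61, 174), (0, 104, 0), (3, 47, 0), (2, 59, 73), (0, 104, 0), (3, 64, 0), (2, 57, 103), (0, 104, 0), (2, 28, 47), (0, 104, 0), (2, 67, 48), (0, 104, 0)], [(1, 65, 183)]⟩,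
    ⟨0, 0, 0, 0, [], []⟩,
    ⟨0, 0, 0, 0, [], []⟩,
    ⟨21, 22, 1, 9, [(0, 22, 0), (2, 70, 0), (0, 371, 0)], []⟩,
    ⟨22, 22, 1, 9, [(0, 22, 0), (2, 71, 0), (0, 371, 0)], []⟩,
    ⟨0, 0, 0, 0, [], []⟩,
    ⟨0, 0, 0, 0, [], []⟩,
    ⟨23, 0, 1, 0, [(2, 74, 0), (2, 67, 23)], []⟩,
    ⟨24, 0, 1, 0, [(2, 75, 0), (2, 68, 7)], []⟩,
    ⟨19, 0, 1, 9, [(0, 22, 0), (2, 76, 180), (0, 371, 0)], []⟩,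
    ⟨20, 0, 1, 9, [(0, 22, 0), (2, 77, 2), (0, 371, 0)], []⟩,
    ⟨23, 22, 1, 9, [(0, 22, 0), (2, 74, 0), (0, 371, 0)], []⟩,
    ⟨24, 22, 1, 9, [(0, 22, 0), (2, 75, 0), (0, 371, 0)], []⟩,
    ⟨19, 2, 2, 11, [(0, 104, 0), (2, 65, 20), (0, 104, 0), (2, 24, 0), (0, 104, 0), (2, 17, 20), (0, 104, 0), (2, 9, 0), (0, 104, 0), (3, 1, 0), (2, 14, 2), (3, 15, 0), (0, 104, 0), (3, 10, 0), (3, 11, 0), (3, 11, 0), (2, 20, 110), (3, 21, 0), (0, 104, 0), (3, 18, 0), (2, 26, 189), (0, 104, 0), (2, 67, 163), (0, 104, 0), (3, 69, 0), (2, 76, 169), (0, 104, 0)], [(3, 69, 0), (1, 78, 12)]⟩,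
    ⟨0, 0, 0, 0, [], []⟩,
    ⟨0, 0, 0, 0, [], []⟩,
    ⟨25, 0, 1, 0, [(2, 83, 0), (2, 72, 23)], []⟩,
    ⟨26, 0, 1, 0, [(2, 84, 0), (2, 73, 7)], []⟩,
    ⟨21, 0, 1, 9, [(0, 22, 0), (2, 85, 180), (0, 371, 0)], []⟩,
    ⟨22, 0, 1, 9, [(0, 22, 0), (2, 86, 2), (0, 371, 0)], []⟩,
    ⟨25, 22, 1, 9, [(0, 22, 0), (2, 83, 0), (0, 371, 0)], []⟩,
    ⟨26, 22, 1, 9, [(0, 22, 0), (2, 84, 0), (0, 371, 0)], []⟩,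
    ⟨0, 0, 0, 0, [], []⟩,
    ⟨9, 496, 2, 0, [(1, 91, 130)], [(3, 35, 0), (1, 91, 0)]⟩,
    ⟨0, 0, 0, 0, [], []⟩,
    ⟨9, 648, 2, 0, [(3, 30, 0), (1, 93, 154)], [(3, 35, 0), (1, 93, 0)]⟩,
    ⟨27, 22, 1, 9, [(0, 22, 0), (2, 91, 0), (0, 371, 0)], []⟩,
    ⟨28, 22, 1, 9, [(0, 22, 0), (2, 93, 0), (0, 371, 0)], []⟩,
    ⟨27, 0, 1, 0, [(2, 91, 0), (3, 30, 0), (3, 30, 0), (2, 96, 29)], []⟩,
    ⟨28, 0, 1, 0, [(2, 93, 0), (3, 30, 0), (2, 95, 69)], []⟩,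
    ⟨0, 0, 0, 0, [], []⟩,
    ⟨10, 1471, 2, 0, [(3, 32, 0), (1, 99, 118)], [(3, 36, 0), (1, 99, 0)]⟩,
    ⟨0, 0, 0, 0, [], []⟩,
    ⟨10, 739, 2, 0, [(3, 32, 0), (3, 32, 0), (1, 101, 43)], [(3, 36, 0), (1, 101, 0)]⟩,
    ⟨29, 22, 1, 9, [(0, 22, 0), (2, 99, 0), (0, 371, 0)], []⟩,
    ⟨30, 22, 1, 9, [(0, 22, 0), (2, 101, 0), (0, 371, 0)], []⟩,
    ⟨29, 0, 1, 0, [(2, 99, 0), (3, 32, 0), (3, 32, 0), (2, 104, 126)], []⟩,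
    ⟨30, 0, 1, 0, [(2, 101, 0), (3, 32, 0), (2, 103, 180)], []⟩,
    ⟨0, 0, 0, 0, [], []⟩,
    ⟨0, 0, 0, 0, [], []⟩,
    ⟨31, 22, 1, 9, [(0, 22, 0), (2, 107, 0), (0, 371, 0)], []⟩,
    ⟨32, 22, 1, 9, [(0, 22, 0), (2, 108, 0), (0, 371, 0)], []⟩,
    ⟨11, 769, 2, 21, [(0, 25, 0), (1, 41, 82), (0, 104, 0), (2, 23, 40), (0, 104, 0), (1, 31, 83), (0, 104, 0), (3, 36, 0), (2, 31, 151), (0, 104, 0), (3, 18, 0), (3, 18, 0), (1, 23, 84), (0, 104, 0), (2, 41, 39), (0, 104, 0), (1, 107, 131), (0, 104, 0)], [(1, 107, 177)]⟩,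
    ⟨0, 0, 0, 0, [], []⟩,
    ⟨0, 0, 0, 0, [], []⟩,
    ⟨33, 22, 1, 9, [(0, 22, 0), (2, 112, 0), (0, 371, 0)], []⟩,
    ⟨34, 22, 1, 9, [(0, 22, 0), (2, 113, 0), (0, 371, 0)], []⟩,
    ⟨21, 426, 1, 21, [(0, 25, 0), (1, 72, 175), (0, 104, 0), (2, 24, 61), (0, 104, 0), (1, 22, 51), (0, 104, 0), (3, 11, 0), (2, 20, 162), (3, 21, 0), (0, 104, 0), (1, 23, 72), (0, 104, 0), (2, 41, 172), (0, 104, 0), (1, 113, 145), (0, 104, 0)], []⟩,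
    ⟨34, 14, 1, 9, [(0, 22, 0), (2, 116, 151), (0, 371, 0)], []⟩,
    ⟨0, 0, 0, 0, [], []⟩,
    ⟨0, 0, 0, 0, [], []⟩,
    ⟨35, 0, 1, 0, [(2, 118, 0), (2, 109, 23)], []⟩,
    ⟨36, 0, 1, 0, [(2, 119, 0), (2, 110, 7)], []⟩,
    ⟨31, 0, 1, 9, [(0, 22, 0), (2, 120, 180), (0, 371, 0)], []⟩,
    ⟨32, 0, 1, 9, [(0, 22, 0), (2, 121, 2), (0, 371, 0)], []⟩,
    ⟨35, 22, 1, 9, [(0, 22, 0), (2, 118, 0), (0, 371, 0)], []⟩,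
    ⟨36, 22, 1, 9, [(0, 22, 0), (2, 119, 0), (0, 371, 0)], []⟩,
    ⟨0, 0, 0, 0, [], []⟩,
    ⟨0, 0, 0, 0, [], []⟩]

/-- Facts, block 2. -/
def fc2 : List Fc :=
  [⟨37, 0, 1, 33, 0, 335⟩, ⟨38, 0, 1, 34, 0, 270⟩, ⟨33, 0, 1, 37, 0, 335⟩, ⟨34, 0, 1, 38, 0, 270⟩, ⟨37, 22, 1, 11, 0, 1359⟩, ⟨38, 22, 1, 11, 0, 597⟩, ⟨28, 221, 1, 38, 44, 1226⟩, ⟨38, 74, 1, 28, 259, 243⟩, ⟨12, 1, 1, 39, 0, 0⟩, ⟨12, 2, 1, 40, 0, 0⟩, ⟨39, 22, 1, 12, 0, 509⟩, ⟨40, 22, 1, 12, 0, 632⟩, ⟨13, 433, 1, 39, 754, 1798⟩, ⟨39, 15, 1, 13, 658, 1276⟩, ⟨12, 5, 1, 41, 0, 0⟩, ⟨12, 8, 1, 42, 0, 0⟩, ⟨41, 22, 1, 12, 0, 854⟩, ⟨42, 22, 1, 12, 0, 1019⟩, ⟨12, 14, 1, 43, 0, 0⟩, ⟨12, 15, 1, 44, 0, 0⟩, ⟨43, 0, 1, 39, 0, 335⟩, ⟨44, 0, 1, 40, 0, 270⟩, ⟨39, 0, 1, 43, 0, 335⟩, ⟨40, 0, 1, 44, 0, 270⟩, ⟨43, 22, 1, 12, 0, 1209⟩, ⟨44,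 22, 1, 12, 0, 322⟩, ⟨27, 115, 1, 43, 226, 1591⟩, ⟨43, 169, 1, 27, 369, 968⟩, ⟨12, 21, 1, 45, 0, 0⟩, ⟨12, 29, 1, 46, 0, 0⟩, ⟨45, 0, 1, 41, 0, 335⟩, ⟨46, 0, 1, 42, 0, 270⟩, ⟨41, 0, 1, 45, 0, 335⟩, ⟨42, 0, 1, 46, 0, 270⟩, ⟨45, 22, 1, 12, 0, 1359⟩, ⟨46, 22, 1, 12, 0, 597⟩, ⟨24, 65, 1, 46, 1806, 1882⟩, ⟨46, 14, 1, 24, 1806, 991⟩, ⟨13, 1, 1, 47, 0, 0⟩, ⟨13, 2, 1, 48, 0, 0⟩, ⟨47, 22, 1, 13, 0, 509⟩, ⟨48, 22, 1, 13, 0, 632⟩, ⟨13, 8, 1, 49, 0, 0⟩, ⟨13, 14, 1, 50, 0, 0⟩, ⟨50, 0, 1, 47, 0, 335⟩, ⟨47, 0, 1, 50, 0, 335⟩, ⟨49, 22, 1, 13, 0, 1019⟩, ⟨13, 15, 1, 51, 0, 0⟩, ⟨13, 21, 1, 52, 0, 0⟩, ⟨51, 0, 1, 48, 0, 270⟩, ⟨52, 0, 1, 39, 754, 1129⟩, ⟨39, 2, 1, 52, 658, 1200⟩, ⟨48, 0, 1, 51, 0, 270⟩, ⟨51, 22, 1, 13, 0, 322⟩, ⟨52, 22, 1, 13, 0, 1359⟩, ⟨15, 434, 1, 52, 893, 61⟩, ⟨52, 89, 1, 15, 927,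 277⟩, ⟨13, 29, 1, 53, 0, 0⟩, ⟨14, 2, 1, 54, 0, 0⟩, ⟨53, 0, 1, 49, 0, 270⟩, ⟨49, 0, 1, 53, 0, 270⟩, ⟨53, 22, 1, 13, 0, 597⟩, ⟨54, 22, 1, 14, 0, 632⟩, ⟨14, 5, 1, 55, 0, 0⟩]

/-- Justifications, block 2. -/
def pf2 : List Pf :=
  [⟨37, 0, 1, 0, [(2, 126, 0), (2, 114, 23)], []⟩,
    ⟨38, 0, 1, 0, [(2, 127, 0), (2, 115, 7)], []⟩,
    ⟨33, 0, 1, 9, [(0, 22, 0), (2, 128, 180), (0, 371, 0)], []⟩,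
    ⟨34, 0, 1, 9, [(0, 22, 0), (2, 129, 2), (0, 371, 0)], []⟩,
    ⟨37, 22, 1, 9, [(0, 22, 0), (2, 126, 0), (0, 371, 0)], []⟩,
    ⟨38, 22, 1, 9, [(0, 22, 0), (2, 127, 0), (0, 371, 0)], []⟩,
    ⟨28, 221, 1, 21, [(0, 25, 0), (1, 96, 69), (0, 104, 0), (3, 35, 0), (2, 29, 4), (0, 104, 0), (1, 19, 18), (3, 21, 0), (0, 104, 0), (3, 18, 0), (2, 26, 40), (0, 104, 0), (1, 70, 67), (0, 104, 0), (2, 117, 164), (0, 104, 0), (1, 131, 97), (0, 104, 0)], []⟩,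
    ⟨38, 74, 1, 21, [(0, 25, 0), (1, 133, 49), (0, 104, 0), (2, 39, 131), (0, 104, 0), (1, 25, 39), (0, 104, 0), (2, 17, 84), (0, 104, 0), (3, 10, 0), (3, 11, 0), (3, 11, 0), (1, 17, 56), (0, 104, 0), (2, 33, 31), (0, 104, 0), (1, 93, 167), (0, 104, 0)], []⟩,
    ⟨0, 0, 0, 0, [], []⟩,
    ⟨0, 0, 0, 0, [], []⟩,
    ⟨39, 22, 1, 9, [(0, 22, 0), (2, 136, 0), (0, 371, 0)], []⟩,
    ⟨40, 22, 1, 9, [(0, 22, 0), (2, 137, 0), (0, 371, 0)], []⟩,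
    ⟨13, 433, 1, 21, [(0, 25, 0), (1, 45, 185), (0, 104, 0), (2, 23, 81), (0, 104, 0), (1, 22, 6), (0, 104, 0), (3, 12, 0), (2, 20, 64), (3, 21, 0), (0, 104, 0), (3, 18, 0), (1, 23, 156), (0, 104, 0), (2, 42, 7), (0, 104, 0), (1, 136, 139), (0, 104, 0)], []⟩,
    ⟨39, 15, 1, 9, [(0, 22, 0), (2, 140, 24), (0, 371, 0)], []⟩,
    ⟨0, 0, 0, 0, [], []⟩,
    ⟨0, 0, 0, 0, [], []⟩,
    ⟨41, 22, 1, 9, [(0, 22, 0), (2, 142, 0), (0, 371, 0)], []⟩,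
    ⟨42, 22, 1, 9, [(0, 22, 0), (2, 143, 0), (0, 371, 0)], []⟩,
    ⟨0, 0, 0, 0, [], []⟩,
    ⟨0, 0, 0, 0, [], []⟩,
    ⟨43, 0, 1, 0, [(2, 146, 0), (2, 138, 23)], []⟩,
    ⟨44, 0, 1, 0, [(2, 147, 0), (2, 139, 7)], []⟩,
    ⟨39, 0, 1, 9, [(0, 22, 0), (2, 148, 180), (0, 371, 0)], []⟩,
    ⟨40, 0, 1, 9, [(0, 22, 0), (2, 149, 2), (0, 371, 0)], []⟩,
    ⟨43, 22, 1, 9, [(0, 22, 0), (2, 146, 0), (0, 371, 0)], []⟩,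
    ⟨44, 22, 1, 9, [(0, 22, 0), (2, 147, 0), (0, 371, 0)], []⟩,
    ⟨27, 115, 1, 21, [(0, 25, 0), (1, 95, 90), (0, 104, 0), (3, 35, 0), (2, 29, 78), (0, 104, 0), (1, 19, 119), (3, 21, 0), (0, 104, 0), (3, 18, 0), (2, 25, 71), (0, 104, 0), (1, 43, 53), (0, 104, 0), (2, 141, 0), (0, 104, 0), (1, 150, 89), (0, 104, 0)], []⟩,
    ⟨43, 169, 1, 21, [(0, 25, 0), (1, 152, 19), (0, 104, 0), (2, 40, 11), (0, 104, 0), (1, 25, 48), (0, 104, 0), (2, 17, 168), (0, 104, 0), (3, 10, 0), (3, 11, 0), (1, 17, 180), (0, 104, 0), (2, 33, 183), (0, 104, 0), (1, 91, 143), (0, 104, 0)], []⟩,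
    ⟨0, 0, 0, 0, [], []⟩,
    ⟨0, 0, 0, 0, [], []⟩,
    ⟨45, 0, 1, 0, [(2, 156, 0), (2, 144, 23)], []⟩,
    ⟨46, 0, 1, 0, [(2, 157, 0), (2, 145, 7)], []⟩,
    ⟨41, 0, 1, 9, [(0, 22, 0), (2, 158, 180), (0, 371, 0)], []⟩,
    ⟨42, 0, 1, 9, [(0, 22, 0), (2, 159, 2), (0, 371, 0)], []⟩,
    ⟨45, 22, 1, 9, [(0, 22, 0), (2, 156, 0), (0, 371, 0)], []⟩,
    ⟨46, 22, 1, 9, [(0, 22, 0), (2, 157, 0), (0, 371, 0)], []⟩,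
    ⟨24, 65, 1, 21, [(0, 25, 0), (1, 81, 0), (0, 104, 0), (2, 24, 12), (0, 104, 0), (1, 29, 2), (0, 104, 0), (3, 35, 0), (2, 29, 99), (0, 104, 0), (1, 23, 88), (0, 104, 0), (2, 42, 73), (0, 104, 0), (1, 157, 58), (0, 104, 0)], []⟩,
    ⟨46, 14, 1, 9, [(0, 22, 0), (2, 164, 120), (0, 371, 0)], []⟩,
    ⟨0, 0, 0, 0, [], []⟩,
    ⟨0, 0, 0, 0, [], []⟩,
    ⟨47, 22, 1, 9, [(0, 22, 0), (2, 166, 0), (0, 371, 0)], []⟩,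
    ⟨48, 22, 1, 9, [(0, 22, 0), (2, 167, 0), (0, 371, 0)], []⟩,
    ⟨0, 0, 0, 0, [], []⟩,
    ⟨0, 0, 0, 0, [], []⟩,
    ⟨50, 0, 1, 0, [(2, 171, 0), (2, 168, 23)], []⟩,
    ⟨47, 0, 1, 9, [(0, 22, 0), (2, 172, 180), (0, 371, 0)], []⟩,
    ⟨49, 22, 1, 9, [(0, 22, 0), (2, 170, 0), (0, 371, 0)], []⟩,
    ⟨0, 0, 0, 0, [], []⟩,
    ⟨0, 0, 0, 0, [], []⟩,
    ⟨51, 0, 1, 0, [(2, 175, 0), (2, 169, 7)], []⟩,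
    ⟨52, 0, 1, 0, [(2, 176, 0), (2, 141, 152)], []⟩,
    ⟨39, 2, 1, 9, [(0, 22, 0), (2, 178, 190), (0, 371, 0)], []⟩,
    ⟨48, 0, 1, 9, [(0, 22, 0), (2, 177, 2), (0, 371, 0)], []⟩,
    ⟨51, 22, 1, 9, [(0, 22, 0), (2, 175, 0), (0, 371, 0)], []⟩,
    ⟨52, 22, 1, 9, [(0, 22, 0), (2, 176, 0), (0, 371, 0)], []⟩,
    ⟨15, 434, 1, 21, [(0, 25, 0), (1, 54, 186), (0, 104, 0), (2, 23, 164), (0, 104, 0), (1, 19, 100), (3, 21, 0), (0, 104, 0), (3, 18, 0), (3, 18, 0), (2, 25, 158), (0, 104, 0), (1, 40, 189), (0, 104, 0), (2, 138, 22), (0, 104, 0), (1, 179, 24), (0, 104, 0)], []⟩,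
    ⟨52, 89, 1, 21, [(0, 25, 0), (1, 182, 162), (0, 104, 0), (2, 43, 165), (0, 104, 0), (1, 25, 116), (0, 104, 0), (2, 17, 87), (0, 104, 0), (3, 10, 0), (3, 12, 0), (1, 17, 146), (0, 104, 0), (3, 18, 0), (3, 18, 0), (2, 25, 64), (0, 104, 0), (1, 48, 95), (0, 104, 0)], []⟩,
    ⟨0, 0, 0, 0, [], []⟩,
    ⟨0, 0, 0, 0, [], []⟩,
    ⟨53, 0, 1, 0, [(2, 185, 0), (2, 174, 7)], []⟩,
    ⟨49, 0, 1, 9, [(0, 22, 0), (2, 187, 2), (0, 371, 0)], []⟩,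
    ⟨53, 22, 1, 9, [(0, 22, 0), (2, 185, 0), (0, 371, 0)], []⟩,
    ⟨54, 22, 1, 9, [(0, 22, 0), (2, 186, 0), (0, 371, 0)], []⟩,
    ⟨0, 0, 0, 0, [], []⟩]

/-- Facts, block 3. -/
def fc3 : List Fc :=
  [⟨14, 8, 1, 56, 0, 0⟩, ⟨55, 22, 1, 14, 0, 854⟩, ⟨56, 22, 1, 14, 0, 1019⟩, ⟨56, 0, 1, 55, 1853, 1908⟩, ⟨14, 15, 1, 57, 0, 0⟩, ⟨57, 1392, 0, 57, 1853, 0⟩, ⟨15, 1, 1, 58, 0, 0⟩, ⟨57, 0, 1, 54, 0, 270⟩, ⟨54, 0, 1, 57, 0, 270⟩, ⟨57, 22, 1, 14, 0, 322⟩, ⟨58, 22, 1, 15, 0, 509⟩, ⟨26, 227, 1, 58, 1624, 925⟩, ⟨58, 434, 1, 26, 1624, 396⟩, ⟨15, 2, 1, 59, 0, 0⟩, ⟨15, 5, 1, 60, 0, 0⟩, ⟨59, 22, 1, 15, 0, 632⟩, ⟨60, 22, 1, 15, 0, 854⟩, ⟨15, 14, 1, 61, 0, 0⟩, ⟨15, 15, 1, 62, 0, 0⟩, ⟨61, 0, 1, 58, 0, 335⟩, ⟨62, 0, 1, 59, 0, 270⟩, ⟨58, 0, 1, 61, 0, 335⟩, ⟨59, 0, 1, 62, 0, 270⟩, ⟨61, 22, 1, 15,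 0, 1209⟩, ⟨62, 22, 1, 15, 0, 322⟩, ⟨15, 21, 1, 63, 0, 0⟩, ⟨15, 29, 1, 64, 0, 0⟩, ⟨63, 0, 1, 60, 0, 335⟩, ⟨64, 0, 1, 52, 893, 166⟩, ⟨52, 8, 1, 64, 927, 1658⟩, ⟨60, 0, 1, 63, 0, 335⟩, ⟨63, 22, 1, 15, 0, 1359⟩, ⟨64, 22, 1, 15, 0, 597⟩, ⟨64, 350, 1, 30, 1113, 1301⟩, ⟨16, 1, 1, 65, 0, 0⟩, ⟨16, 2, 1, 66, 0, 0⟩, ⟨65, 22, 1, 16, 0, 509⟩, ⟨66, 22, 1, 16, 0, 632⟩, ⟨21, 108, 1, 65, 1903, 355⟩, ⟨34, 667, 1, 65, 1073, 80⟩, ⟨65, 10, 1, 21, 1904, 1723⟩, ⟨65, 41, 1, 34, 1126, 1872⟩, ⟨16, 5, 1, 67, 0, 0⟩, ⟨16, 8, 1, 68, 0, 0⟩, ⟨67, 22, 1, 16, 0, 854⟩, ⟨68, 22, 1, 16, 0, 1019⟩, ⟨16, 14, 1, 69, 0, 0⟩, ⟨16, 15, 1, 70, 0, 0⟩, ⟨69, 0, 1, 65, 0, 335⟩, ⟨70, 0, 1, 66, 0, 270⟩, ⟨65, 0, 1, 69, 0, 335⟩, ⟨66, 0, 1, 70, 0, 270⟩, ⟨69, 22, 1, 16, 0, 1209⟩, ⟨70, 22, 1, 16, 0, 322⟩, ⟨29, 567, 1, 69, 1904, 355⟩,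 ⟨69, 10, 1, 29, 1903, 1780⟩, ⟨16, 21, 1, 71, 0, 0⟩, ⟨16, 29, 1, 72, 0, 0⟩, ⟨71, 0, 1, 67, 0, 335⟩, ⟨72, 0, 1, 68, 0, 270⟩, ⟨68, 0, 1, 72, 0, 270⟩, ⟨71, 22, 1, 16, 0, 1359⟩, ⟨72, 22, 1, 16, 0, 597⟩, ⟨72, 237, 0, 72, 1741, 0⟩]

/-- Justifications, block 3. -/
def pf3 : List Pf :=
  [⟨0, 0, 0, 0, [], []⟩,
    ⟨55, 22, 1, 9, [(0, 22, 0), (2, 191, 0), (0, 371, 0)], []⟩,
    ⟨56, 22, 1, 9, [(0, 22, 0), (2, 192, 0), (0, 371, 0)], []⟩,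
    ⟨56, 0, 1, 0, [(2, 192, 0), (3, 47, 0), (2, 193, 154)], []⟩,
    ⟨0, 0, 0, 0, [], []⟩,
    ⟨14, 99, 2, 0, [(1, 196, 17)], [(3, 47, 0), (1, 196, 0)]⟩,
    ⟨0, 0, 0, 0, [], []⟩,
    ⟨57, 0, 1, 0, [(2, 196, 0), (2, 190, 7)], []⟩,
    ⟨54, 0, 1, 9, [(0, 22, 0), (2, 199, 2), (0, 371, 0)], []⟩,
    ⟨57, 22, 1, 9, [(0, 22, 0), (2, 196, 0), (0, 371, 0)], []⟩,
    ⟨58, 22, 1, 9, [(0, 22, 0), (2, 198, 0), (0, 371, 0)], []⟩,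
    ⟨26, 227, 1, 21, [(0, 25, 0), (1, 90, 67), (0, 104, 0), (2, 27, 120), (0, 104, 0), (1, 39, 27), (0, 104, 0), (2, 109, 173), (0, 104, 0), (3, 111, 0), (1, 109, 18), (0, 104, 0), (2, 50, 136), (0, 104, 0), (1, 198, 41), (0, 104, 0)], []⟩,
    ⟨58, 434, 1, 21, [(0, 25, 0), (1, 202, 186), (0, 104, 0), (2, 48, 15), (0, 104, 0), (1, 25, 97), (0, 104, 0), (2, 34, 36), (0, 104, 0), (3, 36, 0), (1, 34, 21), (0, 104, 0), (2, 26, 190), (0, 104, 0), (1, 84, 117), (0, 104, 0)], []⟩,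
    ⟨0, 0, 0, 0, [], []⟩,
    ⟨0, 0, 0, 0, [], []⟩,
    ⟨59, 22, 1, 9, [(0, 22, 0), (2, 205, 0), (0, 371, 0)], []⟩,
    ⟨60, 22, 1, 9, [(0, 22, 0), (2, 206, 0), (0, 371, 0)], []⟩,
    ⟨0, 0, 0, 0, [], []⟩,
    ⟨0, 0, 0, 0, [], []⟩,
    ⟨61, 0, 1, 0, [(2, 209, 0), (2, 202, 23)], []⟩,
    ⟨62, 0, 1, 0, [(2, 210, 0), (2, 207, 7)], []⟩,
    ⟨58, 0, 1, 9, [(0, 22, 0), (2, 211, 180), (0, 371, 0)], []⟩,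
    ⟨59, 0, 1, 9, [(0, 22, 0), (2, 212, 2), (0, 371, 0)], []⟩,
    ⟨61, 22, 1, 9, [(0, 22, 0), (2, 209, 0), (0, 371, 0)], []⟩,
    ⟨62, 22, 1, 9, [(0, 22, 0), (2, 210, 0), (0, 371, 0)], []⟩,
    ⟨0, 0, 0, 0, [], []⟩,
    ⟨0, 0, 0, 0, [], []⟩,
    ⟨63, 0, 1, 0, [(2, 217, 0), (2, 208, 23)], []⟩,
    ⟨64, 0, 1, 0, [(2, 218, 0), (2, 184, 122)], []⟩,
    ⟨52, 8, 1, 9, [(0, 22, 0), (2, 220, 20), (0, 371, 0)], []⟩,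
    ⟨60, 0, 1, 9, [(0, 22, 0), (2, 219, 180), (0, 371, 0)], []⟩,
    ⟨63, 22, 1, 9, [(0, 22, 0), (2, 217, 0), (0, 371, 0)], []⟩,
    ⟨64, 22, 1, 9, [(0, 22, 0), (2, 218, 0), (0, 371, 0)], []⟩,
    ⟨64, 350, 1, 11, [(0, 104, 0), (2, 221, 152), (0, 104, 0), (2, 179, 7), (0, 104, 0), (2, 136, 43), (0, 104, 0), (2, 40, 7), (0, 104, 0), (2, 23, 43), (0, 104, 0), (2, 17, 7), (0, 104, 0), (3, 11, 0), (2, 20, 4), (3, 21, 0), (0, 104, 0), (2, 34, 45), (0, 104, 0), (3, 32, 0), (2, 104, 181), (0, 104, 0)], []⟩,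
    ⟨0, 0, 0, 0, [], []⟩,
    ⟨0, 0, 0, 0, [], []⟩,
    ⟨65, 22, 1, 9, [(0, 22, 0), (2, 226, 0), (0, 371, 0)], []⟩,
    ⟨66, 22, 1, 9, [(0, 22, 0), (2, 227, 0), (0, 371, 0)], []⟩,
    ⟨21, 108, 1, 21, [(0, 25, 0), (1, 72, 54), (0, 104, 0), (2, 27, 155), (0, 104, 0), (1, 43, 36), (0, 104, 0), (2, 141, 11), (0, 104, 0), (1, 138, 68), (0, 104, 0), (2, 51, 150), (0, 104, 0), (1, 226, 157), (0, 104, 0)], []⟩,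
    ⟨34, 667, 1, 21, [(0, 25, 0), (1, 131, 86), (0, 104, 0), (2, 134, 47), (0, 104, 0), (1, 98, 32), (0, 104, 0), (3, 92, 0), (2, 155, 108), (0, 104, 0), (1, 152, 115), (0, 104, 0), (2, 51, 7), (0, 104, 0), (1, 226, 43), (0, 104, 0)], []⟩,
    ⟨65, 10, 1, 21, [(0, 25, 0), (1, 228, 22), (0, 104, 0), (2, 49, 189), (0, 104, 0), (1, 25, 41), (0, 104, 0), (2, 17, 108), (0, 104, 0), (3, 11, 0), (1, 17, 184), (0, 104, 0), (3, 18, 0), (3, 18, 0), (2, 26, 113), (0, 104, 0), (1, 70, 178), (0, 104, 0)], []⟩,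
    ⟨65, 41, 1, 21, [(0, 25, 0), (1, 228, 163), (0, 104, 0), (2, 53, 182), (0, 104, 0), (1, 136, 187), (0, 104, 0), (2, 178, 172), (0, 104, 0), (1, 184, 189), (0, 104, 0), (2, 52, 162), (0, 104, 0), (1, 113, 23), (0, 104, 0)], []⟩,
    ⟨0, 0, 0, 0, [], []⟩,
    ⟨0, 0, 0, 0, [], []⟩,
    ⟨67, 22, 1, 9, [(0, 22, 0), (2, 234, 0), (0, 371, 0)], []⟩,
    ⟨68, 22, 1, 9, [(0, 22, 0), (2, 235, 0), (0, 371, 0)], []⟩,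
    ⟨0, 0, 0, 0, [], []⟩,
    ⟨0, 0, 0, 0, [], []⟩,
    ⟨69, 0, 1, 0, [(2, 238, 0), (2, 228, 23)], []⟩,
    ⟨70, 0, 1, 0, [(2, 239, 0), (2, 229, 7)], []⟩,
    ⟨65, 0, 1, 9, [(0, 22, 0), (2, 240, 180), (0, 371, 0)], []⟩,
    ⟨66, 0, 1, 9, [(0, 22, 0), (2, 241, 2), (0, 371, 0)], []⟩,
    ⟨69, 22, 1, 9, [(0, 22, 0), (2, 238, 0), (0, 371, 0)], []⟩,
    ⟨70, 22, 1, 9, [(0, 22, 0), (2, 239, 0), (0, 371, 0)], []⟩,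
    ⟨29, 567, 1, 11, [(0, 104, 0), (2, 99, 3), (0, 104, 0), (2, 31, 113), (0, 104, 0), (2, 17, 59), (0, 104, 0), (3, 11, 0), (2, 20, 70), (3, 21, 0), (0, 104, 0), (2, 25, 141), (0, 104, 0), (2, 41, 6), (0, 104, 0), (2, 115, 52), (0, 104, 0), (2, 233, 182), (0, 104, 0), (2, 240, 156), (0, 104, 0)], []⟩,
    ⟨69, 10, 1, 11, [(0, 104, 0), (2, 242, 43), (0, 104, 0), (2, 231, 0), (0, 104, 0), (2, 113, 155), (0, 104, 0), (2, 39, 68), (0, 104, 0), (2, 23, 164), (0, 104, 0), (2, 17, 58), (0, 104, 0), (3, 11, 0), (3, 11, 0), (2, 20, 155), (3, 21, 0), (0, 104, 0), (2, 34, 97), (0, 104, 0), (2, 103, 123), (0, 104, 0)], []⟩,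
    ⟨0, 0, 0, 0, [], []⟩,
    ⟨0, 0, 0, 0, [], []⟩,
    ⟨71, 0, 1, 0, [(2, 248, 0), (2, 236, 23)], []⟩,
    ⟨72, 0, 1, 0, [(2, 249, 0), (2, 237, 7)], []⟩,
    ⟨68, 0, 1, 9, [(0, 22, 0), (2, 251, 2), (0, 371, 0)], []⟩,
    ⟨71, 22, 1, 9, [(0, 22, 0), (2, 248, 0), (0, 371, 0)], []⟩,
    ⟨72, 22, 1, 9, [(0, 22, 0), (2, 249, 0), (0, 371, 0)], []⟩,
    ⟨16, 109, 2, 21, [(0, 25, 0), (1, 55, 21), (0, 104, 0), (2, 28, 183), (0, 104, 0), (1, 75, 182), (0, 104, 0), (2, 165, 72), (0, 104, 0), (1, 163, 126), (0, 104, 0), (2, 51, 114), (0, 104, 0), (1, 249, 133), (0, 104, 0)], [(1, 249, 50)]⟩]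

/-- Facts, block 4. -/
def fc4 : List Fc :=
  [⟨17, 2, 1, 74, 0, 0⟩, ⟨74, 22, 1, 17, 0, 632⟩, ⟨20, 268, 1, 74, 724, 62⟩, ⟨74, 452, 1, 20, 674, 1749⟩, ⟨17, 14, 1, 77, 0, 0⟩, ⟨17, 15, 1, 78, 0, 0⟩, ⟨78, 0, 1, 74, 0, 270⟩, ⟨74, 0, 1, 78, 0, 270⟩, ⟨77, 22, 1, 17, 0, 1209⟩, ⟨78, 22, 1, 17, 0, 322⟩, ⟨22, 74, 1, 78, 1113, 174⟩, ⟨78, 218, 1, 22, 940, 682⟩, ⟨17, 21, 1, 79, 0, 0⟩, ⟨17, 29, 1, 80, 0, 0⟩, ⟨79, 22, 1, 17, 0, 1359⟩, ⟨80, 22, 1, 17, 0, 597⟩, ⟨18, 1, 1, 81, 0, 0⟩, ⟨18, 2, 1, 82, 0, 0⟩, ⟨81, 22, 1, 18, 0, 509⟩, ⟨82, 22, 1, 18, 0, 632⟩, ⟨81, 0, 1, 82, 1911, 1907⟩, ⟨18, 5, 1, 83, 0, 0⟩, ⟨18, 21, 1, 84, 0, 0⟩, ⟨19, 1, 1, 85, 0, 0⟩, ⟨19, 8, 1, 86, 0, 0⟩, ⟨86, 3, 0, 86, 13, 0⟩, ⟨86, 22, 1, 19, 0, 1019⟩, ⟨19, 14, 1, 87, 0, 0⟩, ⟨19, 29, 1, 88, 0, 0⟩, ⟨87, 22, 1, 19, 0, 1209⟩, ⟨20,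 1, 1, 89, 0, 0⟩, ⟨20, 2, 1, 90, 0, 0⟩, ⟨89, 22, 1, 20, 0, 509⟩, ⟨90, 22, 1, 20, 0, 632⟩, ⟨89, 693, 0, 89, 114, 0⟩, ⟨20, 8, 1, 91, 0, 0⟩, ⟨20, 14, 1, 92, 0, 0⟩, ⟨92, 0, 1, 89, 0, 335⟩, ⟨89, 0, 1, 92, 0, 335⟩, ⟨91, 22, 1, 20, 0, 1019⟩, ⟨92, 22, 1, 20, 0, 1209⟩, ⟨20, 15, 1, 93, 0, 0⟩, ⟨20, 21, 1, 94, 0, 0⟩, ⟨94, 0, 1, 74, 724, 929⟩, ⟨74, 15, 1, 94, 674, 172⟩, ⟨93, 22, 1, 20, 0, 322⟩, ⟨29, 696, 1, 94, 1088, 1474⟩, ⟨94, 546, 1, 69, 1126, 466⟩, ⟨94, 1239, 1, 29, 1161, 1109⟩, ⟨20, 29, 1, 95, 0, 0⟩, ⟨21, 1, 1, 96, 0, 0⟩, ⟨95, 0, 1, 91, 0, 270⟩, ⟨91, 0, 1, 95, 0, 270⟩, ⟨95, 22, 1, 20, 0, 597⟩, ⟨21, 5, 1, 97, 0, 0⟩, ⟨21, 8, 1, 98, 0, 0⟩, ⟨97, 22, 1, 21, 0, 854⟩, ⟨21, 14, 1, 99, 0, 0⟩, ⟨21, 21, 1, 100, 0, 0⟩, ⟨99, 22, 1, 21, 0, 1209⟩, ⟨100, 22, 1, 21, 0, 1359⟩, ⟨21, 29, 1, 101, 0, 0⟩,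 ⟨22, 1, 1, 102, 0, 0⟩, ⟨102, 22, 1, 22, 0, 509⟩]

/-- Justifications, block 4. -/
def pf4 : List Pf :=
  [⟨0, 0, 0, 0, [], []⟩,
    ⟨74, 22, 1, 9, [(0, 22, 0), (2, 256, 0), (0, 371, 0)], []⟩,
    ⟨20, 268, 1, 11, [(0, 104, 0), (2, 66, 147), (0, 104, 0), (2, 27, 143), (0, 104, 0), (2, 41, 170), (0, 104, 0), (2, 115, 74), (0, 104, 0), (2, 116, 168), (0, 104, 0), (2, 70, 135), (0, 104, 0), (2, 27, 50), (0, 104, 0), (2, 62, 102), (0, 104, 0), (2, 257, 27), (0, 104, 0)], []⟩,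
    ⟨74, 452, 1, 11, [(0, 104, 0), (2, 256, 74), (0, 104, 0), (2, 56, 96), (0, 104, 0), (2, 28, 76), (0, 104, 0), (2, 72, 65), (0, 104, 0), (2, 117, 27), (0, 104, 0), (2, 113, 50), (0, 104, 0), (2, 39, 131), (0, 104, 0), (2, 28, 37), (0, 104, 0), (2, 68, 105), (0, 104, 0)], []⟩,
    ⟨0, 0, 0, 0, [], []⟩,
    ⟨0, 0, 0, 0, [], []⟩,
    ⟨78, 0, 1, 0, [(2, 261, 0), (2, 257, 7)], []⟩,
    ⟨74, 0, 1, 9, [(0, 22, 0), (2, 262, 2), (0, 371, 0)], []⟩,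
    ⟨77, 22, 1, 9, [(0, 22, 0), (2, 260, 0), (0, 371, 0)], []⟩,
    ⟨78, 22, 1, 9, [(0, 22, 0), (2, 261, 0), (0, 371, 0)], []⟩,
    ⟨22, 74, 1, 21, [(0, 25, 0), (1, 73, 49), (0, 104, 0), (2, 27, 154), (0, 104, 0), (1, 40, 108), (0, 104, 0), (2, 138, 41), (0, 104, 0), (1, 141, 189), (0, 104, 0), (2, 58, 101), (0, 104, 0), (1, 261, 100), (0, 104, 0)], []⟩,
    ⟨78, 218, 1, 21, [(0, 25, 0), (1, 265, 149), (0, 104, 0), (2, 56, 96), (0, 104, 0), (1, 25, 80), (0, 104, 0), (2, 17, 92), (0, 104, 0), (3, 12, 0), (1, 17, 53), (0, 104, 0), (3, 18, 0), (3, 18, 0), (2, 26, 28), (0, 104, 0), (1, 71, 76), (0, 104, 0)], []⟩,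
    ⟨0, 0, 0, 0, [], []⟩,
    ⟨0, 0, 0, 0, [], []⟩,
    ⟨79, 22, 1, 9, [(0, 22, 0), (2, 268, 0), (0, 371, 0)], []⟩,
    ⟨80, 22, 1, 9, [(0, 22, 0), (2, 269, 0), (0, 371, 0)], []⟩,
    ⟨0, 0, 0, 0, [], []⟩,
    ⟨0, 0, 0, 0, [], []⟩,
    ⟨81, 22, 1, 9, [(0, 22, 0), (2, 272, 0), (0, 371, 0)], []⟩,
    ⟨82, 22, 1, 9, [(0, 22, 0), (2, 273, 0), (0, 371, 0)], []⟩,
    ⟨81, 0, 1, 0, [(2, 272, 0), (3, 64, 0), (2, 275, 65)], []⟩,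
    ⟨0, 0, 0, 0, [], []⟩,
    ⟨0, 0, 0, 0, [], []⟩,
    ⟨0, 0, 0, 0, [], []⟩,
    ⟨0, 0, 0, 0, [], []⟩,
    ⟨19, 23, 2, 0, [(1, 280, 1)], [(3, 69, 0), (1, 280, 0)]⟩,
    ⟨86, 22, 1, 9, [(0, 22, 0), (2, 280, 0), (0, 371, 0)], []⟩,
    ⟨0, 0, 0, 0, [], []⟩,
    ⟨0, 0, 0, 0, [], []⟩,
    ⟨87, 22, 1, 9, [(0, 22, 0), (2, 283, 0), (0, 371, 0)], []⟩,
    ⟨0, 0, 0, 0, [], []⟩,
    ⟨0, 0, 0, 0, [], []⟩,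
    ⟨89, 22, 1, 9, [(0, 22, 0), (2, 286, 0), (0, 371, 0)], []⟩,
    ⟨90, 22, 1, 9, [(0, 22, 0), (2, 287, 0), (0, 371, 0)], []⟩,
    ⟨20, 1102, 2, 21, [(0, 25, 0), (1, 68, 150), (0, 104, 0), (2, 27, 19), (0, 104, 0), (1, 40, 179), (0, 104, 0), (2, 163, 52), (0, 104, 0), (1, 165, 149), (0, 104, 0), (2, 79, 150), (0, 104, 0), (1, 286, 157), (0, 104, 0)], [(1, 286, 183)]⟩,
    ⟨0, 0, 0, 0, [], []⟩,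
    ⟨0, 0, 0, 0, [], []⟩,
    ⟨92, 0, 1, 0, [(2, 292, 0), (2, 288, 23)], []⟩,
    ⟨89, 0, 1, 9, [(0, 22, 0), (2, 293, 180), (0, 371, 0)], []⟩,
    ⟨91, 22, 1, 9, [(0, 22, 0), (2, 291, 0), (0, 371, 0)], []⟩,
    ⟨92, 22, 1, 9, [(0, 22, 0), (2, 292, 0), (0, 371, 0)], []⟩,
    ⟨0, 0, 0, 0, [], []⟩,
    ⟨0, 0, 0, 0, [], []⟩,
    ⟨94, 0, 1, 0, [(2, 298, 0), (2, 259, 115)], []⟩,
    ⟨74, 15, 1, 9, [(0, 22, 0), (2, 299, 43), (0, 371, 0)], []⟩,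
    ⟨93, 22, 1, 9, [(0, 22, 0), (2, 297, 0), (0, 371, 0)], []⟩,
    ⟨29, 696, 1, 11, [(0, 104, 0), (2, 99, 149), (0, 104, 0), (2, 37, 119), (0, 104, 0), (3, 30, 0), (2, 95, 28), (0, 104, 0), (2, 155, 150), (0, 104, 0), (2, 150, 154), (0, 104, 0), (2, 140, 0), (0, 104, 0), (2, 58, 72), (0, 104, 0), (2, 257, 51), (0, 104, 0), (2, 299, 88), (0, 104, 0)], []⟩,
    ⟨94, 546, 1, 11, [(0, 104, 0), (2, 300, 69), (0, 104, 0), (2, 256, 100), (0, 104, 0), (2, 56, 135), (0, 104, 0), (2, 23, 65), (0, 104, 0), (2, 17, 60), (0, 104, 0), (3, 10, 0), (3, 12, 0), (2, 20, 179), (3, 21, 0), (0, 104, 0), (3, 18, 0), (2, 25, 158), (0, 104, 0), (2, 55, 108), (0, 104, 0), (2, 244, 158), (0, 104, 0)], []⟩,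
    ⟨94, 1239, 1, 11, [(0, 104, 0), (2, 300, 122), (0, 104, 0), (2, 256, 97), (0, 104, 0), (2, 60, 161), (0, 104, 0), (2, 141, 24), (0, 104, 0), (2, 148, 157), (0, 104, 0), (2, 154, 168), (0, 104, 0), (2, 91, 66), (0, 104, 0), (3, 35, 0), (2, 38, 191), (0, 104, 0), (3, 32, 0), (3, 32, 0), (2, 103, 56), (0, 104, 0)], []⟩,
    ⟨0, 0, 0, 0, [], []⟩,
    ⟨0, 0, 0, 0, [], []⟩,
    ⟨95, 0, 1, 0, [(2, 305, 0), (2, 295, 7)], []⟩,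
    ⟨91, 0, 1, 9, [(0, 22, 0), (2, 307, 2), (0, 371, 0)], []⟩,
    ⟨95, 22, 1, 9, [(0, 22, 0), (2, 305, 0), (0, 371, 0)], []⟩,
    ⟨0, 0, 0, 0, [], []⟩,
    ⟨0, 0, 0, 0, [], []⟩,
    ⟨97, 22, 1, 9, [(0, 22, 0), (2, 310, 0), (0, 371, 0)], []⟩,
    ⟨0, 0, 0, 0, [], []⟩,
    ⟨0, 0, 0, 0, [], []⟩,
    ⟨99, 22, 1, 9, [(0, 22, 0), (2, 313, 0), (0, 371, 0)], []⟩,
    ⟨100, 22, 1, 9, [(0, 22, 0), (2, 314, 0), (0, 371, 0)], []⟩,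
    ⟨0, 0, 0, 0, [], []⟩,
    ⟨0, 0, 0, 0, [], []⟩,
    ⟨102, 22, 1, 9, [(0, 22, 0), (2, 318, 0), (0, 371, 0)], []⟩]

/-- Facts, block 5. -/
def fc5 : List Fc :=
  [⟨102, 1096, 0, 102, 1320, 0⟩, ⟨22, 2, 1, 103, 0, 0⟩, ⟨22, 5, 1, 104, 0, 0⟩, ⟨103, 22, 1, 22, 0, 632⟩, ⟨104, 22, 1, 22, 0, 854⟩, ⟨22, 8, 1, 105, 0, 0⟩, ⟨22, 14, 1, 106, 0, 0⟩, ⟨105, 0, 1, 78, 1113, 1298⟩, ⟨106, 0, 1, 102, 0, 335⟩, ⟨78, 15, 1, 105, 940, 1215⟩, ⟨102, 0, 1, 106, 0, 335⟩, ⟨105, 22, 1, 22, 0, 1019⟩, ⟨106, 22, 1, 22, 0, 1209⟩, ⟨28, 161, 1, 105, 16, 1011⟩, ⟨38, 227, 1, 105, 4, 1178⟩, ⟨105, 139, 1, 38, 4, 474⟩, ⟨22, 15, 1, 107, 0, 0⟩, ⟨22, 21, 1, 108, 0, 0⟩, ⟨107, 0, 1, 103, 0, 270⟩, ⟨108, 0, 1, 104, 0, 335⟩, ⟨103, 0, 1, 107, 0, 270⟩, ⟨107, 22, 1, 22, 0, 322⟩, ⟨108, 22, 1, 22, 0, 1359⟩, ⟨23, 1, 1, 109, 0,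 0⟩, ⟨23, 8, 1, 110, 0, 0⟩, ⟨109, 22, 1, 23, 0, 509⟩, ⟨110, 22, 1, 23, 0, 1019⟩, ⟨23, 14, 1, 111, 0, 0⟩, ⟨23, 29, 1, 112, 0, 0⟩, ⟨112, 0, 1, 110, 0, 270⟩, ⟨110, 0, 1, 112, 0, 270⟩, ⟨111, 22, 1, 23, 0, 1209⟩, ⟨24, 2, 1, 113, 0, 0⟩, ⟨24, 5, 1, 114, 0, 0⟩, ⟨113, 22, 1, 24, 0, 632⟩, ⟨114, 22, 1, 24, 0, 854⟩, ⟨25, 433, 1, 114, 658, 1480⟩, ⟨114, 426, 1, 25, 754, 902⟩, ⟨24, 8, 1, 115, 0, 0⟩, ⟨24, 14, 1, 116, 0, 0⟩, ⟨116, 0, 1, 46, 1806, 1355⟩, ⟨46, 1, 1, 116, 1806, 1916⟩, ⟨115, 22, 1, 24, 0, 1019⟩, ⟨116, 22, 1, 24, 0, 1209⟩, ⟨24, 15, 1, 117, 0, 0⟩, ⟨24, 21, 1, 118, 0, 0⟩, ⟨117, 0, 1, 113, 0, 270⟩, ⟨118, 0, 1, 114, 0, 335⟩, ⟨113, 0, 1, 117, 0, 270⟩, ⟨114, 0, 1, 118, 0, 335⟩, ⟨117, 22, 1, 24, 0, 322⟩, ⟨118, 22, 1, 24, 0, 1359⟩, ⟨118, 433, 1, 27, 338, 368⟩, ⟨24, 29, 1, 119, 0, 0⟩, ⟨25,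 1, 1, 120, 0, 0⟩, ⟨119, 0, 1, 115, 0, 270⟩, ⟨115, 0, 1, 119, 0, 270⟩, ⟨119, 22, 1, 24, 0, 597⟩, ⟨120, 22, 1, 25, 0, 509⟩, ⟨25, 2, 1, 121, 0, 0⟩, ⟨25, 8, 1, 122, 0, 0⟩, ⟨121, 22, 1, 25, 0, 632⟩, ⟨122, 22, 1, 25, 0, 1019⟩, ⟨25, 14, 1, 123, 0, 0⟩]

/-- Justifications, block 5. -/
def pf5 : List Pf :=
  [⟨22, 642, 2, 11, [(0, 104, 0), (2, 71, 145), (0, 104, 0), (2, 27, 57), (0, 104, 0), (2, 41, 64), (0, 104, 0), (2, 109, 83), (0, 104, 0), (3, 111, 0), (2, 107, 41), (0, 104, 0), (2, 39, 101), (0, 104, 0), (2, 28, 165), (0, 104, 0), (2, 73, 174), (0, 104, 0), (2, 319, 136), (0, 104, 0)], [(1, 318, 10)]⟩,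
    ⟨0, 0, 0, 0, [], []⟩,
    ⟨0, 0, 0, 0, [], []⟩,
    ⟨103, 22, 1, 9, [(0, 22, 0), (2, 321, 0), (0, 371, 0)], []⟩,
    ⟨104, 22, 1, 9, [(0, 22, 0), (2, 322, 0), (0, 371, 0)], []⟩,
    ⟨0, 0, 0, 0, [], []⟩,
    ⟨0, 0, 0, 0, [], []⟩,
    ⟨105, 0, 1, 0, [(2, 325, 0), (2, 267, 106)], []⟩,
    ⟨106, 0, 1, 0, [(2, 326, 0), (2, 319, 23)], []⟩,
    ⟨78, 15, 1, 9, [(0, 22, 0), (2, 327, 59), (0, 371, 0)], []⟩,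
    ⟨102, 0, 1, 9, [(0, 22, 0), (2, 328, 180), (0, 371, 0)], []⟩,
    ⟨105, 22, 1, 9, [(0, 22, 0), (2, 325, 0), (0, 371, 0)], []⟩,
    ⟨106, 22, 1, 9, [(0, 22, 0), (2, 326, 0), (0, 371, 0)], []⟩,
    ⟨28, 161, 1, 11, [(0, 104, 0), (2, 93, 181), (0, 104, 0), (3, 35, 0), (2, 38, 68), (0, 104, 0), (3, 32, 0), (2, 103, 59), (0, 104, 0), (2, 247, 24), (0, 104, 0), (2, 238, 12), (0, 104, 0), (2, 49, 188), (0, 104, 0), (2, 28, 135), (0, 104, 0), (2, 73, 62), (0, 104, 0), (2, 331, 139), (0, 104, 0)], []⟩,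
    ⟨38, 227, 1, 11, [(0, 104, 0), (2, 131, 174), (0, 104, 0), (2, 233, 24), (0, 104, 0), (2, 226, 183), (0, 104, 0), (2, 53, 47), (0, 104, 0), (2, 138, 48), (0, 104, 0), (2, 140, 182), (0, 104, 0), (2, 58, 10), (0, 104, 0), (2, 265, 101), (0, 104, 0), (2, 327, 131), (0, 104, 0)], []⟩,
    ⟨105, 139, 1, 11, [(0, 104, 0), (2, 329, 98), (0, 104, 0), (2, 263, 91), (0, 104, 0), (2, 299, 106), (0, 104, 0), (2, 302, 24), (0, 104, 0), (2, 106, 49), (0, 104, 0), (2, 225, 168), (0, 104, 0), (2, 218, 103), (0, 104, 0), (2, 52, 162), (0, 104, 0), (2, 133, 146), (0, 104, 0)], []⟩,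
    ⟨0, 0, 0, 0, [], []⟩,
    ⟨0, 0, 0, 0, [], []⟩,
    ⟨107, 0, 1, 0, [(2, 336, 0), (2, 323, 7)], []⟩,
    ⟨108, 0, 1, 0, [(2, 337, 0), (2, 324, 23)], []⟩,
    ⟨103, 0, 1, 9, [(0, 22, 0), (2, 338, 2), (0, 371, 0)], []⟩,
    ⟨107, 22, 1, 9, [(0, 22, 0), (2, 336, 0), (0, 371, 0)], []⟩,
    ⟨108, 22, 1, 9, [(0, 22, 0), (2, 337, 0), (0, 371, 0)], []⟩,
    ⟨0, 0, 0, 0, [], []⟩,
    ⟨0, 0, 0, 0, [], []⟩,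
    ⟨109, 22, 1, 9, [(0, 22, 0), (2, 343, 0), (0, 371, 0)], []⟩,
    ⟨110, 22, 1, 9, [(0, 22, 0), (2, 344, 0), (0, 371, 0)], []⟩,
    ⟨0, 0, 0, 0, [], []⟩,
    ⟨0, 0, 0, 0, [], []⟩,
    ⟨112, 0, 1, 0, [(2, 348, 0), (2, 346, 7)], []⟩,
    ⟨110, 0, 1, 9, [(0, 22, 0), (2, 349, 2), (0, 371, 0)], []⟩,
    ⟨111, 22, 1, 9, [(0, 22, 0), (2, 347, 0), (0, 371, 0)], []⟩,
    ⟨0, 0, 0, 0, [], []⟩,
    ⟨0, 0, 0, 0, [], []⟩,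
    ⟨113, 22, 1, 9, [(0, 22, 0), (2, 352, 0), (0, 371, 0)], []⟩,
    ⟨114, 22, 1, 9, [(0, 22, 0), (2, 353, 0), (0, 371, 0)], []⟩,
    ⟨25, 433, 1, 21, [(0, 25, 0), (1, 89, 185), (0, 104, 0), (2, 27, 84), (0, 104, 0), (1, 56, 31), (0, 104, 0), (2, 257, 101), (0, 104, 0), (1, 259, 47), (0, 104, 0), (2, 77, 55), (0, 104, 0), (1, 353, 29), (0, 104, 0)], []⟩,
    ⟨114, 426, 1, 21, [(0, 25, 0), (1, 355, 175), (0, 104, 0), (2, 75, 61), (0, 104, 0), (1, 26, 144), (0, 104, 0), (2, 17, 110), (0, 104, 0), (3, 12, 0), (1, 17, 107), (0, 104, 0), (3, 18, 0), (2, 26, 58), (0, 104, 0), (1, 83, 16), (0, 104, 0)], []⟩,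
    ⟨0, 0, 0, 0, [], []⟩,
    ⟨0, 0, 0, 0, [], []⟩,
    ⟨116, 0, 1, 0, [(2, 359, 0), (2, 165, 25)], []⟩,
    ⟨46, 1, 1, 9, [(0, 22, 0), (2, 360, 79), (0, 371, 0)], []⟩,
    ⟨115, 22, 1, 9, [(0, 22, 0), (2, 358, 0), (0, 371, 0)], []⟩,
    ⟨116, 22, 1, 9, [(0, 22, 0), (2, 359, 0), (0, 371, 0)], []⟩,
    ⟨0, 0, 0, 0, [], []⟩,
    ⟨0, 0, 0, 0, [], []⟩,
    ⟨117, 0, 1, 0, [(2, 364, 0), (2, 354, 7)], []⟩,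
    ⟨118, 0, 1, 0, [(2, 365, 0), (2, 355, 23)], []⟩,
    ⟨113, 0, 1, 9, [(0, 22, 0), (2, 366, 2), (0, 371, 0)], []⟩,
    ⟨114, 0, 1, 9, [(0, 22, 0), (2, 367, 180), (0, 371, 0)], []⟩,
    ⟨117, 22, 1, 9, [(0, 22, 0), (2, 364, 0), (0, 371, 0)], []⟩,
    ⟨118, 22, 1, 9, [(0, 22, 0), (2, 365, 0), (0, 371, 0)], []⟩,
    ⟨118, 433, 1, 11, [(0, 104, 0), (2, 369, 72), (0, 104, 0), (2, 356, 47), (0, 104, 0), (2, 83, 159), (0, 104, 0), (2, 27, 155), (0, 104, 0), (2, 62, 37), (0, 104, 0), (2, 265, 15), (0, 104, 0), (2, 327, 115), (0, 104, 0), (2, 333, 189), (0, 104, 0), (2, 97, 1), (0, 104, 0)], []⟩,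
    ⟨0, 0, 0, 0, [], []⟩,
    ⟨0, 0, 0, 0, [], []⟩,
    ⟨119, 0, 1, 0, [(2, 373, 0), (2, 362, 7)], []⟩,
    ⟨115, 0, 1, 9, [(0, 22, 0), (2, 375, 2), (0, 371, 0)], []⟩,
    ⟨119, 22, 1, 9, [(0, 22, 0), (2, 373, 0), (0, 371, 0)], []⟩,
    ⟨120, 22, 1, 9, [(0, 22, 0), (2, 374, 0), (0, 371, 0)], []⟩,
    ⟨0, 0, 0, 0, [], []⟩,
    ⟨0, 0, 0, 0, [], []⟩,
    ⟨121, 22, 1, 9, [(0, 22, 0), (2, 379, 0), (0, 371, 0)], []⟩,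
    ⟨122, 22, 1, 9, [(0, 22, 0), (2, 380, 0), (0, 371, 0)], []⟩,
    ⟨0, 0, 0, 0, [], []⟩]

/-- Facts, block 6. -/
def fc6 : List Fc :=
  [⟨25, 15, 1, 124, 0, 0⟩, ⟨123, 0, 1, 120, 0, 335⟩, ⟨124, 0, 1, 121, 0, 270⟩, ⟨120, 0, 1, 123, 0, 335⟩, ⟨121, 0, 1, 124, 0, 270⟩, ⟨123, 22, 1, 25, 0, 1209⟩, ⟨124, 22, 1, 25, 0, 322⟩, ⟨25, 21, 1, 125, 0, 0⟩, ⟨25, 29, 1, 126, 0, 0⟩, ⟨125, 0, 1, 114, 658, 883⟩, ⟨126, 0, 1, 122, 0, 270⟩, ⟨114, 15, 1, 125, 754, 224⟩, ⟨122, 0, 1, 126, 0, 270⟩, ⟨125, 22, 1, 25, 0, 1359⟩, ⟨126, 22, 1, 25, 0, 597⟩, ⟨26, 642, 1, 125, 259, 1221⟩, ⟨125, 35, 1, 26, 369, 472⟩, ⟨26, 2, 1, 127, 0, 0⟩, ⟨26, 5, 1, 128, 0, 0⟩, ⟨127, 22, 1, 26, 0, 632⟩, ⟨128, 22, 1, 26, 0, 854⟩, ⟨26, 14, 1, 129, 0, 0⟩, ⟨26, 15, 1, 130, 0, 0⟩, ⟨129, 0, 1, 125, 259, 647⟩, ⟨130, 0, 1, 127, 0, 270⟩,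 ⟨125, 8, 1, 129, 369, 511⟩, ⟨127, 0, 1, 130, 0, 270⟩, ⟨129, 22, 1, 26, 0, 1209⟩, ⟨130, 22, 1, 26, 0, 322⟩, ⟨129, 237, 1, 64, 4, 890⟩, ⟨129, 490, 1, 30, 893, 1655⟩, ⟨26, 21, 1, 131, 0, 0⟩, ⟨26, 29, 1, 132, 0, 0⟩, ⟨131, 0, 1, 128, 0, 335⟩, ⟨132, 0, 1, 58, 1624, 298⟩, ⟨128, 0, 1, 131, 0, 335⟩, ⟨131, 22, 1, 26, 0, 1359⟩, ⟨27, 1, 1, 133, 0, 0⟩, ⟨27, 14, 1, 134, 0, 0⟩, ⟨133, 22, 1, 27, 0, 509⟩, ⟨134, 22, 1, 27, 0, 1209⟩, ⟨35, 267, 1, 134, 1320, 1548⟩, ⟨134, 355, 1, 35, 1320, 439⟩, ⟨132, 1321, 1, 133, 1146, 1812⟩, ⟨133, 169, 1, 132, 1146, 47⟩, ⟨28, 5, 1, 135, 0, 0⟩, ⟨28, 8, 1, 136, 0, 0⟩, ⟨135, 22, 1, 28, 0, 854⟩, ⟨136, 22, 1, 28, 0, 1019⟩, ⟨61, 434, 1, 135, 852, 1757⟩, ⟨106, 486, 1, 136, 1320, 372⟩, ⟨135, 161, 1, 61, 837, 128⟩, ⟨136, 443, 1, 106, 1320, 769⟩, ⟨135, 347, 1, 136, 114,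 125⟩, ⟨29, 2, 1, 137, 0, 0⟩, ⟨29, 8, 1, 138, 0, 0⟩, ⟨137, 22, 1, 29, 0, 632⟩, ⟨138, 22, 1, 29, 0, 1019⟩, ⟨42, 682, 1, 137, 1806, 220⟩, ⟨137, 25, 1, 42, 1806, 1578⟩, ⟨92, 848, 1, 138, 408, 243⟩, ⟨137, 1015, 1, 138, 1320, 1824⟩, ⟨138, 446, 1, 92, 245, 632⟩, ⟨138, 1005, 1, 137, 1320, 813⟩]

/-- Justifications, block 6. -/
def pf6 : List Pf :=
  [⟨0, 0, 0, 0, [], []⟩,
    ⟨123, 0, 1, 0, [(2, 383, 0), (2, 378, 23)], []⟩,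
    ⟨124, 0, 1, 0, [(2, 384, 0), (2, 381, 7)], []⟩,
    ⟨120, 0, 1, 9, [(0, 22, 0), (2, 385, 180), (0, 371, 0)], []⟩,
    ⟨121, 0, 1, 9, [(0, 22, 0), (2, 386, 2), (0, 371, 0)], []⟩,
    ⟨123, 22, 1, 9, [(0, 22, 0), (2, 383, 0), (0, 371, 0)], []⟩,
    ⟨124, 22, 1, 9, [(0, 22, 0), (2, 384, 0), (0, 371, 0)], []⟩,
    ⟨0, 0, 0, 0, [], []⟩,
    ⟨0, 0, 0, 0, [], []⟩,
    ⟨125, 0, 1, 0, [(2, 391, 0), (2, 357, 187)], []⟩,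
    ⟨126, 0, 1, 0, [(2, 392, 0), (2, 382, 7)], []⟩,
    ⟨114, 15, 1, 9, [(0, 22, 0), (2, 393, 117), (0, 371, 0)], []⟩,
    ⟨122, 0, 1, 9, [(0, 22, 0), (2, 394, 2), (0, 371, 0)], []⟩,
    ⟨125, 22, 1, 9, [(0, 22, 0), (2, 391, 0), (0, 371, 0)], []⟩,
    ⟨126, 22, 1, 9, [(0, 22, 0), (2, 392, 0), (0, 371, 0)], []⟩,
    ⟨26, 642, 1, 11, [(0, 104, 0), (2, 84, 145), (0, 104, 0), (2, 24, 39), (0, 104, 0), (2, 17, 160), (0, 104, 0), (3, 10, 0), (3, 11, 0), (3, 11, 0), (2, 20, 133), (3, 21, 0), (0, 104, 0), (2, 33, 135), (0, 104, 0), (3, 30, 0), (2, 95, 46), (0, 104, 0), (3, 92, 0), (2, 372, 150), (0, 104, 0), (2, 369, 27), (0, 104, 0), (2, 393, 173), (0, 104, 0)], []⟩,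
    ⟨125, 35, 1, 11, [(0, 104, 0), (2, 391, 172), (0, 104, 0), (2, 83, 16), (0, 104, 0), (2, 27, 113), (0, 104, 0), (2, 45, 166), (0, 104, 0), (2, 141, 108), (0, 104, 0), (2, 136, 154), (0, 104, 0), (2, 40, 47), (0, 104, 0), (2, 28, 62), (0, 104, 0), (2, 90, 104), (0, 104, 0)], []⟩,
    ⟨0, 0, 0, 0, [], []⟩,
    ⟨0, 0, 0, 0, [], []⟩,
    ⟨127, 22, 1, 9, [(0, 22, 0), (2, 401, 0), (0, 371, 0)], []⟩,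
    ⟨128, 22, 1, 9, [(0, 22, 0), (2, 402, 0), (0, 371, 0)], []⟩,
    ⟨0, 0, 0, 0, [], []⟩,
    ⟨0, 0, 0, 0, [], []⟩,
    ⟨129, 0, 1, 0, [(2, 405, 0), (2, 400, 37)], []⟩,
    ⟨130, 0, 1, 0, [(2, 406, 0), (2, 403, 7)], []⟩,
    ⟨125, 8, 1, 9, [(0, 22, 0), (2, 407, 144), (0, 371, 0)], []⟩,
    ⟨127, 0, 1, 9, [(0, 22, 0), (2, 408, 2), (0, 371, 0)], []⟩,
    ⟨129, 22, 1, 9, [(0, 22, 0), (2, 405, 0), (0, 371, 0)], []⟩,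
    ⟨130, 22, 1, 9, [(0, 22, 0), (2, 406, 0), (0, 371, 0)], []⟩,
    ⟨129, 237, 1, 11, [(0, 104, 0), (2, 409, 191), (0, 104, 0), (2, 395, 74), (0, 104, 0), (2, 353, 114), (0, 104, 0), (2, 79, 180), (0, 104, 0), (2, 259, 108), (0, 104, 0), (2, 256, 104), (0, 104, 0), (2, 60, 130), (0, 104, 0), (2, 182, 159), (0, 104, 0), (2, 220, 99), (0, 104, 0)], []⟩,
    ⟨129, 490, 1, 11, [(0, 104, 0), (2, 409, 4), (0, 104, 0), (2, 391, 18), (0, 104, 0), (2, 87, 51), (0, 104, 0), (2, 117, 101), (0, 104, 0), (2, 129, 46), (0, 104, 0), (2, 134, 188), (0, 104, 0), (2, 93, 107), (0, 104, 0), (3, 35, 0), (2, 38, 131), (0, 104, 0), (2, 104, 73), (0, 104, 0)], []⟩,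
    ⟨0, 0, 0, 0, [], []⟩,
    ⟨0, 0, 0, 0, [], []⟩,
    ⟨131, 0, 1, 0, [(2, 415, 0), (2, 404, 23)], []⟩,
    ⟨132, 0, 1, 0, [(2, 416, 0), (2, 204, 157)], []⟩,
    ⟨128, 0, 1, 9, [(0, 22, 0), (2, 417, 180), (0, 371, 0)], []⟩,
    ⟨131, 22, 1, 9, [(0, 22, 0), (2, 415, 0), (0, 371, 0)], []⟩,
    ⟨0, 0, 0, 0, [], []⟩,
    ⟨0, 0, 0, 0, [], []⟩,
    ⟨133, 22, 1, 9, [(0, 22, 0), (2, 421, 0), (0, 371, 0)], []⟩,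
    ⟨134, 22, 1, 9, [(0, 22, 0), (2, 422, 0), (0, 371, 0)], []⟩,
    ⟨35, 267, 1, 11, [(0, 104, 0), (2, 118, 48), (0, 104, 0), (2, 50, 143), (0, 104, 0), (2, 202, 170), (0, 104, 0), (2, 203, 168), (0, 104, 0), (2, 84, 71), (0, 104, 0), (2, 24, 48), (0, 104, 0), (2, 33, 60), (0, 104, 0), (3, 30, 0), (2, 95, 182), (0, 104, 0), (2, 424, 131), (0, 104, 0)], []⟩,
    ⟨134, 355, 1, 11, [(0, 104, 0), (2, 422, 157), (0, 104, 0), (2, 91, 150), (0, 104, 0), (2, 29, 89), (0, 104, 0), (3, 18, 0), (3, 18, 0), (2, 26, 153), (0, 104, 0), (2, 90, 62), (0, 104, 0), (2, 204, 189), (0, 104, 0), (2, 198, 158), (0, 104, 0), (2, 52, 59), (0, 104, 0), (2, 124, 153), (0, 104, 0)], []⟩,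
    ⟨132, 1321, 1, 21, [(0, 25, 0), (1, 418, 185), (0, 104, 0), (2, 198, 131), (0, 104, 0), (1, 54, 39), (0, 104, 0), (2, 23, 58), (0, 104, 0), (1, 29, 16), (0, 104, 0), (3, 30, 0), (3, 30, 0), (2, 95, 2), (0, 104, 0), (1, 421, 63), (0, 104, 0)], []⟩,
    ⟨133, 169, 1, 21, [(0, 25, 0), (1, 423, 19), (0, 104, 0), (2, 91, 150), (0, 104, 0), (1, 37, 157), (0, 104, 0), (3, 36, 0), (2, 31, 95), (0, 104, 0), (3, 18, 0), (3, 18, 0), (1, 24, 131), (0, 104, 0), (2, 90, 49), (0, 104, 0), (1, 416, 4), (0, 104, 0)], []⟩,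
    ⟨0, 0, 0, 0, [], []⟩,
    ⟨0, 0, 0, 0, [], []⟩,
    ⟨135, 22, 1, 9, [(0, 22, 0), (2, 429, 0), (0, 371, 0)], []⟩,
    ⟨136, 22, 1, 9, [(0, 22, 0), (2, 430, 0), (0, 371, 0)], []⟩,
    ⟨61, 434, 1, 11, [(0, 104, 0), (2, 213, 5), (0, 104, 0), (2, 418, 166), (0, 104, 0), (2, 428, 24), (0, 104, 0), (2, 421, 187), (0, 104, 0), (2, 91, 24), (0, 104, 0), (2, 38, 53), (0, 104, 0), (3, 36, 0), (2, 37, 154), (0, 104, 0), (3, 30, 0), (3, 30, 0), (2, 96, 114), (0, 104, 0), (3, 94, 0), (2, 431, 77), (0, 104, 0)], []⟩,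
    ⟨106, 486, 1, 11, [(0, 104, 0), (2, 326, 15), (0, 104, 0), (2, 86, 140), (0, 104, 0), (2, 204, 47), (0, 104, 0), (2, 198, 115), (0, 104, 0), (2, 48, 134), (0, 104, 0), (2, 23, 133), (0, 104, 0), (2, 33, 152), (0, 104, 0), (3, 30, 0), (2, 96, 49), (0, 104, 0), (2, 432, 43), (0, 104, 0)], []⟩,
    ⟨135, 161, 1, 11, [(0, 104, 0), (2, 429, 181), (0, 104, 0), (2, 97, 22), (0, 104, 0), (3, 92, 0), (2, 423, 95), (0, 104, 0), (2, 427, 182), (0, 104, 0), (2, 416, 185), (0, 104, 0), (2, 84, 80), (0, 104, 0), (2, 27, 86), (0, 104, 0), (2, 54, 59), (0, 104, 0), (2, 215, 38), (0, 104, 0)], []⟩,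
    ⟨136, 443, 1, 11, [(0, 104, 0), (2, 430, 106), (0, 104, 0), (2, 93, 26), (0, 104, 0), (2, 29, 123), (0, 104, 0), (3, 18, 0), (3, 18, 0), (2, 25, 138), (0, 104, 0), (2, 54, 141), (0, 104, 0), (2, 202, 6), (0, 104, 0), (2, 203, 182), (0, 104, 0), (2, 88, 86), (0, 104, 0), (2, 332, 59), (0, 104, 0)], []⟩,
    ⟨135, 347, 1, 21, [(0, 25, 0), (1, 435, 0), (0, 104, 0), (2, 213, 162), (0, 104, 0), (1, 204, 188), (0, 104, 0), (2, 88, 74), (0, 104, 0), (1, 318, 3), (0, 104, 0), (3, 320, 0), (2, 328, 64), (0, 104, 0), (1, 434, 2), (0, 104, 0)], []⟩,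
    ⟨0, 0, 0, 0, [], []⟩,
    ⟨0, 0, 0, 0, [], []⟩,
    ⟨137, 22, 1, 9, [(0, 22, 0), (2, 438, 0), (0, 371, 0)], []⟩,
    ⟨138, 22, 1, 9, [(0, 22, 0), (2, 439, 0), (0, 371, 0)], []⟩,
    ⟨42, 682, 1, 11, [(0, 104, 0), (2, 143, 76), (0, 104, 0), (2, 51, 62), (0, 104, 0), (2, 254, 104), (0, 104, 0), (3, 255, 0), (2, 249, 93), (0, 104, 0), (2, 49, 82), (0, 104, 0), (2, 23, 44), (0, 104, 0), (2, 34, 124), (0, 104, 0), (3, 32, 0), (2, 103, 115), (0, 104, 0), (2, 440, 188), (0, 104, 0)], []⟩,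
    ⟨137, 25, 1, 11, [(0, 104, 0), (2, 438, 2), (0, 104, 0), (2, 99, 12), (0, 104, 0), (2, 31, 2), (0, 104, 0), (3, 18, 0), (3, 18, 0), (2, 25, 89), (0, 104, 0), (2, 55, 87), (0, 104, 0), (2, 254, 126), (0, 104, 0), (3, 255, 0), (2, 249, 105), (0, 104, 0), (2, 53, 178), (0, 104, 0), (2, 145, 29), (0, 104, 0)], []⟩,
    ⟨92, 848, 1, 21, [(0, 25, 0), (1, 293, 187), (0, 104, 0), (3, 290, 0), (2, 286, 139), (0, 104, 0), (1, 68, 7), (0, 104, 0), (2, 24, 156), (0, 104, 0), (1, 31, 150), (0, 104, 0), (2, 103, 19), (0, 104, 0), (3, 100, 0), (1, 439, 167), (0, 104, 0)], []⟩,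
    ⟨137, 1015, 1, 21, [(0, 25, 0), (1, 443, 150), (0, 104, 0), (2, 143, 180), (0, 104, 0), (1, 42, 87), (0, 104, 0), (2, 28, 12), (0, 104, 0), (1, 66, 2), (0, 104, 0), (2, 296, 95), (0, 104, 0), (1, 444, 168), (0, 104, 0)], []⟩,
    ⟨138, 446, 1, 21, [(0, 25, 0), (1, 441, 187), (0, 104, 0), (2, 99, 127), (0, 104, 0), (3, 36, 0), (1, 38, 101), (0, 104, 0), (3, 35, 0), (2, 29, 108), (0, 104, 0), (1, 24, 154), (0, 104, 0), (2, 68, 24), (0, 104, 0), (1, 292, 183), (0, 104, 0)], []⟩,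
    ⟨138, 1005, 1, 21, [(0, 25, 0), (1, 446, 189), (0, 104, 0), (2, 294, 157), (0, 104, 0), (3, 290, 0), (1, 288, 163), (0, 104, 0), (2, 77, 182), (0, 104, 0), (1, 164, 189), (0, 104, 0), (2, 161, 99), (0, 104, 0), (1, 442, 7), (0, 104, 0)], []⟩]

/-- Facts, block 7. -/
def fc7 : List Fc :=
  [⟨30, 1, 1, 139, 0, 0⟩, ⟨30, 14, 1, 140, 0, 0⟩, ⟨139, 22, 1, 30, 0, 509⟩, ⟨140, 22, 1, 30, 0, 1209⟩, ⟨68, 396, 1, 139, 408, 439⟩, ⟨116, 15, 1, 140, 837, 595⟩, ⟨139, 267, 1, 68, 245, 684⟩, ⟨140, 613, 1, 116, 852, 630⟩, ⟨139, 1061, 1, 140, 0, 1148⟩, ⟨31, 1, 1, 141, 0, 0⟩, ⟨31, 2, 1, 142, 0, 0⟩, ⟨141, 22, 1, 31, 0, 509⟩, ⟨142, 22, 1, 31, 0, 632⟩, ⟨70, 65, 1, 141, 1911, 1364⟩, ⟨141, 0, 1, 142, 1146, 1907⟩, ⟨141, 29, 1, 70, 1911, 274⟩, ⟨31, 5, 1, 143, 0, 0⟩, ⟨143, 507, 0, 143, 1146, 0⟩, ⟨31,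 21, 1, 144, 0, 0⟩, ⟨143, 22, 1, 31, 0, 854⟩, ⟨144, 22, 1, 31, 0, 1359⟩, ⟨143, 0, 1, 144, 0, 335⟩, ⟨32, 1, 1, 145, 0, 0⟩, ⟨32, 2, 1, 146, 0, 0⟩, ⟨145, 22, 1, 32, 0, 509⟩, ⟨146, 22, 1, 32, 0, 632⟩, ⟨93, 1235, 1, 145, 1038, 1798⟩, ⟨145, 15, 1, 93, 1044, 1678⟩, ⟨32, 5, 1, 147, 0, 0⟩, ⟨32, 8, 1, 148, 0, 0⟩, ⟨147, 22, 1, 32, 0, 854⟩, ⟨148, 22, 1, 32, 0, 1019⟩, ⟨32, 14, 1, 149, 0, 0⟩, ⟨32, 15, 1, 150, 0, 0⟩, ⟨149, 0, 1, 145, 0, 335⟩, ⟨150, 0, 1, 146, 0, 270⟩, ⟨145, 0, 1, 149, 0, 335⟩, ⟨146, 0, 1, 150, 0, 270⟩, ⟨149, 22, 1, 32, 0, 1209⟩, ⟨150, 22, 1, 32, 0, 322⟩, ⟨55, 391, 1, 149, 1044, 466⟩, ⟨149, 169, 1, 55, 1038, 1894⟩, ⟨32, 21, 1, 151, 0, 0⟩, ⟨32, 29, 1, 152, 0, 0⟩, ⟨151, 0, 1, 147, 0, 335⟩, ⟨152, 0, 1, 148, 0, 270⟩, ⟨148, 0, 1, 152, 0, 270⟩, ⟨151, 22, 1, 32, 0, 1359⟩, ⟨152, 22,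 1, 32, 0, 597⟩, ⟨44, 65, 1, 152, 1853, 1882⟩, ⟨152, 14, 1, 44, 1853, 991⟩, ⟨33, 1, 1, 153, 0, 0⟩, ⟨33, 2, 1, 154, 0, 0⟩, ⟨153, 22, 1, 33, 0, 509⟩, ⟨154, 22, 1, 33, 0, 632⟩, ⟨33, 5, 1, 155, 0, 0⟩, ⟨33, 8, 1, 156, 0, 0⟩, ⟨155, 22, 1, 33, 0, 854⟩, ⟨156, 22, 1, 33, 0, 1019⟩, ⟨91, 227, 1, 155, 0, 1096⟩, ⟨155, 14, 1, 91, 0, 320⟩, ⟨33, 14, 1, 157, 0, 0⟩, ⟨33, 15, 1, 158, 0, 0⟩, ⟨157, 0, 1, 153, 0, 335⟩]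

/-- Justifications, block 7. -/
def pf7 : List Pf :=
  [⟨0, 0, 0, 0, [], []⟩,
    ⟨0, 0, 0, 0, [], []⟩,
    ⟨139, 22, 1, 9, [(0, 22, 0), (2, 448, 0), (0, 371, 0)], []⟩,
    ⟨140, 22, 1, 9, [(0, 22, 0), (2, 449, 0), (0, 371, 0)], []⟩,
    ⟨68, 396, 1, 11, [(0, 104, 0), (2, 235, 117), (0, 104, 0), (2, 49, 143), (0, 104, 0), (2, 28, 139), (0, 104, 0), (2, 68, 2), (0, 104, 0), (2, 296, 115), (0, 104, 0), (2, 446, 188), (0, 104, 0), (2, 439, 75), (0, 104, 0), (2, 106, 56), (0, 104, 0), (2, 450, 153), (0, 104, 0)], []⟩,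
    ⟨116, 15, 1, 11, [(0, 104, 0), (2, 359, 156), (0, 104, 0), (2, 79, 188), (0, 104, 0), (2, 288, 85), (0, 104, 0), (3, 290, 0), (2, 286, 43), (0, 104, 0), (2, 66, 7), (0, 104, 0), (2, 24, 43), (0, 104, 0), (2, 34, 2), (0, 104, 0), (3, 32, 0), (3, 32, 0), (2, 104, 34), (0, 104, 0), (3, 102, 0), (2, 451, 128), (0, 104, 0)], []⟩,
    ⟨139, 267, 1, 11, [(0, 104, 0), (2, 448, 48), (0, 104, 0), (2, 105, 140), (0, 104, 0), (2, 441, 156), (0, 104, 0), (2, 444, 150), (0, 104, 0), (2, 292, 20), (0, 104, 0), (2, 66, 189), (0, 104, 0), (2, 27, 68), (0, 104, 0), (2, 55, 119), (0, 104, 0), (2, 237, 135), (0, 104, 0)], []⟩,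
    ⟨140, 613, 1, 11, [(0, 104, 0), (2, 449, 85), (0, 104, 0), (2, 101, 27), (0, 104, 0), (3, 36, 0), (2, 31, 188), (0, 104, 0), (2, 26, 115), (0, 104, 0), (2, 68, 188), (0, 104, 0), (2, 288, 115), (0, 104, 0), (3, 290, 0), (2, 286, 139), (0, 104, 0), (2, 77, 0), (0, 104, 0), (2, 363, 22), (0, 104, 0)], []⟩,
    ⟨139, 1061, 1, 21, [(0, 25, 0), (1, 454, 7), (0, 104, 0), (2, 251, 100), (0, 104, 0), (3, 255, 0), (1, 254, 174), (0, 104, 0), (2, 53, 67), (0, 104, 0), (1, 157, 40), (0, 104, 0), (2, 360, 139), (0, 104, 0), (1, 453, 7), (0, 104, 0)], []⟩,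
    ⟨0, 0, 0, 0, [], []⟩,
    ⟨0, 0, 0, 0, [], []⟩,
    ⟨141, 22, 1, 9, [(0, 22, 0), (2, 457, 0), (0, 371, 0)], []⟩,
    ⟨142, 22, 1, 9, [(0, 22, 0), (2, 458, 0), (0, 371, 0)], []⟩,
    ⟨70, 65, 1, 21, [(0, 25, 0), (1, 245, 0), (0, 104, 0), (2, 49, 12), (0, 104, 0), (1, 57, 143), (0, 104, 0), (3, 64, 0), (2, 57, 128), (0, 104, 0), (1, 39, 133), (0, 104, 0), (2, 109, 59), (0, 104, 0), (1, 457, 177), (0, 104, 0)], []⟩,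
    ⟨141, 0, 1, 0, [(2, 457, 0), (3, 111, 0), (2, 460, 65)], []⟩,
    ⟨141, 29, 1, 9, [(0, 22, 0), (2, 461, 180), (0, 371, 0)], []⟩,
    ⟨0, 0, 0, 0, [], []⟩,
    ⟨31, 1533, 2, 0, [(1, 464, 5)], [(3, 111, 0), (1, 464, 0)]⟩,
    ⟨0, 0, 0, 0, [], []⟩,
    ⟨143, 22, 1, 9, [(0, 22, 0), (2, 464, 0), (0, 371, 0)], []⟩,
    ⟨144, 22, 1, 9, [(0, 22, 0), (2, 466, 0), (0, 371, 0)], []⟩,
    ⟨143, 0, 1, 0, [(2, 464, 0), (2, 468, 23)], []⟩,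
    ⟨0, 0, 0, 0, [], []⟩,
    ⟨0, 0, 0, 0, [], []⟩,
    ⟨145, 22, 1, 9, [(0, 22, 0), (2, 470, 0), (0, 371, 0)], []⟩,
    ⟨146, 22, 1, 9, [(0, 22, 0), (2, 471, 0), (0, 371, 0)], []⟩,
    ⟨93, 1235, 1, 21, [(0, 25, 0), (1, 301, 105), (0, 104, 0), (2, 66, 52), (0, 104, 0), (1, 26, 175), (0, 104, 0), (3, 18, 0), (2, 25, 150), (0, 104, 0), (1, 39, 156), (0, 104, 0), (2, 110, 7), (0, 104, 0), (1, 470, 139), (0, 104, 0)], []⟩,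
    ⟨145, 15, 1, 9, [(0, 22, 0), (2, 474, 24), (0, 371, 0)], []⟩,
    ⟨0, 0, 0, 0, [], []⟩,
    ⟨0, 0, 0, 0, [], []⟩,
    ⟨147, 22, 1, 9, [(0, 22, 0), (2, 476, 0), (0, 371, 0)], []⟩,
    ⟨148, 22, 1, 9, [(0, 22, 0), (2, 477, 0), (0, 371, 0)], []⟩,
    ⟨0, 0, 0, 0, [], []⟩,
    ⟨0, 0, 0, 0, [], []⟩,
    ⟨149, 0, 1, 0, [(2, 480, 0), (2, 472, 23)], []⟩,
    ⟨150, 0, 1, 0, [(2, 481, 0), (2, 473, 7)], []⟩,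
    ⟨145, 0, 1, 9, [(0, 22, 0), (2, 482, 180), (0, 371, 0)], []⟩,
    ⟨146, 0, 1, 9, [(0, 22, 0), (2, 483, 2), (0, 371, 0)], []⟩,
    ⟨149, 22, 1, 9, [(0, 22, 0), (2, 480, 0), (0, 371, 0)], []⟩,
    ⟨150, 22, 1, 9, [(0, 22, 0), (2, 481, 0), (0, 371, 0)], []⟩,
    ⟨55, 391, 1, 21, [(0, 25, 0), (1, 193, 16), (0, 104, 0), (2, 44, 184), (0, 104, 0), (1, 27, 173), (0, 104, 0), (2, 68, 27), (0, 104, 0), (1, 297, 98), (0, 104, 0), (2, 475, 7), (0, 104, 0), (1, 484, 139), (0, 104, 0)], []⟩,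
    ⟨149, 169, 1, 21, [(0, 25, 0), (1, 486, 19), (0, 104, 0), (2, 108, 11), (0, 104, 0), (1, 41, 48), (0, 104, 0), (2, 23, 168), (0, 104, 0), (3, 18, 0), (1, 23, 153), (0, 104, 0), (2, 46, 45), (0, 104, 0), (1, 191, 42), (0, 104, 0)], []⟩,
    ⟨0, 0, 0, 0, [], []⟩,
    ⟨0, 0, 0, 0, [], []⟩,
    ⟨151, 0, 1, 0, [(2, 490, 0), (2, 478, 23)], []⟩,
    ⟨152, 0, 1, 0, [(2, 491, 0), (2, 479, 7)], []⟩,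
    ⟨148, 0, 1, 9, [(0, 22, 0), (2, 493, 2), (0, 371, 0)], []⟩,
    ⟨151, 22, 1, 9, [(0, 22, 0), (2, 490, 0), (0, 371, 0)], []⟩,
    ⟨152, 22, 1, 9, [(0, 22, 0), (2, 491, 0), (0, 371, 0)], []⟩,
    ⟨44, 65, 1, 21, [(0, 25, 0), (1, 153, 0), (0, 104, 0), (2, 40, 12), (0, 104, 0), (1, 44, 2), (0, 104, 0), (3, 47, 0), (2, 44, 99), (0, 104, 0), (1, 39, 88), (0, 104, 0), (2, 110, 73), (0, 104, 0), (1, 491, 58), (0, 104, 0)], []⟩,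
    ⟨152, 14, 1, 9, [(0, 22, 0), (2, 497, 120), (0, 371, 0)], []⟩,
    ⟨0, 0, 0, 0, [], []⟩,
    ⟨0, 0, 0, 0, [], []⟩,
    ⟨153, 22, 1, 9, [(0, 22, 0), (2, 499, 0), (0, 371, 0)], []⟩,
    ⟨154, 22, 1, 9, [(0, 22, 0), (2, 500, 0), (0, 371, 0)], []⟩,
    ⟨0, 0, 0, 0, [], []⟩,
    ⟨0, 0, 0, 0, [], []⟩,
    ⟨155, 22, 1, 9, [(0, 22, 0), (2, 503, 0), (0, 371, 0)], []⟩,
    ⟨156, 22, 1, 9, [(0, 22, 0), (2, 504, 0), (0, 371, 0)], []⟩,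
    ⟨91, 227, 1, 21, [(0, 25, 0), (1, 295, 67), (0, 104, 0), (2, 66, 111), (0, 104, 0), (1, 26, 89), (0, 104, 0), (2, 25, 77), (0, 104, 0), (1, 39, 129), (0, 104, 0), (2, 114, 152), (0, 104, 0), (1, 503, 28), (0, 104, 0)], []⟩,
    ⟨155, 14, 1, 9, [(0, 22, 0), (2, 507, 76), (0, 371, 0)], []⟩,
    ⟨0, 0, 0, 0, [], []⟩,
    ⟨0, 0, 0, 0, [], []⟩,
    ⟨157, 0, 1, 0, [(2, 509, 0), (2, 501, 23)], []⟩]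

/-- Facts, block 8. -/
def fc8 : List Fc :=
  [⟨157, 22, 1, 33, 0, 1209⟩, ⟨33, 21, 1, 159, 0, 0⟩, ⟨33, 29, 1, 160, 0, 0⟩, ⟨159, 0, 1, 155, 0, 335⟩, ⟨155, 0, 1, 159, 0, 335⟩, ⟨159, 22, 1, 33, 0, 1359⟩, ⟨160, 22, 1, 33, 0, 597⟩, ⟨79, 89, 1, 159, 1038, 33⟩, ⟨159, 89, 1, 79, 1044, 228⟩, ⟨34, 2, 1, 161, 0, 0⟩, ⟨34, 5, 1, 162, 0, 0⟩, ⟨161, 22, 1, 34, 0, 632⟩, ⟨162, 22, 1, 34, 0, 854⟩, ⟨34, 15, 1, 164, 0, 0⟩, ⟨164, 22, 1, 34, 0, 322⟩, ⟨34, 21, 1, 165, 0, 0⟩, ⟨34, 29, 1, 166, 0, 0⟩, ⟨165, 0, 1, 162, 0, 335⟩, ⟨162, 0, 1, 165, 0, 335⟩, ⟨166, 22, 1, 34, 0, 597⟩, ⟨166, 1135, 1, 152, 1660, 620⟩, ⟨152, 8, 1, 166, 1660, 76⟩, ⟨35, 1, 1, 167, 0, 0⟩, ⟨35, 2, 1, 168, 0, 0⟩, ⟨167, 22, 1, 35, 0, 509⟩, ⟨168, 22, 1, 35, 0, 632⟩, ⟨46, 227, 1, 167, 1911, 925⟩, ⟨167, 434, 1, 46, 1911, 396⟩, ⟨35, 5,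 1, 169, 0, 0⟩, ⟨35, 8, 1, 170, 0, 0⟩, ⟨170, 0, 1, 134, 1320, 1666⟩, ⟨134, 2, 1, 170, 1320, 1571⟩, ⟨169, 22, 1, 35, 0, 854⟩, ⟨170, 22, 1, 35, 0, 1019⟩, ⟨106, 490, 1, 170, 1624, 1072⟩, ⟨136, 446, 1, 170, 1044, 310⟩, ⟨170, 642, 1, 136, 1038, 1064⟩, ⟨35, 14, 1, 171, 0, 0⟩, ⟨35, 15, 1, 172, 0, 0⟩, ⟨171, 22, 1, 35, 0, 1209⟩, ⟨35, 21, 1, 173, 0, 0⟩, ⟨36, 1, 1, 174, 0, 0⟩, ⟨173, 0, 1, 169, 0, 335⟩, ⟨169, 0, 1, 173, 0, 335⟩, ⟨173, 22, 1, 35, 0, 1359⟩, ⟨174, 22, 1, 36, 0, 509⟩, ⟨117, 924, 1, 174, 1038, 1118⟩, ⟨174, 848, 1, 117, 1044, 1266⟩, ⟨36, 2, 1, 175, 0, 0⟩, ⟨36, 5, 1, 176, 0, 0⟩, ⟨175, 22, 1, 36, 0, 632⟩, ⟨176, 22, 1, 36, 0, 854⟩, ⟨36, 8, 1, 177, 0, 0⟩, ⟨36, 14, 1, 178, 0, 0⟩, ⟨178, 0, 1, 174, 0, 335⟩, ⟨174, 0, 1, 178, 0, 335⟩, ⟨177, 22, 1, 36, 0, 1019⟩, ⟨178, 22, 1, 36, 0, 1209⟩,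 ⟨81, 912, 1, 178, 1311, 198⟩, ⟨178, 466, 1, 81, 1498, 476⟩, ⟨36, 15, 1, 179, 0, 0⟩, ⟨36, 21, 1, 180, 0, 0⟩, ⟨179, 22, 1, 36, 0, 322⟩, ⟨180, 22, 1, 36, 0, 1359⟩]

/-- Justifications, block 8. -/
def pf8 : List Pf :=
  [⟨157, 22, 1, 9, [(0, 22, 0), (2, 509, 0), (0, 371, 0)], []⟩,
    ⟨0, 0, 0, 0, [], []⟩,
    ⟨0, 0, 0, 0, [], []⟩,
    ⟨159, 0, 1, 0, [(2, 513, 0), (2, 505, 23)], []⟩,
    ⟨155, 0, 1, 9, [(0, 22, 0), (2, 515, 180), (0, 371, 0)], []⟩,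
    ⟨159, 22, 1, 9, [(0, 22, 0), (2, 513, 0), (0, 371, 0)], []⟩,
    ⟨160, 22, 1, 9, [(0, 22, 0), (2, 514, 0), (0, 371, 0)], []⟩,
    ⟨79, 89, 1, 21, [(0, 25, 0), (1, 270, 162), (0, 104, 0), (2, 56, 165), (0, 104, 0), (1, 27, 116), (0, 104, 0), (2, 68, 87), (0, 104, 0), (1, 291, 180), (0, 104, 0), (2, 508, 102), (0, 104, 0), (1, 516, 142), (0, 104, 0)], []⟩,
    ⟨159, 89, 1, 21, [(0, 25, 0), (1, 517, 162), (0, 104, 0), (2, 112, 165), (0, 104, 0), (1, 41, 116), (0, 104, 0), (2, 23, 87), (0, 104, 0), (3, 18, 0), (3, 18, 0), (1, 23, 98), (0, 104, 0), (2, 62, 13), (0, 104, 0), (1, 268, 6), (0, 104, 0)], []⟩,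
    ⟨0, 0, 0, 0, [], []⟩,
    ⟨0, 0, 0, 0, [], []⟩,
    ⟨161, 22, 1, 9, [(0, 22, 0), (2, 521, 0), (0, 371, 0)], []⟩,
    ⟨162, 22, 1, 9, [(0, 22, 0), (2, 522, 0), (0, 371, 0)], []⟩,
    ⟨0, 0, 0, 0, [], []⟩,
    ⟨164, 22, 1, 9, [(0, 22, 0), (2, 525, 0), (0, 371, 0)], []⟩,
    ⟨0, 0, 0, 0, [], []⟩,
    ⟨0, 0, 0, 0, [], []⟩,
    ⟨165, 0, 1, 0, [(2, 527, 0), (2, 524, 23)], []⟩,
    ⟨162, 0, 1, 9, [(0, 22, 0), (2, 529, 180), (0, 371, 0)], []⟩,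
    ⟨166, 22, 1, 9, [(0, 22, 0), (2, 528, 0), (0, 371, 0)], []⟩,
    ⟨166, 1135, 1, 21, [(0, 25, 0), (1, 531, 126), (0, 104, 0), (2, 129, 114), (0, 104, 0), (1, 135, 142), (0, 104, 0), (3, 94, 0), (2, 135, 69), (0, 104, 0), (1, 133, 46), (0, 104, 0), (2, 110, 170), (0, 104, 0), (1, 491, 80), (0, 104, 0)], []⟩,
    ⟨152, 8, 1, 9, [(0, 22, 0), (2, 532, 166), (0, 371, 0)], []⟩,
    ⟨0, 0, 0, 0, [], []⟩,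
    ⟨0, 0, 0, 0, [], []⟩,
    ⟨167, 22, 1, 9, [(0, 22, 0), (2, 534, 0), (0, 371, 0)], []⟩,
    ⟨168, 22, 1, 9, [(0, 22, 0), (2, 535, 0), (0, 371, 0)], []⟩,
    ⟨46, 227, 1, 21, [(0, 25, 0), (1, 163, 67), (0, 104, 0), (2, 51, 183), (0, 104, 0), (1, 239, 182), (0, 104, 0), (2, 463, 26), (0, 104, 0), (1, 459, 18), (0, 104, 0), (2, 120, 136), (0, 104, 0), (1, 534, 41), (0, 104, 0)], []⟩,
    ⟨167, 434, 1, 21, [(0, 25, 0), (1, 536, 186), (0, 104, 0), (2, 118, 15), (0, 104, 0), (1, 41, 97), (0, 104, 0), (2, 63, 36), (0, 104, 0), (3, 64, 0), (1, 63, 21), (0, 104, 0), (2, 42, 190), (0, 104, 0), (1, 157, 117), (0, 104, 0)], []⟩,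
    ⟨0, 0, 0, 0, [], []⟩,
    ⟨0, 0, 0, 0, [], []⟩,
    ⟨170, 0, 1, 0, [(2, 541, 0), (2, 426, 124)], []⟩,
    ⟨134, 2, 1, 9, [(0, 22, 0), (2, 542, 104), (0, 371, 0)], []⟩,
    ⟨169, 22, 1, 9, [(0, 22, 0), (2, 540, 0), (0, 371, 0)], []⟩,
    ⟨170, 22, 1, 9, [(0, 22, 0), (2, 541, 0), (0, 371, 0)], []⟩,
    ⟨106, 490, 1, 11, [(0, 104, 0), (2, 330, 56), (0, 104, 0), (3, 320, 0), (2, 328, 59), (0, 104, 0), (2, 436, 189), (0, 104, 0), (2, 437, 189), (0, 104, 0), (2, 433, 168), (0, 104, 0), (2, 209, 131), (0, 104, 0), (2, 52, 136), (0, 104, 0), (2, 124, 190), (0, 104, 0), (2, 545, 35), (0, 104, 0)], []⟩,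
    ⟨136, 446, 1, 11, [(0, 104, 0), (2, 437, 11), (0, 104, 0), (2, 433, 108), (0, 104, 0), (2, 213, 25), (0, 104, 0), (2, 203, 24), (0, 104, 0), (2, 84, 55), (0, 104, 0), (2, 27, 174), (0, 104, 0), (2, 41, 82), (0, 104, 0), (2, 124, 6), (0, 104, 0), (2, 545, 52), (0, 104, 0)], []⟩,
    ⟨170, 642, 1, 11, [(0, 104, 0), (2, 541, 145), (0, 104, 0), (2, 122, 5), (0, 104, 0), (3, 111, 0), (2, 107, 163), (0, 104, 0), (2, 39, 144), (0, 104, 0), (2, 23, 155), (0, 104, 0), (2, 34, 162), (0, 104, 0), (3, 36, 0), (2, 37, 178), (0, 104, 0), (2, 96, 29), (0, 104, 0), (2, 432, 63), (0, 104, 0)], []⟩,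
    ⟨0, 0, 0, 0, [], []⟩,
    ⟨0, 0, 0, 0, [], []⟩,
    ⟨171, 22, 1, 9, [(0, 22, 0), (2, 549, 0), (0, 371, 0)], []⟩,
    ⟨0, 0, 0, 0, [], []⟩,
    ⟨0, 0, 0, 0, [], []⟩,
    ⟨173, 0, 1, 0, [(2, 552, 0), (2, 544, 23)], []⟩,
    ⟨169, 0, 1, 9, [(0, 22, 0), (2, 554, 180), (0, 371, 0)], []⟩,
    ⟨173, 22, 1, 9, [(0, 22, 0), (2, 552, 0), (0, 371, 0)], []⟩,
    ⟨174, 22, 1, 9, [(0, 22, 0), (2, 553, 0), (0, 371, 0)], []⟩,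
    ⟨117, 924, 1, 11, [(0, 104, 0), (2, 364, 171), (0, 104, 0), (2, 75, 174), (0, 104, 0), (2, 27, 186), (0, 104, 0), (2, 46, 78), (0, 104, 0), (2, 193, 165), (0, 104, 0), (2, 489, 189), (0, 104, 0), (2, 480, 156), (0, 104, 0), (2, 121, 188), (0, 104, 0), (2, 557, 85), (0, 104, 0)], []⟩,
    ⟨174, 848, 1, 11, [(0, 104, 0), (2, 553, 89), (0, 104, 0), (2, 123, 2), (0, 104, 0), (2, 486, 95), (0, 104, 0), (2, 488, 47), (0, 104, 0), (2, 191, 170), (0, 104, 0), (2, 44, 17), (0, 104, 0), (2, 28, 27), (0, 104, 0), (2, 81, 51), (0, 104, 0), (2, 370, 23), (0, 104, 0)], []⟩,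
    ⟨0, 0, 0, 0, [], []⟩,
    ⟨0, 0, 0, 0, [], []⟩,
    ⟨175, 22, 1, 9, [(0, 22, 0), (2, 560, 0), (0, 371, 0)], []⟩,
    ⟨176, 22, 1, 9, [(0, 22, 0), (2, 561, 0), (0, 371, 0)], []⟩,
    ⟨0, 0, 0, 0, [], []⟩,
    ⟨0, 0, 0, 0, [], []⟩,
    ⟨178, 0, 1, 0, [(2, 565, 0), (2, 557, 23)], []⟩,
    ⟨174, 0, 1, 9, [(0, 22, 0), (2, 566, 180), (0, 371, 0)], []⟩,
    ⟨177, 22, 1, 9, [(0, 22, 0), (2, 564, 0), (0, 371, 0)], []⟩,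
    ⟨178, 22, 1, 9, [(0, 22, 0), (2, 565, 0), (0, 371, 0)], []⟩,
    ⟨81, 912, 1, 21, [(0, 25, 0), (1, 274, 88), (0, 104, 0), (3, 64, 0), (2, 57, 130), (0, 104, 0), (1, 25, 5), (0, 104, 0), (3, 18, 0), (3, 18, 0), (2, 25, 0), (0, 104, 0), (1, 39, 89), (0, 104, 0), (2, 125, 47), (0, 104, 0), (1, 565, 169), (0, 104, 0)], []⟩,
    ⟨178, 466, 1, 21, [(0, 25, 0), (1, 569, 177), (0, 104, 0), (2, 123, 24), (0, 104, 0), (1, 480, 12), (0, 104, 0), (2, 488, 182), (0, 104, 0), (1, 193, 162), (0, 104, 0), (2, 59, 158), (0, 104, 0), (3, 64, 0), (1, 272, 13), (0, 104, 0)], []⟩,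
    ⟨0, 0, 0, 0, [], []⟩,
    ⟨0, 0, 0, 0, [], []⟩,
    ⟨179, 22, 1, 9, [(0, 22, 0), (2, 572, 0), (0, 371, 0)], []⟩,
    ⟨180, 22, 1, 9, [(0, 22, 0), (2, 573, 0), (0, 371, 0)], []⟩]

/-- Facts, block 9. -/
def fc9 : List Fc :=
  [⟨179, 563, 0, 179, 1660, 0⟩, ⟨36, 29, 1, 181, 0, 0⟩, ⟨181, 0, 1, 177, 0, 270⟩, ⟨177, 0, 1, 181, 0, 270⟩, ⟨181, 22, 1, 36, 0, 597⟩, ⟨72, 227, 1, 181, 1853, 856⟩, ⟨181, 1029, 1, 72, 1853, 396⟩, ⟨37, 2, 1, 183, 0, 0⟩, ⟨183, 22, 1, 37, 0, 632⟩, ⟨51, 365, 1, 183, 1038, 148⟩, ⟨183, 571, 1, 51, 1044, 1515⟩, ⟨37, 15, 1, 187, 0, 0⟩, ⟨187, 22, 1, 37, 0, 322⟩, ⟨115, 396, 1, 187, 0, 365⟩, ⟨187, 283, 1, 115, 0, 944⟩, ⟨38, 1, 1, 190, 0, 0⟩, ⟨190, 22, 1, 38, 0, 509⟩, ⟨38, 2, 1, 191, 0, 0⟩, ⟨38, 5, 1, 192, 0, 0⟩, ⟨192, 22, 1, 38, 0, 854⟩, ⟨192, 365, 1, 57, 340, 242⟩,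 ⟨57, 2, 1, 192, 1618, 1416⟩, ⟨38, 14, 1, 193, 0, 0⟩, ⟨38, 15, 1, 194, 0, 0⟩, ⟨193, 0, 1, 190, 0, 335⟩, ⟨190, 0, 1, 193, 0, 335⟩, ⟨193, 22, 1, 38, 0, 1209⟩, ⟨38, 21, 1, 195, 0, 0⟩, ⟨39, 1, 1, 196, 0, 0⟩, ⟨195, 0, 1, 192, 0, 335⟩, ⟨192, 0, 1, 195, 0, 335⟩, ⟨196, 22, 1, 39, 0, 509⟩, ⟨195, 626, 1, 121, 1069, 283⟩, ⟨39, 5, 1, 197, 0, 0⟩, ⟨39, 8, 1, 198, 0, 0⟩, ⟨198, 22, 1, 39, 0, 1019⟩, ⟨39, 14, 1, 199, 0, 0⟩, ⟨39, 21, 1, 200, 0, 0⟩, ⟨199, 0, 1, 196, 0, 335⟩, ⟨196, 0, 1, 199, 0, 335⟩, ⟨199, 22, 1, 39, 0, 1209⟩, ⟨200, 22, 1, 39, 0, 1359⟩, ⟨39, 29, 1, 201, 0, 0⟩, ⟨40, 1, 1, 202, 0, 0⟩, ⟨202, 22, 1, 40, 0, 509⟩, ⟨202, 10, 1, 61, 1853, 641⟩, ⟨40, 2, 1, 203, 0, 0⟩, ⟨40, 5, 1, 204, 0, 0⟩, ⟨203, 22, 1, 40, 0, 632⟩, ⟨204, 22, 1, 40, 0, 854⟩, ⟨103, 407, 1, 204, 0, 1186⟩, ⟨40, 8, 1, 205,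 0, 0⟩, ⟨40, 14, 1, 206, 0, 0⟩, ⟨205, 22, 1, 40, 0, 1019⟩, ⟨40, 15, 1, 207, 0, 0⟩, ⟨40, 21, 1, 208, 0, 0⟩, ⟨208, 0, 1, 204, 0, 335⟩, ⟨204, 0, 1, 208, 0, 335⟩, ⟨207, 22, 1, 40, 0, 322⟩, ⟨208, 22, 1, 40, 0, 1359⟩, ⟨208, 122, 1, 81, 1044, 641⟩, ⟨40, 29, 1, 209, 0, 0⟩, ⟨41, 1, 1, 210, 0, 0⟩, ⟨209, 22, 1, 40, 0, 597⟩]

/-- Justifications, block 9. -/
def pf9 : List Pf :=
  [⟨36, 169, 2, 21, [(0, 25, 0), (1, 125, 19), (0, 104, 0), (2, 115, 119), (0, 104, 0), (1, 528, 155), (0, 104, 0), (2, 533, 167), (0, 104, 0), (1, 496, 31), (0, 104, 0), (2, 121, 156), (0, 104, 0), (1, 572, 150), (0, 104, 0)], [(1, 572, 189)]⟩,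
    ⟨0, 0, 0, 0, [], []⟩,
    ⟨181, 0, 1, 0, [(2, 577, 0), (2, 568, 7)], []⟩,
    ⟨177, 0, 1, 9, [(0, 22, 0), (2, 578, 2), (0, 371, 0)], []⟩,
    ⟨181, 22, 1, 9, [(0, 22, 0), (2, 577, 0), (0, 371, 0)], []⟩,
    ⟨72, 227, 1, 21, [(0, 25, 0), (1, 254, 67), (0, 104, 0), (2, 53, 183), (0, 104, 0), (1, 147, 182), (0, 104, 0), (2, 498, 72), (0, 104, 0), (1, 496, 126), (0, 104, 0), (2, 121, 114), (0, 104, 0), (1, 577, 133), (0, 104, 0)], []⟩,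
    ⟨181, 1029, 1, 21, [(0, 25, 0), (1, 580, 74), (0, 104, 0), (2, 119, 141), (0, 104, 0), (1, 41, 20), (0, 104, 0), (2, 46, 94), (0, 104, 0), (3, 47, 0), (1, 46, 47), (0, 104, 0), (2, 55, 190), (0, 104, 0), (1, 249, 117), (0, 104, 0)], []⟩,
    ⟨0, 0, 0, 0, [], []⟩,
    ⟨183, 22, 1, 9, [(0, 22, 0), (2, 583, 0), (0, 371, 0)], []⟩,
    ⟨51, 365, 1, 21, [(0, 25, 0), (1, 181, 144), (0, 104, 0), (2, 43, 135), (0, 104, 0), (1, 25, 93), (0, 104, 0), (3, 18, 0), (2, 25, 69), (0, 104, 0), (1, 39, 79), (0, 104, 0), (2, 132, 124), (0, 104, 0), (1, 583, 97), (0, 104, 0)], []⟩,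
    ⟨183, 571, 1, 21, [(0, 25, 0), (1, 584, 34), (0, 104, 0), (2, 130, 75), (0, 104, 0), (1, 513, 83), (0, 104, 0), (2, 519, 150), (0, 104, 0), (1, 270, 36), (0, 104, 0), (2, 60, 34), (0, 104, 0), (1, 175, 35), (0, 104, 0)], []⟩,
    ⟨0, 0, 0, 0, [], []⟩,
    ⟨187, 22, 1, 9, [(0, 22, 0), (2, 587, 0), (0, 371, 0)], []⟩,
    ⟨115, 396, 1, 11, [(0, 104, 0), (2, 358, 117), (0, 104, 0), (2, 75, 143), (0, 104, 0), (2, 27, 127), (0, 104, 0), (2, 62, 33), (0, 104, 0), (2, 270, 25), (0, 104, 0), (2, 520, 189), (0, 104, 0), (2, 513, 173), (0, 104, 0), (2, 128, 134), (0, 104, 0), (2, 588, 134), (0, 104, 0)], []⟩,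
    ⟨187, 283, 1, 11, [(0, 104, 0), (2, 587, 57), (0, 104, 0), (2, 130, 78), (0, 104, 0), (2, 517, 165), (0, 104, 0), (2, 519, 24), (0, 104, 0), (2, 268, 186), (0, 104, 0), (2, 56, 36), (0, 104, 0), (2, 28, 115), (0, 104, 0), (2, 81, 73), (0, 104, 0), (2, 362, 178), (0, 104, 0)], []⟩,
    ⟨0, 0, 0, 0, [], []⟩,
    ⟨190, 22, 1, 9, [(0, 22, 0), (2, 591, 0), (0, 371, 0)], []⟩,
    ⟨0, 0, 0, 0, [], []⟩,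
    ⟨0, 0, 0, 0, [], []⟩,
    ⟨192, 22, 1, 9, [(0, 22, 0), (2, 594, 0), (0, 371, 0)], []⟩,
    ⟨192, 365, 1, 21, [(0, 25, 0), (1, 595, 144), (0, 104, 0), (2, 134, 138), (0, 104, 0), (1, 96, 86), (0, 104, 0), (2, 29, 48), (0, 104, 0), (3, 18, 0), (1, 23, 80), (0, 104, 0), (2, 46, 157), (0, 104, 0), (1, 196, 111), (0, 104, 0)], []⟩,
    ⟨57, 2, 1, 9, [(0, 22, 0), (3, 197, 0), (2, 596, 145), (0, 371, 0)], []⟩,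
    ⟨0, 0, 0, 0, [], []⟩,
    ⟨0, 0, 0, 0, [], []⟩,
    ⟨193, 0, 1, 0, [(2, 598, 0), (2, 592, 23)], []⟩,
    ⟨190, 0, 1, 9, [(0, 22, 0), (2, 600, 180), (0, 371, 0)], []⟩,
    ⟨193, 22, 1, 9, [(0, 22, 0), (2, 598, 0), (0, 371, 0)], []⟩,
    ⟨0, 0, 0, 0, [], []⟩,
    ⟨0, 0, 0, 0, [], []⟩,
    ⟨195, 0, 1, 0, [(2, 603, 0), (2, 595, 23)], []⟩,
    ⟨192, 0, 1, 9, [(0, 22, 0), (2, 605, 180), (0, 371, 0)], []⟩,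
    ⟨196, 22, 1, 9, [(0, 22, 0), (2, 604, 0), (0, 371, 0)], []⟩,
    ⟨195, 626, 1, 21, [(0, 25, 0), (1, 605, 132), (0, 104, 0), (2, 597, 64), (0, 104, 0), (1, 201, 139), (0, 104, 0), (3, 47, 0), (2, 44, 176), (0, 104, 0), (1, 27, 21), (0, 104, 0), (2, 89, 129), (0, 104, 0), (1, 379, 57), (0, 104, 0)], []⟩,
    ⟨0, 0, 0, 0, [], []⟩,
    ⟨0, 0, 0, 0, [], []⟩,
    ⟨198, 22, 1, 9, [(0, 22, 0), (2, 610, 0), (0, 371, 0)], []⟩,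
    ⟨0, 0, 0, 0, [], []⟩,
    ⟨0, 0, 0, 0, [], []⟩,
    ⟨199, 0, 1, 0, [(2, 612, 0), (2, 607, 23)], []⟩,
    ⟨196, 0, 1, 9, [(0, 22, 0), (2, 614, 180), (0, 371, 0)], []⟩,
    ⟨199, 22, 1, 9, [(0, 22, 0), (2, 612, 0), (0, 371, 0)], []⟩,
    ⟨200, 22, 1, 9, [(0, 22, 0), (2, 613, 0), (0, 371, 0)], []⟩,
    ⟨0, 0, 0, 0, [], []⟩,
    ⟨0, 0, 0, 0, [], []⟩,
    ⟨202, 22, 1, 9, [(0, 22, 0), (2, 619, 0), (0, 371, 0)], []⟩,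
    ⟨202, 10, 1, 21, [(0, 25, 0), (1, 620, 22), (0, 104, 0), (2, 137, 189), (0, 104, 0), (1, 42, 158), (0, 104, 0), (2, 46, 188), (0, 104, 0), (3, 47, 0), (1, 46, 142), (0, 104, 0), (2, 54, 174), (0, 104, 0), (1, 209, 34), (0, 104, 0)], []⟩,
    ⟨0, 0, 0, 0, [], []⟩,
    ⟨0, 0, 0, 0, [], []⟩,
    ⟨203, 22, 1, 9, [(0, 22, 0), (2, 622, 0), (0, 371, 0)], []⟩,
    ⟨204, 22, 1, 9, [(0, 22, 0), (2, 623, 0), (0, 371, 0)], []⟩,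
    ⟨103, 407, 1, 21, [(0, 25, 0), (1, 323, 28), (0, 104, 0), (2, 71, 90), (0, 104, 0), (1, 26, 135), (0, 104, 0), (2, 25, 37), (0, 104, 0), (1, 40, 174), (0, 104, 0), (2, 139, 93), (0, 104, 0), (1, 623, 135), (0, 104, 0)], []⟩,
    ⟨0, 0, 0, 0, [], []⟩,
    ⟨0, 0, 0, 0, [], []⟩,
    ⟨205, 22, 1, 9, [(0, 22, 0), (2, 627, 0), (0, 371, 0)], []⟩,
    ⟨0, 0, 0, 0, [], []⟩,
    ⟨0, 0, 0, 0, [], []⟩,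
    ⟨208, 0, 1, 0, [(2, 631, 0), (2, 625, 23)], []⟩,
    ⟨204, 0, 1, 9, [(0, 22, 0), (2, 632, 180), (0, 371, 0)], []⟩,
    ⟨207, 22, 1, 9, [(0, 22, 0), (2, 630, 0), (0, 371, 0)], []⟩,
    ⟨208, 22, 1, 9, [(0, 22, 0), (2, 631, 0), (0, 371, 0)], []⟩,
    ⟨208, 122, 1, 21, [(0, 25, 0), (1, 635, 1), (0, 104, 0), (2, 137, 94), (0, 104, 0), (1, 42, 101), (0, 104, 0), (2, 23, 31), (0, 104, 0), (3, 18, 0), (3, 18, 0), (1, 23, 143), (0, 104, 0), (2, 63, 35), (0, 104, 0), (1, 272, 34), (0, 104, 0)], []⟩,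
    ⟨0, 0, 0, 0, [], []⟩,
    ⟨0, 0, 0, 0, [], []⟩,
    ⟨209, 22, 1, 9, [(0, 22, 0), (2, 637, 0), (0, 371, 0)], []⟩]

/-- Facts, block 10. -/
def fc10 : List Fc :=
  [⟨210, 22, 1, 41, 0, 509⟩, ⟨41, 2, 1, 211, 0, 0⟩, ⟨41, 5, 1, 212, 0, 0⟩, ⟨211, 22, 1, 41, 0, 632⟩, ⟨212, 22, 1, 41, 0, 854⟩, ⟨108, 653, 1, 211, 1038, 283⟩, ⟨41, 8, 1, 213, 0, 0⟩, ⟨41, 14, 1, 214, 0, 0⟩, ⟨213, 22, 1, 41, 0, 1019⟩, ⟨41, 15, 1, 215, 0, 0⟩, ⟨41, 21, 1, 216, 0, 0⟩, ⟨215, 0, 1, 211, 0, 270⟩, ⟨216, 0, 1, 212, 0, 335⟩, ⟨211, 0, 1, 215, 0, 270⟩, ⟨215, 22, 1, 41, 0, 322⟩, ⟨216, 22, 1, 41, 0, 1359⟩, ⟨215, 365, 1, 80, 1038, 660⟩, ⟨41, 29, 1, 217, 0, 0⟩, ⟨42, 1, 1, 218, 0, 0⟩, ⟨217, 22, 1, 41, 0, 597⟩, ⟨218, 22, 1, 42, 0, 509⟩, ⟨59, 242, 1, 218, 1911, 1780⟩, ⟨42, 2, 1, 219, 0, 0⟩, ⟨42, 5, 1, 220, 0, 0⟩, ⟨219,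 22, 1, 42, 0, 632⟩, ⟨220, 22, 1, 42, 0, 854⟩, ⟨42, 14, 1, 221, 0, 0⟩, ⟨42, 15, 1, 222, 0, 0⟩, ⟨221, 0, 1, 218, 0, 335⟩, ⟨222, 0, 1, 219, 0, 270⟩, ⟨218, 0, 1, 221, 0, 335⟩, ⟨219, 0, 1, 222, 0, 270⟩, ⟨221, 22, 1, 42, 0, 1209⟩, ⟨222, 22, 1, 42, 0, 322⟩, ⟨42, 21, 1, 223, 0, 0⟩, ⟨42, 29, 1, 224, 0, 0⟩, ⟨224, 0, 1, 137, 1806, 477⟩, ⟨137, 14, 1, 224, 1806, 511⟩, ⟨223, 22, 1, 42, 0, 1359⟩, ⟨224, 22, 1, 42, 0, 597⟩, ⟨224, 1635, 0, 224, 1741, 0⟩, ⟨43, 1, 1, 225, 0, 0⟩, ⟨225, 22, 1, 43, 0, 509⟩, ⟨43, 8, 1, 227, 0, 0⟩, ⟨43, 14, 1, 228, 0, 0⟩, ⟨228, 0, 1, 225, 0, 335⟩, ⟨227, 22, 1, 43, 0, 1019⟩, ⟨227, 1235, 1, 77, 1265, 936⟩, ⟨77, 21, 1, 227, 1373, 31⟩, ⟨43, 21, 1, 229, 0, 0⟩, ⟨43, 29, 1, 230, 0, 0⟩, ⟨230, 0, 1, 227, 0, 270⟩, ⟨227, 0, 1, 230, 0, 270⟩, ⟨229, 22, 1, 43, 0, 1359⟩, ⟨230, 22,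 1, 43, 0, 597⟩, ⟨86, 806, 1, 230, 189, 1496⟩, ⟨200, 221, 1, 39, 600, 115⟩, ⟨200, 1706, 0, 200, 600, 0⟩, ⟨227, 139, 1, 137, 177, 1382⟩, ⟨230, 528, 1, 86, 110, 612⟩, ⟨137, 796, 1, 227, 198, 1472⟩, ⟨225, 350, 1, 43, 1888, 1391⟩, ⟨225, 1523, 0, 225, 1888, 0⟩, ⟨228, 174, 1, 157, 1888, 255⟩]

/-- Justifications, block 10. -/
def pf10 : List Pf :=
  [⟨210, 22, 1, 9, [(0, 22, 0), (2, 638, 0), (0, 371, 0)], []⟩,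
    ⟨0, 0, 0, 0, [], []⟩,
    ⟨0, 0, 0, 0, [], []⟩,
    ⟨211, 22, 1, 9, [(0, 22, 0), (2, 641, 0), (0, 371, 0)], []⟩,
    ⟨212, 22, 1, 9, [(0, 22, 0), (2, 642, 0), (0, 371, 0)], []⟩,
    ⟨108, 653, 1, 21, [(0, 25, 0), (1, 342, 122), (0, 104, 0), (2, 71, 66), (0, 104, 0), (1, 26, 25), (0, 104, 0), (3, 18, 0), (2, 25, 15), (0, 104, 0), (1, 40, 109), (0, 104, 0), (2, 144, 129), (0, 104, 0), (1, 641, 57), (0, 104, 0)], []⟩,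
    ⟨0, 0, 0, 0, [], []⟩,
    ⟨0, 0, 0, 0, [], []⟩,
    ⟨213, 22, 1, 9, [(0, 22, 0), (2, 646, 0), (0, 371, 0)], []⟩,
    ⟨0, 0, 0, 0, [], []⟩,
    ⟨0, 0, 0, 0, [], []⟩,
    ⟨215, 0, 1, 0, [(2, 649, 0), (2, 643, 7)], []⟩,
    ⟨216, 0, 1, 0, [(2, 650, 0), (2, 644, 23)], []⟩,
    ⟨211, 0, 1, 9, [(0, 22, 0), (2, 651, 2), (0, 371, 0)], []⟩,
    ⟨215, 22, 1, 9, [(0, 22, 0), (2, 649, 0), (0, 371, 0)], []⟩,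
    ⟨216, 22, 1, 9, [(0, 22, 0), (2, 650, 0), (0, 371, 0)], []⟩,
    ⟨215, 365, 1, 21, [(0, 25, 0), (1, 654, 144), (0, 104, 0), (2, 142, 135), (0, 104, 0), (1, 42, 93), (0, 104, 0), (2, 23, 174), (0, 104, 0), (3, 18, 0), (1, 23, 165), (0, 104, 0), (2, 62, 162), (0, 104, 0), (1, 269, 44), (0, 104, 0)], []⟩,
    ⟨0, 0, 0, 0, [], []⟩,
    ⟨0, 0, 0, 0, [], []⟩,
    ⟨217, 22, 1, 9, [(0, 22, 0), (2, 657, 0), (0, 371, 0)], []⟩,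
    ⟨218, 22, 1, 9, [(0, 22, 0), (2, 658, 0), (0, 371, 0)], []⟩,
    ⟨59, 242, 1, 11, [(0, 104, 0), (2, 205, 111), (0, 104, 0), (2, 52, 104), (0, 104, 0), (2, 109, 56), (0, 104, 0), (2, 459, 128), (0, 104, 0), (2, 461, 188), (0, 104, 0), (2, 239, 11), (0, 104, 0), (2, 53, 118), (0, 104, 0), (2, 145, 97), (0, 104, 0), (2, 660, 123), (0, 104, 0)], []⟩,
    ⟨0, 0, 0, 0, [], []⟩,
    ⟨0, 0, 0, 0, [], []⟩,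
    ⟨219, 22, 1, 9, [(0, 22, 0), (2, 662, 0), (0, 371, 0)], []⟩,
    ⟨220, 22, 1, 9, [(0, 22, 0), (2, 663, 0), (0, 371, 0)], []⟩,
    ⟨0, 0, 0, 0, [], []⟩,
    ⟨0, 0, 0, 0, [], []⟩,
    ⟨221, 0, 1, 0, [(2, 666, 0), (2, 660, 23)], []⟩,
    ⟨222, 0, 1, 0, [(2, 667, 0), (2, 664, 7)], []⟩,
    ⟨218, 0, 1, 9, [(0, 22, 0), (2, 668, 180), (0, 371, 0)], []⟩,
    ⟨219, 0, 1, 9, [(0, 22, 0), (2, 669, 2), (0, 371, 0)], []⟩,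
    ⟨221, 22, 1, 9, [(0, 22, 0), (2, 666, 0), (0, 371, 0)], []⟩,
    ⟨222, 22, 1, 9, [(0, 22, 0), (2, 667, 0), (0, 371, 0)], []⟩,
    ⟨0, 0, 0, 0, [], []⟩,
    ⟨0, 0, 0, 0, [], []⟩,
    ⟨224, 0, 1, 0, [(2, 675, 0), (2, 443, 42)], []⟩,
    ⟨137, 14, 1, 9, [(0, 22, 0), (2, 676, 144), (0, 371, 0)], []⟩,
    ⟨223, 22, 1, 9, [(0, 22, 0), (2, 674, 0), (0, 371, 0)], []⟩,
    ⟨224, 22, 1, 9, [(0, 22, 0), (2, 675, 0), (0, 371, 0)], []⟩,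
    ⟨42, 74, 2, 11, [(0, 104, 0), (2, 159, 52), (0, 104, 0), (2, 360, 43), (0, 104, 0), (2, 455, 188), (0, 104, 0), (2, 456, 188), (0, 104, 0), (2, 452, 150), (0, 104, 0), (2, 235, 116), (0, 104, 0), (2, 53, 67), (0, 104, 0), (2, 145, 114), (0, 104, 0), (2, 679, 44), (0, 104, 0)], [(1, 675, 1)]⟩,
    ⟨0, 0, 0, 0, [], []⟩,
    ⟨225, 22, 1, 9, [(0, 22, 0), (2, 681, 0), (0, 371, 0)], []⟩,
    ⟨0, 0, 0, 0, [], []⟩,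
    ⟨0, 0, 0, 0, [], []⟩,
    ⟨228, 0, 1, 0, [(2, 684, 0), (2, 682, 23)], []⟩,
    ⟨227, 22, 1, 9, [(0, 22, 0), (2, 683, 0), (0, 371, 0)], []⟩,
    ⟨227, 1235, 1, 21, [(0, 25, 0), (1, 686, 105), (0, 104, 0), (2, 154, 136), (0, 104, 0), (1, 95, 145), (0, 104, 0), (2, 29, 126), (0, 104, 0), (3, 18, 0), (3, 18, 0), (1, 23, 4), (0, 104, 0), (2, 62, 147), (0, 104, 0), (1, 260, 37), (0, 104, 0)], []⟩,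
    ⟨77, 21, 1, 9, [(0, 22, 0), (2, 687, 29), (0, 371, 0)], []⟩,
    ⟨0, 0, 0, 0, [], []⟩,
    ⟨0, 0, 0, 0, [], []⟩,
    ⟨230, 0, 1, 0, [(2, 690, 0), (2, 686, 7)], []⟩,
    ⟨227, 0, 1, 9, [(0, 22, 0), (2, 691, 2), (0, 371, 0)], []⟩,
    ⟨229, 22, 1, 9, [(0, 22, 0), (2, 689, 0), (0, 371, 0)], []⟩,
    ⟨230, 22, 1, 9, [(0, 22, 0), (2, 690, 0), (0, 371, 0)], []⟩,
    ⟨86, 806, 1, 21, [(0, 25, 0), (1, 282, 93), (0, 104, 0), (3, 69, 0), (2, 65, 48), (0, 104, 0), (1, 26, 136), (0, 104, 0), (2, 33, 15), (0, 104, 0), (1, 91, 109), (0, 104, 0), (3, 92, 0), (2, 155, 51), (0, 104, 0), (1, 690, 98), (0, 104, 0)], []⟩,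
    ⟨200, 221, 1, 21, [(0, 25, 0), (1, 617, 69), (0, 104, 0), (2, 148, 140), (0, 104, 0), (1, 690, 17), (0, 104, 0), (2, 695, 99), (0, 104, 0), (3, 281, 0), (1, 695, 119), (0, 104, 0), (2, 690, 33), (0, 104, 0), (1, 148, 87), (0, 104, 0)], []⟩,
    ⟨39, 115, 2, 0, [(2, 617, 14)], [(2, 696, 0)]⟩,
    ⟨227, 139, 1, 21, [(0, 25, 0), (1, 686, 63), (0, 104, 0), (2, 150, 66), (0, 104, 0), (1, 613, 181), (0, 104, 0), (3, 697, 0), (2, 613, 92), (0, 104, 0), (1, 138, 106), (0, 104, 0), (2, 145, 70), (0, 104, 0), (1, 442, 142), (0, 104, 0)], []⟩,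
    ⟨230, 528, 1, 21, [(0, 25, 0), (1, 691, 137), (0, 104, 0), (2, 688, 96), (0, 104, 0), (1, 264, 80), (0, 104, 0), (2, 56, 28), (0, 104, 0), (1, 27, 152), (0, 104, 0), (2, 67, 83), (0, 104, 0), (1, 280, 40), (0, 104, 0)], []⟩,
    ⟨137, 796, 1, 22, [(0, 104, 0), (1, 443, 50), (0, 104, 0), (2, 143, 186), (0, 25, 0), (1, 146, 71), (0, 104, 0), (2, 694, 176), (0, 104, 0), (1, 699, 111), (0, 104, 0), (3, 281, 0), (2, 699, 39), (0, 104, 0), (1, 691, 66), (0, 104, 0)], []⟩,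
    ⟨225, 350, 1, 22, [(0, 104, 0), (1, 682, 132), (0, 104, 0), (2, 686, 79), (0, 25, 0), (1, 698, 32), (0, 104, 0), (2, 438, 48), (0, 104, 0), (3, 100, 0), (1, 438, 48), (0, 104, 0), (2, 698, 32), (0, 104, 0), (1, 686, 124), (0, 104, 0)], []⟩,
    ⟨43, 1391, 2, 0, [(2, 682, 178)], [(2, 701, 0)]⟩,
    ⟨228, 174, 1, 22, [(0, 104, 0), (1, 685, 79), (0, 104, 0), (3, 702, 0), (2, 681, 158), (0, 25, 0), (1, 152, 39), (0, 104, 0), (2, 40, 58), (0, 104, 0), (1, 39, 16), (0, 104, 0), (2, 114, 61), (0, 104, 0), (1, 509, 175), (0, 104, 0)], []⟩]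

/-- Facts, block 11. -/
def fc11 : List Fc :=
  [⟨229, 294, 1, 59, 1888, 948⟩, ⟨110, 831, 1, 227, 880, 1362⟩, ⟨111, 831, 1, 71, 880, 1186⟩, ⟨71, 15, 1, 111, 1240, 133⟩, ⟨227, 1, 1, 110, 1240, 1109⟩, ⟨71, 39, 1, 167, 337, 799⟩, ⟨72, 390, 1, 155, 1234, 1688⟩, ⟨155, 1584, 0, 155, 1912, 0⟩, ⟨91, 0, 0, 33, 1912, 19⟩, ⟨158, 0, 0, 20, 1912, 1315⟩, ⟨154, 0, 0, 95, 1912, 709⟩, ⟨81, 213, 1, 112, 989, 1480⟩, ⟨112, 278, 1, 81, 1012, 135⟩, ⟨112, 341, 1, 148, 599, 166⟩, ⟨127, 218, 1, 11, 1669, 1619⟩, ⟨127, 0, 0, 36, 1669, 971⟩, ⟨179, 0, 0, 26, 1767, 1897⟩, ⟨175, 0, 0, 130, 1767, 1148⟩, ⟨26, 104, 0, 26, 1639, 0⟩, ⟨129, 0, 0, 8, 1639, 102⟩, ⟨125, 0, 0, 22, 681, 1576⟩, ⟨58, 0, 0, 36, 1653, 1588⟩, ⟨128, 3, 0, 128, 1639, 0⟩, ⟨132, 0, 0, 130, 1639, 1354⟩, ⟨131, 1853, 0, 131, 1639, 0⟩, ⟨64, 0,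 0, 23, 1325, 979⟩, ⟨30, 0, 0, 19, 477, 1022⟩, ⟨114, 0, 0, 103, 1793, 880⟩, ⟨103, 1259, 1, 24, 1748, 854⟩, ⟨103, 880, 1, 118, 1748, 335⟩, ⟨107, 0, 0, 25, 648, 1586⟩, ⟨176, 0, 0, 15, 1776, 966⟩, ⟨180, 0, 0, 61, 1776, 224⟩, ⟨109, 0, 0, 52, 374, 1876⟩, ⟨111, 0, 0, 15, 1069, 712⟩, ⟨88, 0, 0, 10, 705, 289⟩, ⟨86, 0, 0, 29, 1087, 1865⟩, ⟨139, 0, 0, 87, 477, 675⟩, ⟨87, 443, 1, 68, 1474, 684⟩, ⟨140, 0, 0, 85, 477, 862⟩, ⟨85, 966, 1, 116, 678, 630⟩, ⟨71, 0, 0, 11, 954, 989⟩, ⟨230, 0, 0, 137, 687, 483⟩, ⟨67, 0, 0, 33, 954, 371⟩, ⟨37, 0, 0, 16, 1177, 1600⟩, ⟨167, 0, 0, 35, 1717, 192⟩, ⟨183, 0, 0, 69, 1177, 923⟩, ⟨69, 806, 1, 51, 878, 1515⟩, ⟨187, 0, 0, 65, 1177, 339⟩, ⟨65, 98, 1, 115, 954, 944⟩, ⟨173, 0, 0, 46, 89, 609⟩, ⟨46, 609, 1, 169, 93, 335⟩, ⟨130, 218, 1, 169, 1069, 1276⟩, ⟨130,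 407, 1, 34, 1866, 255⟩, ⟨162, 0, 0, 130, 1837, 53⟩, ⟨130, 53, 1, 165, 1866, 335⟩, ⟨131, 500, 1, 128, 1127, 642⟩, ⟨131, 553, 1, 85, 1416, 1491⟩, ⟨151, 0, 0, 128, 1214, 1303⟩, ⟨128, 1303, 1, 147, 1236, 335⟩, ⟨128, 1091, 1, 32, 1236, 1359⟩, ⟨131, 1189, 1, 108, 1858, 459⟩, ⟨131, 1289, 1, 190, 778, 1601⟩, ⟨108, 0, 0, 32, 170, 1176⟩]

/-- Justifications, block 11. -/
def pf11 : List Pf :=
  [⟨229, 294, 1, 22, [(0, 104, 0), (1, 693, 83), (0, 104, 0), (2, 682, 28), (0, 25, 0), (1, 701, 120), (0, 104, 0), (2, 146, 15), (0, 104, 0), (1, 42, 97), (0, 104, 0), (2, 54, 81), (0, 104, 0), (1, 205, 104), (0, 104, 0)], []⟩,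
    ⟨110, 831, 1, 23, [(0, 104, 0), (1, 346, 138), (0, 104, 0), (2, 74, 22), (0, 104, 0), (1, 26, 56), (0, 104, 0), (2, 34, 27), (0, 25, 0), (3, 32, 0), (1, 99, 177), (0, 104, 0), (3, 100, 0), (2, 440, 107), (0, 104, 0), (1, 700, 78), (0, 104, 0)], []⟩,
    ⟨111, 831, 1, 23, [(0, 104, 0), (1, 351, 138), (0, 104, 0), (2, 346, 69), (0, 104, 0), (1, 705, 35), (0, 104, 0), (2, 683, 133), (0, 25, 0), (1, 152, 83), (0, 104, 0), (2, 51, 93), (0, 104, 0), (1, 248, 135), (0, 104, 0)], []⟩,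
    ⟨71, 15, 1, 9, [(0, 22, 0), (2, 706, 28), (0, 371, 0)], []⟩,
    ⟨227, 1, 1, 9, [(0, 22, 0), (2, 705, 32), (0, 371, 0)], []⟩,
    ⟨71, 39, 1, 21, [(0, 25, 0), (1, 707, 12), (0, 104, 0), (2, 347, 10), (0, 104, 0), (1, 76, 52), (0, 104, 0), (3, 69, 0), (2, 65, 114), (0, 104, 0), (1, 75, 133), (0, 104, 0), (2, 165, 133), (0, 104, 0), (1, 538, 139), (0, 104, 0)], []⟩,
    ⟨72, 390, 1, 21, [(0, 25, 0), (3, 255, 0), (1, 254, 71), (0, 104, 0), (2, 253, 21), (0, 104, 0), (1, 709, 71), (0, 104, 0), (2, 534, 139), (0, 104, 0), (1, 124, 7), (0, 104, 0), (2, 114, 180), (0, 104, 0), (1, 503, 70), (0, 104, 0)], []⟩,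
    ⟨72, 1716, 2, 0, [(1, 710, 43)], [(3, 255, 0), (1, 710, 0)]⟩,
    ⟨155, 1584, 2, 0, [(2, 507, 73)], [(3, 711, 0), (2, 503, 0)]⟩,
    ⟨33, 52, 2, 0, [(1, 510, 75)], [(4, 712, 0), (1, 295, 0)]⟩,
    ⟨33, 19, 2, 0, [(1, 500, 4)], [(4, 712, 0), (1, 308, 0)]⟩,
    ⟨81, 213, 1, 21, [(0, 25, 0), (1, 274, 183), (0, 104, 0), (3, 64, 0), (2, 57, 57), (0, 104, 0), (1, 49, 91), (0, 104, 0), (2, 253, 102), (0, 104, 0), (1, 707, 104), (0, 104, 0), (2, 347, 23), (0, 104, 0), (1, 348, 29), (0, 104, 0)], []⟩,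
    ⟨112, 278, 1, 21, [(0, 25, 0), (1, 349, 10), (0, 104, 0), (2, 708, 149), (0, 104, 0), (1, 686, 138), (0, 104, 0), (2, 146, 22), (0, 104, 0), (1, 42, 56), (0, 104, 0), (2, 63, 27), (0, 104, 0), (3, 64, 0), (1, 272, 45), (0, 104, 0)], []⟩,
    ⟨112, 341, 1, 21, [(0, 25, 0), (1, 716, 134), (0, 104, 0), (2, 272, 169), (0, 104, 0), (1, 63, 108), (0, 104, 0), (2, 42, 19), (0, 104, 0), (1, 147, 188), (0, 104, 0), (2, 498, 27), (0, 104, 0), (1, 493, 104), (0, 104, 0)], []⟩,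
    ⟨127, 218, 1, 21, [(0, 25, 0), (1, 403, 149), (0, 104, 0), (2, 84, 114), (0, 104, 0), (1, 65, 160), (0, 104, 0), (3, 69, 0), (2, 65, 96), (0, 104, 0), (1, 66, 80), (0, 104, 0), (2, 295, 157), (3, 712, 0), (0, 104, 0), (1, 114, 157), (0, 104, 0)], []⟩,
    ⟨11, 1619, 2, 0, [(2, 718, 0)], [(2, 125, 30)]⟩,
    ⟨36, 127, 2, 0, [(1, 572, 78)], [(4, 719, 0), (1, 403, 0)]⟩,
    ⟨36, 971, 2, 0, [(1, 560, 191)], [(4, 719, 0), (1, 410, 0)]⟩,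
    ⟨179, 563, 2, 0, [(3, 720, 0)], [(3, 576, 0), (3, 720, 0)]⟩,
    ⟨26, 104, 2, 0, [(2, 411, 22)], [(3, 722, 0), (2, 84, 0)]⟩,
    ⟨26, 104, 2, 0, [(1, 399, 179)], [(3, 722, 0), (1, 86, 0)]⟩,
    ⟨26, 540, 2, 0, [(3, 722, 0), (1, 203, 0)], [(1, 401, 71), (3, 719, 0)]⟩,
    ⟨26, 16, 2, 0, [(1, 402, 1)], [(3, 722, 0), (1, 402, 0)]⟩,
    ⟨26, 272, 2, 0, [(1, 416, 53)], [(3, 722, 0), (1, 406, 0)]⟩,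
    ⟨26, 90, 2, 0, [(1, 415, 88)], [(3, 722, 0), (1, 415, 0)]⟩,
    ⟨8, 216, 2, 0, [(4, 723, 0), (1, 413, 0)], [(1, 74, 4)]⟩,
    ⟨8, 450, 2, 0, [(4, 723, 0), (1, 414, 0)], [(1, 65, 180)]⟩,
    ⟨22, 1576, 2, 0, [(4, 724, 0), (1, 393, 0)], [(1, 321, 55)]⟩,
    ⟨103, 1259, 1, 0, [(4, 731, 0), (1, 355, 0)], []⟩,
    ⟨103, 880, 1, 0, [(4, 731, 0), (1, 369, 0)], []⟩,
    ⟨22, 1026, 2, 0, [(1, 336, 84)], [(4, 724, 0), (1, 397, 0)]⟩,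
    ⟨36, 1041, 2, 0, [(1, 561, 94)], [(4, 725, 0), (1, 202, 0)]⟩,
    ⟨36, 1588, 2, 0, [(1, 573, 108)], [(4, 725, 0), (1, 213, 0)]⟩,
    ⟨23, 979, 2, 0, [(3, 82, 0), (1, 343, 111)], [(4, 729, 0), (1, 220, 0)]⟩,
    ⟨23, 1307, 2, 0, [(3, 82, 0), (1, 347, 86)], [(4, 729, 0), (1, 224, 0)]⟩,
    ⟨19, 1420, 2, 0, [(1, 284, 162)], [(4, 730, 0), (1, 104, 0)]⟩,
    ⟨19, 1022, 2, 0, [(1, 280, 42)], [(4, 730, 0), (1, 106, 0)]⟩,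
    ⟨19, 1401, 2, 0, [(4, 730, 0), (1, 448, 0)], [(1, 283, 148)]⟩,
    ⟨87, 443, 1, 0, [(4, 741, 0), (1, 454, 0)], []⟩,
    ⟨19, 629, 2, 0, [(4, 730, 0), (1, 449, 0)], [(1, 279, 38)]⟩,
    ⟨85, 966, 1, 0, [(4, 743, 0), (1, 455, 0)], []⟩,
    ⟨15, 1482, 2, 0, [(4, 738, 0), (1, 706, 0)], [(1, 50, 181)]⟩,
    ⟨29, 1601, 2, 0, [(4, 740, 0), (1, 695, 0)], [(3, 100, 0), (1, 438, 179)]⟩,
    ⟨11, 989, 2, 0, [(4, 745, 0), (1, 250, 0)], [(1, 112, 103)]⟩,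
    ⟨11, 131, 2, 0, [(1, 126, 17)], [(4, 745, 0), (1, 253, 0)]⟩,
    ⟨11, 858, 2, 0, [(4, 745, 0), (1, 709, 0)], [(1, 118, 102)]⟩,
    ⟨16, 1264, 2, 0, [(4, 748, 0), (1, 583, 0)], [(1, 238, 97)]⟩,
    ⟨69, 806, 1, 0, [(4, 750, 0), (1, 586, 0)], []⟩,
    ⟨16, 1399, 2, 0, [(4, 748, 0), (1, 587, 0)], [(1, 226, 123)]⟩,
    ⟨65, 98, 1, 0, [(4, 752, 0), (1, 590, 0)], []⟩,
    ⟨35, 1077, 2, 0, [(1, 552, 10)], [(4, 749, 0), (1, 539, 0)]⟩,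
    ⟨46, 609, 1, 0, [(4, 754, 0), (1, 554, 0)], []⟩,
    ⟨130, 218, 1, 21, [(0, 25, 0), (1, 412, 149), (0, 104, 0), (2, 84, 96), (0, 104, 0), (1, 74, 105), (0, 104, 0), (2, 351, 59), (3, 738, 0), (0, 104, 0), (1, 50, 186), (0, 104, 0), (2, 124, 71), (0, 104, 0), (1, 540, 53), (0, 104, 0)], []⟩,
    ⟨130, 407, 1, 21, [(0, 25, 0), (1, 412, 28), (0, 104, 0), (2, 84, 130), (0, 104, 0), (1, 26, 5), (0, 104, 0), (3, 18, 0), (2, 25, 10), (0, 104, 0), (1, 49, 147), (0, 104, 0), (2, 253, 4), (3, 745, 0), (0, 104, 0), (1, 113, 175), (0, 104, 0)], []⟩,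
    ⟨34, 255, 2, 0, [(2, 524, 191)], [(2, 757, 0)]⟩,
    ⟨130, 53, 1, 0, [(4, 758, 0), (1, 530, 0)], []⟩,
    ⟨131, 500, 1, 21, [(0, 25, 0), (1, 420, 37), (0, 104, 0), (2, 84, 37), (0, 104, 0), (1, 70, 174), (0, 104, 0), (2, 117, 24), (0, 104, 0), (1, 522, 175), (3, 758, 0), (0, 104, 0), (2, 406, 172), (0, 104, 0), (1, 402, 145), (0, 104, 0)], []⟩,
    ⟨131, 553, 1, 21, [(0, 25, 0), (1, 417, 50), (0, 104, 0), (3, 726, 0), (2, 760, 84), (0, 104, 0), (3, 728, 0), (1, 760, 145), (0, 104, 0), (2, 402, 107), (0, 104, 0), (1, 90, 185), (0, 104, 0), (2, 67, 75), (0, 104, 0), (3, 69, 0), (1, 279, 128), (0, 104, 0)], []⟩,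
    ⟨131, 985, 2, 21, [(0, 25, 0), (1, 761, 99), (0, 104, 0), (2, 279, 115), (0, 104, 0), (1, 78, 39), (0, 104, 0), (2, 351, 38), (3, 738, 0), (0, 104, 0), (1, 198, 167), (3, 725, 0), (0, 104, 0), (2, 123, 121), (0, 104, 0), (1, 490, 9), (0, 104, 0)], [(3, 728, 0), (1, 760, 68)]⟩,
    ⟨128, 1303, 1, 0, [(4, 762, 0), (1, 492, 0)], []⟩,
    ⟨128, 1091, 1, 0, [(4, 762, 0), (1, 495, 0)], []⟩,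
    ⟨131, 1189, 1, 21, [(0, 25, 0), (1, 761, 28), (0, 104, 0), (2, 279, 158), (0, 104, 0), (1, 67, 82), (0, 104, 0), (2, 24, 40), (0, 104, 0), (3, 18, 0), (1, 24, 170), (0, 104, 0), (2, 73, 44), (0, 104, 0), (1, 337, 73), (0, 104, 0)], []⟩,
    ⟨131, 1289, 1, 21, [(0, 25, 0), (3, 728, 0), (1, 765, 47), (0, 104, 0), (2, 337, 60), (0, 104, 0), (1, 88, 191), (0, 104, 0), (2, 412, 181), (0, 104, 0), (1, 757, 182), (0, 104, 0), (2, 129, 179), (0, 104, 0), (1, 591, 19), (0, 104, 0)], []⟩,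
    ⟨131, 1290, 2, 21, [(3, 728, 0), (1, 765, 4)], [(0, 25, 0), (1, 765, 58), (0, 104, 0), (2, 337, 58), (0, 104, 0), (1, 336, 146), (3, 734, 0), (0, 104, 0), (2, 83, 122), (0, 104, 0), (1, 84, 41), (0, 104, 0), (2, 204, 101), (3, 725, 0), (0, 104, 0), (1, 121, 131), (0, 104, 0)]⟩]

/-- Facts, block 12. -/
def fc12 : List Fc :=
  [⟨145, 0, 0, 104, 178, 1205⟩, ⟨104, 1142, 1, 93, 895, 1678⟩, ⟨149, 0, 0, 22, 178, 704⟩, ⟨211, 0, 0, 128, 630, 1418⟩, ⟨103, 0, 0, 55, 1630, 1840⟩, ⟨55, 1840, 1, 25, 1817, 1635⟩, ⟨55, 616, 1, 24, 534, 854⟩, ⟨55, 765, 1, 118, 534, 335⟩, ⟨147, 0, 0, 41, 960, 992⟩, ⟨215, 0, 0, 32, 1092, 1746⟩, ⟨204, 0, 0, 14, 1630, 772⟩, ⟨80, 0, 0, 11, 991, 559⟩, ⟨57, 0, 0, 40, 1735, 122⟩, ⟨208, 0, 0, 54, 1630, 1275⟩, ⟨17, 0, 0, 7, 991, 553⟩, ⟨40, 1844, 0, 40, 104, 0⟩,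 ⟨209, 0, 0, 192, 314, 565⟩, ⟨13, 699, 0, 13, 991, 0⟩, ⟨74, 0, 0, 14, 991, 1162⟩, ⟨77, 0, 0, 5, 991, 165⟩, ⟨78, 0, 0, 18, 991, 1113⟩, ⟨79, 0, 0, 12, 991, 894⟩, ⟨207, 0, 0, 12, 104, 1761⟩, ⟨203, 0, 0, 44, 104, 807⟩, ⟨202, 0, 0, 192, 860, 210⟩, ⟨206, 0, 0, 205, 104, 363⟩, ⟨52, 0, 0, 39, 1438, 820⟩, ⟨50, 0, 0, 47, 991, 1866⟩, ⟨51, 0, 0, 48, 991, 536⟩, ⟨48, 382, 1, 69, 1002, 811⟩, ⟨53, 1015, 0, 53, 991, 0⟩, ⟨55, 0, 0, 20, 1367, 1887⟩, ⟨94, 0, 0, 56, 1384, 762⟩, ⟨56, 12, 1, 69, 442, 466⟩, ⟨56, 748, 1, 29, 1648, 1109⟩, ⟨227, 0, 0, 10, 1075, 1369⟩, ⟨82, 0, 0, 22, 1582, 1733⟩, ⟨105, 0, 0, 81, 122, 224⟩, ⟨81, 590, 1, 38, 311, 474⟩, ⟨159, 0, 0, 39, 434, 895⟩, ⟨61, 0, 0, 38, 528, 976⟩, ⟨198, 0, 0, 15, 1738, 621⟩, ⟨201, 0, 0, 23, 1698, 1750⟩, ⟨90, 0, 0, 22, 141, 1337⟩, ⟨93, 0, 0, 25, 591,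 151⟩, ⟨24, 1806, 0, 24, 1343, 0⟩, ⟨118, 0, 0, 8, 1343, 466⟩, ⟨43, 0, 0, 19, 1751, 705⟩, ⟨137, 0, 0, 29, 1203, 1167⟩, ⟨110, 0, 0, 9, 1497, 1514⟩, ⟨200, 0, 0, 155, 257, 1609⟩, ⟨197, 0, 0, 33, 257, 1343⟩, ⟨191, 0, 0, 36, 715, 1411⟩, ⟨194, 0, 0, 15, 803, 758⟩, ⟨135, 0, 0, 28, 1657, 1888⟩, ⟨124, 0, 0, 104, 1152, 575⟩, ⟨104, 575, 1, 121, 1039, 270⟩, ⟨119, 0, 0, 46, 1061, 1889⟩, ⟨113, 675, 0, 113, 1343, 0⟩, ⟨116, 0, 0, 115, 1343, 1308⟩, ⟨117, 1911, 0, 117, 1343, 0⟩, ⟨27, 0, 0, 23, 929, 1013⟩, ⟨87, 0, 0, 39, 1789, 828⟩, ⟨85, 0, 0, 12, 1789, 1729⟩]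

/-- Justifications, block 12. -/
def pf12 : List Pf :=
  [⟨32, 1176, 2, 0, [(1, 470, 174)], [(4, 767, 0), (1, 339, 0)]⟩,
    ⟨104, 1142, 1, 0, [(4, 768, 0), (1, 475, 0)], []⟩,
    ⟨32, 737, 2, 0, [(1, 480, 179)], [(4, 767, 0), (1, 342, 0)]⟩,
    ⟨32, 1781, 2, 0, [(4, 767, 0), (1, 645, 0)], [(1, 490, 129), (3, 762, 0)]⟩,
    ⟨22, 1799, 2, 0, [(1, 321, 186)], [(4, 770, 0), (1, 489, 0)]⟩,
    ⟨55, 1840, 1, 0, [(4, 772, 0), (1, 340, 0), (3, 734, 0)], []⟩,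
    ⟨55, 616, 1, 0, [(4, 772, 0), (1, 732, 0)], []⟩,
    ⟨55, 765, 1, 0, [(4, 772, 0), (1, 733, 0)], []⟩,
    ⟨128, 311, 2, 0, [(3, 726, 0), (1, 763, 135)], [(4, 771, 0), (1, 643, 0)]⟩,
    ⟨128, 1418, 2, 0, [(4, 771, 0), (1, 653, 0)], [(3, 726, 0), (1, 764, 99)]⟩,
    ⟨55, 1869, 2, 0, [(4, 772, 0), (1, 626, 0)], [(1, 193, 110)]⟩,
    ⟨32, 838, 2, 0, [(4, 777, 0), (1, 656, 0)], [(1, 110, 113)]⟩,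
    ⟨14, 1530, 2, 0, [(1, 196, 97)], [(4, 778, 0), (1, 625, 0)]⟩,
    ⟨14, 772, 2, 0, [(4, 778, 0), (1, 633, 0)], [(1, 186, 57)]⟩,
    ⟨11, 699, 2, 0, [(4, 779, 0), (1, 271, 0)], [(1, 41, 126)]⟩,
    ⟨57, 1392, 2, 0, [(3, 780, 0)], [(3, 197, 0), (3, 780, 0)]⟩,
    ⟨40, 51, 2, 0, [(1, 637, 10)], [(4, 780, 0), (1, 597, 0)]⟩,
    ⟨7, 553, 2, 0, [(1, 43, 159)], [(4, 782, 0), (1, 58, 0)]⟩,
    ⟨7, 550, 2, 0, [(4, 782, 0), (1, 256, 0)], [(1, 44, 144)]⟩,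
    ⟨7, 787, 2, 0, [(4, 782, 0), (1, 260, 0)], [(1, 25, 51)]⟩,
    ⟨7, 201, 2, 0, [(4, 782, 0), (1, 261, 0)], [(1, 57, 37)]⟩,
    ⟨7, 438, 2, 0, [(4, 782, 0), (1, 268, 0)], [(1, 40, 78)]⟩,
    ⟨40, 1844, 2, 0, [(2, 634, 117)], [(3, 783, 0), (2, 137, 0)]⟩,
    ⟨40, 1179, 2, 0, [(2, 624, 179)], [(3, 783, 0), (2, 149, 0)]⟩,
    ⟨40, 1651, 2, 0, [(3, 783, 0), (1, 619, 0)], [(1, 637, 101), (3, 784, 0)]⟩,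
    ⟨40, 1870, 2, 0, [(1, 628, 164)], [(3, 783, 0), (1, 627, 0)]⟩,
    ⟨13, 528, 2, 0, [(1, 176, 70)], [(3, 785, 0), (1, 140, 0)]⟩,
    ⟨13, 897, 2, 0, [(1, 171, 120)], [(3, 785, 0), (1, 166, 0)]⟩,
    ⟨13, 365, 2, 0, [(1, 175, 142)], [(3, 785, 0), (1, 167, 0)]⟩,
    ⟨48, 382, 1, 0, [(4, 796, 0), (1, 585, 0), (3, 750, 0)], []⟩,
    ⟨13, 75, 2, 0, [(1, 185, 11)], [(3, 785, 0), (1, 185, 0)]⟩,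
    ⟨14, 1495, 2, 0, [(1, 191, 148)], [(4, 786, 0), (1, 259, 0)]⟩,
    ⟨14, 1160, 2, 0, [(4, 786, 0), (1, 300, 0)], [(3, 47, 0), (1, 192, 159)]⟩,
    ⟨56, 12, 1, 0, [(4, 800, 0), (1, 303, 0)], []⟩,
    ⟨56, 748, 1, 0, [(4, 800, 0), (1, 304, 0)], []⟩,
    ⟨5, 995, 2, 0, [(4, 787, 0), (1, 688, 0)], [(1, 31, 82)]⟩,
    ⟨18, 237, 2, 0, [(3, 64, 0), (1, 273, 131)], [(4, 788, 0), (1, 267, 0)]⟩,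
    ⟨18, 869, 2, 0, [(4, 788, 0), (1, 329, 0)], [(1, 272, 102)]⟩,
    ⟨81, 590, 1, 0, [(4, 805, 0), (1, 335, 0)], []⟩,
    ⟨12, 1225, 2, 0, [(4, 789, 0), (1, 519, 0)], [(1, 136, 79)]⟩,
    ⟨192, 814, 2, 0, [(4, 792, 0), (1, 621, 0)], [(1, 595, 157)]⟩,
    ⟨39, 440, 2, 0, [(1, 610, 142)], [(4, 794, 0), (1, 184, 0)]⟩,
    ⟨39, 1043, 2, 0, [(1, 618, 68)], [(4, 794, 0), (1, 221, 0), (3, 729, 0)]⟩,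
    ⟨20, 1194, 2, 0, [(1, 287, 92)], [(4, 799, 0), (1, 488, 0), (3, 770, 0)]⟩,
    ⟨20, 518, 2, 0, [(1, 297, 40)], [(4, 799, 0), (1, 773, 0)]⟩,
    ⟨20, 1350, 2, 0, [(1, 79, 92)], [(4, 799, 0), (1, 774, 0)]⟩,
    ⟨20, 780, 2, 0, [(4, 799, 0), (1, 775, 0)], [(1, 68, 31)]⟩,
    ⟨10, 1635, 2, 0, [(4, 803, 0), (1, 686, 0)], [(3, 32, 0), (1, 101, 102), (3, 730, 0)]⟩,
    ⟨10, 1369, 2, 0, [(4, 803, 0), (1, 692, 0), (3, 746, 0)], [(3, 32, 0), (3, 32, 0), (1, 99, 184)]⟩,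
    ⟨10, 968, 2, 0, [(4, 803, 0), (1, 708, 0)], [(3, 36, 0), (1, 38, 170)]⟩,
    ⟨39, 895, 2, 0, [(1, 613, 41)], [(4, 807, 0), (1, 515, 0)]⟩,
    ⟨39, 840, 2, 0, [(1, 609, 41)], [(4, 807, 0), (1, 517, 0)]⟩,
    ⟨38, 976, 2, 0, [(1, 593, 36)], [(4, 808, 0), (1, 211, 0), (3, 725, 0)]⟩,
    ⟨38, 693, 2, 0, [(1, 599, 172)], [(4, 808, 0), (1, 215, 0)]⟩,
    ⟨38, 1020, 2, 0, [(4, 808, 0), (1, 433, 0)], [(1, 135, 161)]⟩,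
    ⟨25, 600, 2, 0, [(1, 384, 83)], [(4, 812, 0), (1, 474, 0), (3, 768, 0)]⟩,
    ⟨104, 575, 1, 0, [(4, 823, 0), (1, 386, 0)], []⟩,
    ⟨24, 1845, 2, 0, [(1, 373, 164)], [(3, 813, 0), (1, 164, 0)]⟩,
    ⟨24, 1647, 2, 0, [(1, 352, 148)], [(3, 813, 0), (1, 352, 0)]⟩,
    ⟨24, 1322, 2, 0, [(1, 359, 165)], [(3, 813, 0), (1, 358, 0)]⟩,
    ⟨24, 1339, 2, 0, [(1, 364, 128)], [(3, 813, 0), (1, 364, 0)]⟩,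
    ⟨8, 1010, 2, 0, [(4, 814, 0), (1, 372, 0)], [(1, 74, 173)]⟩,
    ⟨19, 705, 2, 0, [(3, 69, 0), (1, 283, 181)], [(4, 815, 0), (1, 148, 0)]⟩,
    ⟨19, 368, 2, 0, [(3, 69, 0), (1, 279, 6)], [(4, 815, 0), (1, 152, 0)]⟩]

/-- Facts, block 13. -/
def fc13 : List Fc :=
  [⟨228, 0, 0, 8, 1751, 856⟩, ⟨229, 0, 0, 12, 479, 800⟩, ⟨69, 0, 0, 42, 1755, 902⟩, ⟨138, 22, 0, 138, 1584, 0⟩, ⟨224, 0, 0, 56, 961, 921⟩, ⟨112, 0, 0, 28, 1374, 1830⟩, ⟨155, 1595, 0, 155, 1782, 0⟩, ⟨136, 576, 0, 136, 1392, 0⟩, ⟨133, 0, 0, 15, 902, 294⟩, ⟨134, 0, 0, 39, 1812, 227⟩, ⟨196, 0, 0, 68, 889, 956⟩, ⟨68, 956, 1, 199, 1048, 335⟩, ⟨115, 0, 0, 44, 1603, 1789⟩, ⟨44, 1739, 1, 24, 1754, 1019⟩, ⟨44, 1789, 1, 46, 1284, 567⟩, ⟨44, 1743, 1, 65, 258, 65⟩, ⟨157, 0, 0, 22, 36, 1887⟩, ⟨59, 0, 0, 40, 1788, 366⟩, ⟨223, 0,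 0, 65, 1600, 1849⟩, ⟨220, 0, 0, 16, 1600, 1485⟩, ⟨219, 0, 0, 48, 1796, 475⟩, ⟨48, 475, 1, 222, 1804, 270⟩, ⟨56, 1096, 0, 56, 1694, 0⟩, ⟨81, 991, 0, 81, 470, 0⟩, ⟨148, 0, 0, 136, 1518, 1542⟩, ⟨136, 1174, 1, 32, 1511, 1019⟩, ⟨72, 1905, 0, 72, 438, 0⟩, ⟨170, 0, 0, 106, 669, 957⟩, ⟨130, 0, 0, 62, 1598, 596⟩, ⟨62, 596, 1, 36, 348, 289⟩, ⟨62, 65, 1, 26, 1729, 322⟩, ⟨62, 899, 1, 169, 935, 1276⟩, ⟨62, 1030, 1, 34, 1042, 255⟩, ⟨62, 288, 1, 165, 1042, 335⟩, ⟨199, 0, 0, 35, 1147, 1301⟩, ⟨106, 0, 0, 68, 778, 703⟩, ⟨68, 703, 1, 102, 471, 335⟩, ⟨68, 1146, 1, 22, 471, 1209⟩, ⟨68, 867, 1, 136, 445, 372⟩, ⟨68, 1229, 1, 68, 1370, 572⟩, ⟨153, 0, 0, 32, 442, 1378⟩, ⟨104, 0, 0, 33, 24, 1102⟩, ⟨205, 0, 0, 15, 761, 1452⟩, ⟨192, 0, 0, 62, 1047, 467⟩, ⟨218, 0, 0, 44, 949, 1559⟩, ⟨44, 1765, 1, 42, 961,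 509⟩, ⟨54, 0, 0, 18, 1197, 1236⟩, ⟨178, 1900, 0, 178, 333, 0⟩, ⟨152, 0, 0, 32, 1844, 328⟩, ⟨181, 0, 0, 68, 313, 918⟩, ⟨68, 918, 1, 177, 260, 270⟩, ⟨68, 711, 1, 36, 260, 597⟩, ⟨156, 0, 0, 25, 188, 537⟩, ⟨160, 0, 0, 121, 188, 111⟩, ⟨165, 0, 0, 38, 264, 1803⟩, ⟨195, 0, 0, 34, 441, 1649⟩, ⟨221, 0, 0, 65, 55, 855⟩, ⟨65, 1426, 1, 42, 101, 1209⟩, ⟨84, 0, 0, 14, 1080, 1535⟩, ⟨83, 0, 0, 40, 539, 1253⟩, ⟨146, 0, 0, 44, 139, 1353⟩, ⟨44, 1353, 1, 150, 133, 270⟩, ⟨166, 0, 0, 11, 111, 45⟩, ⟨121, 0, 0, 21, 1304, 1049⟩]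

/-- Justifications, block 13. -/
def pf13 : List Pf :=
  [⟨19, 773, 2, 0, [(4, 815, 0), (1, 684, 0)], [(1, 67, 59)]⟩,
    ⟨19, 76, 2, 0, [(4, 815, 0), (1, 689, 0)], [(1, 279, 13), (3, 831, 0)]⟩,
    ⟨29, 854, 2, 0, [(3, 100, 0), (1, 246, 165)], [(4, 816, 0), (1, 443, 0)]⟩,
    ⟨29, 1804, 2, 0, [(1, 439, 169)], [(4, 816, 0), (1, 445, 0)]⟩,
    ⟨29, 703, 2, 0, [(4, 816, 0), (1, 677, 0)], [(3, 100, 0), (1, 302, 190), (3, 800, 0)]⟩,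
    ⟨9, 1514, 2, 0, [(4, 817, 0), (1, 350, 0)], [(3, 30, 0), (1, 93, 106)]⟩,
    ⟨200, 1706, 2, 0, [(3, 818, 0)], [(3, 697, 0), (3, 818, 0)]⟩,
    ⟨28, 1100, 2, 0, [(1, 430, 57)], [(4, 822, 0), (1, 437, 0)]⟩,
    ⟨23, 1321, 2, 0, [(4, 829, 0), (1, 421, 0)], [(3, 82, 0), (1, 347, 140), (3, 738, 0)]⟩,
    ⟨23, 916, 2, 0, [(4, 829, 0), (1, 422, 0)], [(3, 82, 0), (1, 343, 135), (3, 737, 0), (3, 794, 0)]⟩,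
    ⟨39, 1225, 2, 0, [(1, 604, 79)], [(4, 830, 0), (1, 742, 0)]⟩,
    ⟨68, 956, 1, 0, [(4, 842, 0), (1, 615, 0)], []⟩,
    ⟨12, 354, 2, 0, [(4, 831, 0), (1, 744, 0), (3, 827, 0)], [(1, 147, 185)]⟩,
    ⟨44, 1739, 1, 0, [(4, 844, 0), (1, 362, 0)], []⟩,
    ⟨44, 1789, 1, 0, [(4, 844, 0), (1, 376, 0), (3, 825, 0)], []⟩,
    ⟨44, 1743, 1, 0, [(4, 844, 0), (1, 589, 0), (3, 752, 0)], []⟩,
    ⟨8, 1228, 2, 0, [(4, 832, 0), (1, 703, 0)], [(1, 71, 53)]⟩,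
    ⟨12, 1380, 2, 0, [(4, 833, 0), (1, 704, 0)], [(1, 137, 113)]⟩,
    ⟨42, 902, 2, 0, [(1, 674, 172)], [(4, 834, 0), (1, 240, 0)]⟩,
    ⟨42, 965, 2, 0, [(1, 663, 21)], [(4, 834, 0), (1, 244, 0)]⟩,
    ⟨42, 1647, 2, 0, [(1, 662, 148)], [(4, 834, 0), (1, 751, 0), (3, 796, 0)]⟩,
    ⟨48, 475, 1, 0, [(4, 852, 0), (1, 671, 0)], []⟩,
    ⟨224, 1635, 2, 0, [(3, 836, 0)], [(3, 680, 0), (3, 836, 0)]⟩,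
    ⟨28, 1706, 2, 0, [(1, 333, 97), (3, 805, 0)], [(4, 837, 0), (1, 716, 0)]⟩,
    ⟨28, 447, 2, 0, [(4, 837, 0), (1, 717, 0)], [(3, 94, 0), (1, 430, 108)]⟩,
    ⟨136, 1174, 1, 0, [(4, 856, 0), (1, 479, 0)], []⟩,
    ⟨155, 618, 2, 0, [(2, 710, 38)], [(3, 838, 0), (2, 710, 0)]⟩,
    ⟨136, 948, 2, 0, [(2, 548, 10)], [(3, 839, 0), (2, 434, 0)]⟩,
    ⟨15, 179, 2, 0, [(4, 840, 0), (1, 428, 0), (3, 727, 0)], [(1, 210, 27)]⟩,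
    ⟨62, 596, 1, 0, [(4, 860, 0), (1, 408, 0), (3, 719, 0)], []⟩,
    ⟨62, 65, 1, 0, [(4, 860, 0), (1, 412, 0)], []⟩,
    ⟨62, 899, 1, 0, [(4, 860, 0), (1, 756, 0)], []⟩,
    ⟨62, 1030, 1, 0, [(4, 860, 0), (1, 757, 0)], []⟩,
    ⟨62, 288, 1, 0, [(4, 860, 0), (1, 759, 0)], []⟩,
    ⟨39, 492, 2, 0, [(1, 612, 145)], [(4, 841, 0), (1, 426, 0)]⟩,
    ⟨39, 458, 2, 0, [(4, 841, 0), (1, 543, 0), (3, 859, 0)], [(1, 604, 78), (3, 842, 0)]⟩,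
    ⟨68, 703, 1, 0, [(4, 867, 0), (1, 328, 0)], []⟩,
    ⟨68, 1146, 1, 0, [(4, 867, 0), (1, 332, 0)], []⟩,
    ⟨68, 867, 1, 0, [(4, 867, 0), (1, 434, 0)], []⟩,
    ⟨68, 1229, 1, 0, [(4, 867, 0), (1, 546, 0), (3, 859, 0), (3, 867, 0)], []⟩,
    ⟨22, 1887, 2, 0, [(4, 848, 0), (1, 511, 0)], [(1, 337, 95), (3, 767, 0)]⟩,
    ⟨22, 1774, 2, 0, [(1, 322, 131)], [(4, 848, 0), (1, 512, 0)]⟩,
    ⟨40, 38, 2, 0, [(1, 628, 11), (3, 793, 0)], [(4, 849, 0), (1, 207, 0)]⟩,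
    ⟨40, 366, 2, 0, [(1, 619, 122), (3, 792, 0)], [(4, 849, 0), (1, 214, 0)]⟩,
    ⟨40, 9, 2, 0, [(4, 849, 0), (1, 661, 0)], [(1, 622, 1), (3, 791, 0)]⟩,
    ⟨44, 1765, 1, 0, [(4, 876, 0), (1, 660, 0)], []⟩,
    ⟨81, 991, 2, 0, [(2, 636, 182), (3, 781, 0)], [(3, 855, 0), (2, 272, 0)]⟩,
    ⟨81, 1304, 2, 0, [(1, 570, 5)], [(3, 855, 0), (1, 570, 0)]⟩,
    ⟨136, 1542, 2, 0, [(4, 856, 0), (1, 494, 0)], [(3, 839, 0), (1, 857, 150)]⟩,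
    ⟨72, 1905, 2, 0, [(3, 255, 0), (1, 581, 45)], [(3, 858, 0), (1, 251, 0)]⟩,
    ⟨68, 918, 1, 0, [(4, 881, 0), (1, 578, 0)], []⟩,
    ⟨68, 711, 1, 0, [(4, 881, 0), (1, 580, 0)], []⟩,
    ⟨33, 1492, 2, 0, [(1, 504, 172)], [(4, 873, 0), (1, 769, 0), (3, 812, 0)]⟩,
    ⟨33, 633, 2, 0, [(1, 514, 72)], [(4, 873, 0), (1, 824, 0)]⟩,
    ⟨62, 90, 2, 0, [(1, 865, 32)], [(4, 875, 0), (1, 595, 0)]⟩,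
    ⟨62, 467, 2, 0, [(4, 875, 0), (1, 606, 0)], [(1, 864, 149)]⟩,
    ⟨44, 1559, 2, 0, [(4, 876, 0), (1, 670, 0)], [(1, 847, 50)]⟩,
    ⟨65, 1426, 1, 0, [(4, 888, 0), (1, 672, 0)], []⟩,
    ⟨18, 1639, 2, 0, [(1, 278, 23)], [(4, 878, 0), (1, 190, 0)]⟩,
    ⟨18, 1236, 2, 0, [(1, 277, 167)], [(4, 878, 0), (1, 200, 0), (3, 780, 0)]⟩,
    ⟨32, 327, 2, 0, [(1, 471, 6)], [(4, 880, 0), (1, 498, 0)]⟩,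
    ⟨44, 1353, 1, 0, [(4, 892, 0), (1, 485, 0)], []⟩,
    ⟨32, 749, 2, 0, [(4, 880, 0), (1, 533, 0)], [(1, 110, 52)]⟩,
    ⟨34, 955, 2, 0, [(4, 887, 0), (1, 608, 0)], [(1, 117, 52)]⟩]

/-- Facts, block 14. -/
def fc14 : List Fc :=
  [⟨34, 1461, 0, 34, 111, 0⟩, ⟨98, 0, 0, 25, 1582, 1116⟩, ⟨101, 0, 0, 33, 1301, 879⟩, ⟨21, 1341, 0, 21, 146, 0⟩, ⟨65, 1359, 0, 65, 576, 0⟩, ⟨161, 0, 0, 38, 538, 1236⟩, ⟨164, 0, 0, 62, 412, 1142⟩, ⟨97, 0, 0, 8, 146, 1738⟩, ⟨100, 0, 0, 25, 146, 394⟩, ⟨96, 0, 0, 25, 547, 759⟩, ⟨99, 0, 0, 33, 968, 1627⟩, ⟨210, 0, 0, 190, 952, 503⟩, ⟨216, 0, 0, 128, 969, 130⟩, ⟨212, 0, 0, 26, 969, 703⟩, ⟨131, 0, 0, 41, 871, 313⟩, ⟨41, 104, 0, 41, 1594, 0⟩, ⟨213, 0, 0, 128, 1349, 1583⟩, ⟨214, 0, 0, 12, 1594, 116⟩, ⟨190, 0, 0, 45, 782, 1545⟩, ⟨45, 1776, 1, 38, 616, 509⟩,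 ⟨45, 1545, 1, 193, 616, 335⟩, ⟨45, 19, 0, 45, 1844, 0⟩, ⟨217, 0, 0, 32, 264, 131⟩, ⟨136, 11, 1, 136, 1608, 90⟩, ⟨136, 24, 1, 120, 434, 1331⟩, ⟨120, 1899, 0, 120, 1817, 0⟩, ⟨92, 0, 0, 35, 693, 1465⟩, ⟨172, 0, 0, 89, 693, 849⟩, ⟨168, 0, 0, 20, 693, 366⟩, ⟨171, 0, 0, 138, 975, 1619⟩, ⟨138, 45, 1, 126, 962, 690⟩, ⟨138, 47, 1, 95, 1729, 1812⟩, ⟨126, 52, 0, 126, 1014, 0⟩, ⟨141, 0, 0, 35, 1370, 1609⟩, ⟨31, 861, 0, 31, 1370, 0⟩, ⟨142, 0, 0, 11, 1726, 1017⟩, ⟨70, 0, 0, 46, 880, 1897⟩, ⟨46, 1897, 1, 66, 1240, 270⟩, ⟨46, 1915, 1, 16, 1240, 322⟩, ⟨143, 1909, 0, 143, 1370, 0⟩, ⟨95, 0, 0, 66, 142, 1309⟩, ⟨66, 1309, 1, 33, 1206, 134⟩, ⟨66, 964, 1, 20, 102, 597⟩, ⟨138, 310, 1, 138, 1694, 1885⟩, ⟨143, 10, 1, 33, 1741, 170⟩, ⟨155, 0, 0, 143, 1741, 1464⟩, ⟨143, 1464, 1, 39, 1758, 1363⟩, ⟨144,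 0, 0, 72, 292, 67⟩, ⟨72, 643, 1, 31, 442, 1359⟩, ⟨150, 2, 1, 32, 1064, 438⟩, ⟨150, 86, 0, 150, 973, 0⟩, ⟨150, 65, 1, 150, 1452, 856⟩, ⟨150, 69, 1, 44, 118, 1434⟩, ⟨169, 2, 1, 46, 1302, 1502⟩, ⟨169, 41, 1, 35, 1919, 604⟩, ⟨169, 1594, 0, 169, 1919, 0⟩, ⟨169, 54, 1, 89, 865, 1890⟩, ⟨169, 65, 1, 62, 945, 355⟩, ⟨169, 109, 1, 48, 1126, 1096⟩, ⟨48, 208, 0, 48, 1273, 0⟩, ⟨174, 33, 1, 24, 1584, 365⟩, ⟨174, 0, 0, 113, 1584, 337⟩, ⟨113, 656, 1, 36, 1584, 509⟩, ⟨113, 1259, 1, 117, 1547, 1266⟩]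

/-- Justifications, block 14. -/
def pf14 : List Pf :=
  [⟨11, 440, 2, 0, [(1, 113, 142)], [(4, 894, 0), (1, 531, 0)]⟩,
    ⟨21, 797, 2, 0, [(1, 311, 36)], [(4, 895, 0), (1, 381, 0)]⟩,
    ⟨21, 1049, 2, 0, [(1, 317, 172)], [(4, 895, 0), (1, 388, 0), (3, 823, 0), (3, 873, 0)]⟩,
    ⟨34, 1724, 2, 0, [(2, 116, 118)], [(3, 896, 0), (2, 116, 0)]⟩,
    ⟨34, 60, 2, 0, [(1, 231, 130)], [(3, 896, 0), (1, 231, 0)]⟩,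
    ⟨34, 1090, 2, 0, [(3, 896, 0), (1, 521, 0)], [(1, 527, 97), (3, 886, 0)]⟩,
    ⟨34, 1063, 2, 0, [(3, 896, 0), (1, 525, 0)], [(1, 522, 123), (3, 758, 0), (3, 860, 0)]⟩,
    ⟨21, 1341, 2, 0, [(2, 312, 101)], [(3, 899, 0), (2, 70, 0)]⟩,
    ⟨21, 1496, 2, 0, [(2, 316, 13)], [(3, 899, 0), (2, 85, 0)]⟩,
    ⟨21, 1227, 2, 0, [(3, 899, 0), (1, 306, 0)], [(1, 311, 76), (3, 897, 0)]⟩,
    ⟨21, 524, 2, 0, [(3, 899, 0), (1, 313, 0)], [(1, 317, 45), (3, 898, 0)]⟩,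
    ⟨131, 1315, 2, 21, [(0, 25, 0), (1, 761, 158), (3, 831, 0), (0, 104, 0), (2, 51, 128), (0, 104, 0), (1, 249, 90), (0, 104, 0), (3, 858, 0), (2, 249, 45), (0, 104, 0), (1, 51, 42), (0, 104, 0), (2, 144, 77), (0, 104, 0), (1, 638, 129), (0, 104, 0)], [(1, 766, 18)]⟩,
    ⟨131, 1374, 2, 21, [(0, 25, 0), (3, 728, 0), (1, 760, 93), (0, 104, 0), (2, 402, 28), (0, 104, 0), (1, 90, 152), (0, 104, 0), (2, 67, 45), (0, 104, 0), (3, 69, 0), (1, 279, 83), (3, 831, 0), (0, 104, 0), (2, 144, 117), (0, 104, 0), (1, 650, 146), (0, 104, 0)], [(1, 760, 84)]⟩,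
    ⟨128, 130, 2, 0, [(4, 908, 0), (1, 652, 0)], [(1, 404, 4)]⟩,
    ⟨128, 282, 2, 0, [(1, 419, 75)], [(4, 908, 0), (1, 655, 0)]⟩,
    ⟨131, 1853, 2, 0, [(3, 910, 0)], [(3, 728, 0), (3, 910, 0)]⟩,
    ⟨41, 460, 2, 0, [(1, 646, 30)], [(4, 910, 0), (1, 760, 0)]⟩,
    ⟨41, 465, 2, 0, [(1, 647, 82)], [(4, 910, 0), (1, 761, 0), (3, 831, 0)]⟩,
    ⟨41, 1817, 2, 0, [(4, 910, 0), (1, 766, 0)], [(1, 160, 118)]⟩,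
    ⟨45, 1776, 1, 0, [(4, 914, 0), (1, 592, 0)], []⟩,
    ⟨45, 1545, 1, 0, [(4, 914, 0), (1, 601, 0)], []⟩,
    ⟨41, 514, 2, 0, [(2, 640, 46), (3, 907, 0), (3, 914, 0)], [(3, 911, 0), (2, 158, 0)]⟩,
    ⟨41, 318, 2, 0, [(3, 911, 0), (1, 657, 0)], [(1, 649, 22), (3, 777, 0)]⟩,
    ⟨136, 11, 1, 21, [(0, 25, 0), (3, 839, 0), (1, 857, 123), (0, 104, 0), (2, 478, 34), (3, 776, 0), (0, 104, 0), (1, 160, 89), (0, 104, 0), (3, 917, 0), (2, 156, 154), (0, 104, 0), (1, 136, 168), (0, 104, 0), (2, 607, 48), (3, 842, 0), (0, 104, 0), (1, 870, 178), (0, 104, 0)], []⟩,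
    ⟨136, 24, 1, 21, [(0, 25, 0), (1, 547, 149), (3, 859, 0), (3, 867, 0), (0, 104, 0), (2, 454, 161), (3, 741, 0), (3, 830, 0), (0, 104, 0), (1, 613, 134), (3, 818, 0), (0, 104, 0), (3, 838, 0), (2, 503, 160), (0, 104, 0), (1, 510, 114), (3, 713, 0), (0, 104, 0), (2, 301, 22), (3, 812, 0), (0, 104, 0), (1, 374, 59), (0, 104, 0)], []⟩,
    ⟨136, 350, 2, 21, [(0, 25, 0), (1, 432, 178), (0, 104, 0), (2, 97, 101), (3, 829, 0), (0, 104, 0), (1, 343, 66), (3, 737, 0), (3, 794, 0), (0, 104, 0), (2, 617, 72), (3, 818, 0), (0, 104, 0), (1, 508, 43), (3, 712, 0), (0, 104, 0), (2, 506, 68), (3, 884, 0), (0, 104, 0), (1, 374, 67), (0, 104, 0)], [(1, 920, 78)]⟩,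
    ⟨138, 15, 2, 21, [(1, 446, 141)], [(0, 25, 0), (1, 447, 120), (3, 816, 0), (0, 104, 0), (2, 106, 141), (3, 730, 0), (0, 104, 0), (1, 279, 23), (3, 831, 0), (0, 104, 0), (2, 139, 154), (0, 104, 0), (1, 630, 64), (3, 790, 0), (0, 104, 0), (2, 138, 94), (0, 104, 0), (1, 612, 124), (3, 866, 0), (0, 104, 0)]⟩,
    ⟨35, 1465, 2, 0, [(1, 550, 182)], [(4, 922, 0), (1, 293, 0)]⟩,
    ⟨35, 1812, 2, 0, [(1, 535, 182)], [(4, 922, 0), (1, 296, 0)]⟩,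
    ⟨35, 1059, 2, 0, [(1, 549, 38)], [(4, 922, 0), (1, 444, 0)]⟩,
    ⟨138, 45, 1, 21, [(0, 25, 0), (1, 446, 19), (3, 922, 0), (0, 104, 0), (2, 545, 129), (3, 859, 0), (3, 867, 0), (0, 104, 0), (1, 869, 22), (0, 104, 0), (2, 71, 0), (0, 104, 0), (1, 66, 20), (0, 104, 0), (2, 301, 7), (3, 812, 0), (0, 104, 0), (1, 392, 131), (0, 104, 0)], []⟩,
    ⟨138, 47, 1, 21, [(0, 25, 0), (1, 447, 55), (3, 816, 0), (0, 104, 0), (2, 304, 162), (3, 800, 0), (0, 104, 0), (3, 854, 0), (1, 194, 137), (0, 104, 0), (3, 47, 0), (2, 194, 64), (0, 104, 0), (3, 854, 0), (1, 194, 151), (0, 104, 0), (2, 193, 10), (3, 799, 0), (0, 104, 0), (1, 305, 63), (0, 104, 0)], []⟩,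
    ⟨138, 109, 2, 21, [(0, 25, 0), (1, 441, 21), (0, 104, 0), (2, 440, 6), (3, 816, 0), (0, 104, 0), (1, 105, 132), (3, 730, 0), (0, 104, 0), (3, 69, 0), (2, 285, 100), (3, 830, 0), (0, 104, 0), (1, 609, 170), (3, 819, 0), (0, 104, 0), (2, 506, 39), (3, 884, 0), (0, 104, 0), (1, 392, 61), (0, 104, 0)], [(1, 926, 1)]⟩,
    ⟨138, 174, 2, 21, [(0, 25, 0), (1, 447, 136), (3, 816, 0), (0, 104, 0), (2, 304, 122), (3, 800, 0), (0, 104, 0), (1, 195, 60), (3, 799, 0), (0, 104, 0), (2, 295, 41), (3, 712, 0), (0, 104, 0), (1, 114, 68), (0, 104, 0), (2, 109, 182), (0, 104, 0), (1, 457, 183), (0, 104, 0)], [(1, 446, 104), (3, 922, 0)]⟩,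
    ⟨35, 1901, 2, 0, [(1, 120, 15)], [(4, 929, 0), (1, 459, 0)]⟩,
    ⟨35, 1609, 2, 0, [(4, 929, 0), (1, 462, 0)], [(1, 124, 91)]⟩,
    ⟨35, 1516, 2, 0, [(4, 929, 0), (1, 463, 0)], [(1, 552, 169), (3, 754, 0)]⟩,
    ⟨46, 1897, 1, 0, [(4, 932, 0), (1, 241, 0)], []⟩,
    ⟨46, 1915, 1, 0, [(4, 932, 0), (1, 245, 0)], []⟩,
    ⟨31, 367, 2, 0, [(1, 464, 160)], [(3, 930, 0), (1, 464, 0)]⟩,
    ⟨138, 251, 2, 21, [(1, 927, 17)], [(0, 25, 0), (1, 446, 135), (3, 922, 0), (0, 104, 0), (2, 122, 48), (0, 104, 0), (3, 111, 0), (1, 457, 125), (3, 929, 0), (0, 104, 0), (2, 426, 149), (3, 841, 0), (0, 104, 0), (1, 609, 129), (3, 819, 0), (0, 104, 0), (2, 128, 21), (3, 748, 0), (0, 104, 0), (1, 227, 99), (0, 104, 0)]⟩,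
    ⟨66, 1309, 1, 0, [(4, 936, 0), (1, 307, 0), (3, 712, 0)], []⟩,
    ⟨66, 964, 1, 0, [(4, 936, 0), (1, 309, 0)], []⟩,
    ⟨138, 310, 1, 21, [(0, 25, 0), (1, 441, 104), (0, 104, 0), (2, 106, 26), (3, 730, 0), (0, 104, 0), (3, 69, 0), (1, 67, 186), (0, 104, 0), (2, 24, 15), (0, 104, 0), (1, 31, 74), (0, 104, 0), (3, 32, 0), (2, 103, 186), (0, 104, 0), (1, 439, 113), (0, 104, 0)], []⟩,
    ⟨143, 10, 1, 21, [(0, 25, 0), (1, 467, 22), (0, 104, 0), (3, 111, 0), (2, 460, 124), (3, 931, 0), (0, 104, 0), (1, 119, 76), (0, 104, 0), (2, 580, 130), (3, 881, 0), (0, 104, 0), (1, 843, 159), (3, 866, 0), (0, 104, 0), (2, 537, 26), (3, 924, 0), (0, 104, 0), (1, 291, 172), (3, 712, 0), (0, 104, 0)], []⟩,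
    ⟨33, 170, 2, 0, [(2, 505, 45)], [(2, 940, 0)]⟩,
    ⟨143, 1464, 1, 0, [(4, 941, 0), (1, 516, 0), (3, 807, 0)], []⟩,
    ⟨143, 43, 2, 21, [(1, 469, 4)], [(0, 25, 0), (3, 465, 0), (3, 935, 0), (1, 942, 45), (0, 104, 0), (2, 178, 54), (3, 794, 0), (0, 104, 0), (1, 613, 116), (3, 818, 0), (3, 941, 0), (0, 104, 0), (2, 464, 132), (0, 104, 0), (1, 109, 145), (0, 104, 0), (2, 132, 76), (3, 748, 0), (0, 104, 0), (1, 249, 30), (0, 104, 0)]⟩,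
    ⟨72, 643, 1, 0, [(4, 943, 0), (1, 468, 0)], []⟩,
    ⟨150, 2, 1, 21, [(0, 25, 0), (1, 483, 12), (3, 892, 0), (0, 104, 0), (2, 147, 24), (0, 104, 0), (1, 42, 163), (0, 104, 0), (2, 46, 108), (0, 104, 0), (3, 47, 0), (1, 61, 94), (0, 104, 0), (2, 275, 3), (3, 804, 0), (0, 104, 0), (1, 337, 14), (3, 767, 0), (0, 104, 0)], []⟩,
    ⟨32, 438, 2, 0, [(2, 487, 130)], [(2, 945, 0)]⟩,
    ⟨150, 65, 1, 21, [(0, 25, 0), (1, 487, 0), (0, 104, 0), (2, 108, 12), (0, 104, 0), (1, 113, 2), (0, 104, 0), (2, 116, 101), (0, 104, 0), (1, 317, 7), (3, 898, 0), (0, 104, 0), (2, 501, 183), (3, 872, 0), (0, 104, 0), (1, 481, 133), (0, 104, 0)], []⟩,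
    ⟨150, 69, 1, 21, [(0, 25, 0), (1, 945, 42), (0, 104, 0), (2, 478, 154), (3, 776, 0), (0, 104, 0), (1, 144, 154), (0, 104, 0), (2, 153, 112), (0, 104, 0), (1, 877, 0), (0, 104, 0), (2, 678, 115), (3, 850, 0), (0, 104, 0), (1, 753, 171), (3, 844, 0), (0, 104, 0)], []⟩,
    ⟨169, 2, 1, 21, [(0, 25, 0), (1, 555, 12), (3, 754, 0), (0, 104, 0), (2, 164, 128), (0, 104, 0), (1, 353, 12), (3, 731, 0), (3, 772, 0), (3, 799, 0), (0, 104, 0), (2, 289, 168), (3, 811, 0), (0, 104, 0), (1, 337, 33), (3, 767, 0), (0, 104, 0), (2, 473, 86), (3, 892, 0), (0, 104, 0), (1, 846, 35), (0, 104, 0)], []⟩,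
    ⟨169, 41, 1, 21, [(0, 25, 0), (1, 544, 163), (0, 104, 0), (2, 536, 108), (3, 749, 0), (0, 104, 0), (1, 425, 25), (3, 841, 0), (0, 104, 0), (2, 617, 85), (3, 818, 0), (3, 941, 0), (0, 104, 0), (3, 465, 0), (3, 935, 0), (1, 942, 82), (0, 104, 0), (2, 616, 133), (3, 866, 0), (0, 104, 0), (1, 534, 71), (3, 749, 0), (0, 104, 0)], []⟩,
    ⟨35, 604, 2, 0, [(2, 544, 163)], [(2, 950, 0)]⟩,
    ⟨169, 54, 1, 21, [(0, 25, 0), (1, 950, 87), (0, 104, 0), (2, 551, 99), (3, 925, 0), (0, 104, 0), (1, 441, 30), (0, 104, 0), (2, 247, 137), (3, 834, 0), (0, 104, 0), (1, 161, 49), (0, 104, 0), (2, 539, 8), (3, 749, 0), (0, 104, 0), (1, 550, 146), (3, 923, 0), (0, 104, 0)], []⟩,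
    ⟨169, 65, 1, 21, [(0, 25, 0), (1, 544, 0), (0, 104, 0), (2, 426, 56), (3, 841, 0), (0, 104, 0), (1, 618, 190), (3, 810, 0), (0, 104, 0), (3, 82, 0), (2, 78, 163), (0, 104, 0), (3, 69, 0), (1, 78, 27), (0, 104, 0), (3, 82, 0), (2, 351, 81), (3, 738, 0), (0, 104, 0), (1, 210, 157), (0, 104, 0)], []⟩,
    ⟨169, 109, 1, 21, [(0, 25, 0), (1, 544, 21), (0, 104, 0), (2, 545, 6), (3, 859, 0), (3, 867, 0), (0, 104, 0), (1, 252, 146), (0, 104, 0), (2, 582, 23), (3, 881, 0), (0, 104, 0), (1, 452, 86), (3, 741, 0), (3, 830, 0), (0, 104, 0), (2, 140, 137), (0, 104, 0), (1, 175, 25), (3, 796, 0), (0, 104, 0)], []⟩,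
    ⟨169, 824, 2, 0, [(1, 954, 88)], [(3, 951, 0), (1, 954, 0)]⟩,
    ⟨174, 33, 1, 21, [(0, 25, 0), (1, 557, 25), (0, 104, 0), (2, 574, 169), (3, 720, 0), (0, 104, 0), (1, 90, 48), (0, 104, 0), (2, 72, 28), (0, 104, 0), (1, 311, 76), (3, 897, 0), (0, 104, 0), (2, 357, 69), (3, 731, 0), (3, 772, 0), (3, 799, 0), (0, 104, 0), (1, 79, 124), (0, 104, 0)], []⟩,
    ⟨24, 365, 2, 0, [(2, 956, 0)], [(2, 354, 84)]⟩,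
    ⟨113, 656, 1, 0, [(4, 957, 0), (1, 557, 0)], []⟩,
    ⟨113, 1259, 1, 0, [(4, 957, 0), (1, 559, 0)], []⟩]

/-- Facts, block 15. -/
def fc15 : List Fc :=
  [⟨113, 337, 1, 178, 1584, 335⟩, ⟨177, 10, 1, 102, 540, 704⟩, ⟨177, 15, 1, 44, 1396, 601⟩, ⟨177, 24, 1, 36, 1905, 1601⟩, ⟨177, 760, 0, 177, 1905, 0⟩, ⟨177, 55, 1, 193, 361, 918⟩, ⟨193, 1003, 0, 193, 1584, 0⟩, ⟨193, 0, 0, 47, 1864, 979⟩, ⟨47, 979, 1, 45, 1789, 229⟩, ⟨47, 1307, 1, 38, 1892, 1209⟩, ⟨47, 731, 0, 47, 1912, 0⟩, ⟨178, 16, 1, 120, 1131, 1746⟩, ⟨178, 0, 0, 123, 1530, 75⟩, ⟨123, 75, 1, 113, 1089, 470⟩, ⟨123, 700, 1, 36, 1506, 1209⟩, ⟨123, 295, 1, 81, 296, 476⟩, ⟨123, 1905, 0, 123, 1170, 0⟩, ⟨222, 33, 1, 15, 431, 602⟩, ⟨222, 0, 0, 63, 431, 846⟩, ⟨63, 846, 1, 48, 1684, 1745⟩, ⟨63, 591, 1, 42, 348, 322⟩, ⟨49, 0, 0,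 13, 1915, 422⟩, ⟨53, 225, 0, 53, 1915, 0⟩, ⟨53, 596, 0, 53, 237, 0⟩, ⟨53, 1643, 0, 53, 155, 0⟩, ⟨117, 0, 0, 60, 767, 1768⟩, ⟨60, 1768, 1, 113, 525, 270⟩, ⟨60, 935, 1, 24, 525, 322⟩, ⟨60, 286, 1, 113, 1035, 646⟩, ⟨60, 1594, 0, 60, 1797, 0⟩, ⟨63, 1736, 0, 63, 1448, 0⟩, ⟨122, 1660, 0, 122, 1717, 0⟩, ⟨44, 12, 1, 102, 1366, 682⟩, ⟨44, 45, 1, 177, 1274, 218⟩, ⟨45, 65, 1, 63, 258, 1640⟩, ⟨46, 11, 1, 128, 1540, 1324⟩, ⟨46, 69, 1, 122, 483, 696⟩, ⟨47, 41, 1, 177, 1633, 561⟩, ⟨48, 14, 1, 169, 950, 284⟩, ⟨56, 25, 1, 20, 330, 562⟩, ⟨56, 52, 1, 122, 1203, 1748⟩, ⟨60, 17, 1, 66, 434, 1452⟩, ⟨62, 35, 1, 66, 1208, 156⟩, ⟨62, 40, 1, 89, 1751, 472⟩, ⟨63, 18, 1, 45, 322, 1873⟩, ⟨65, 33, 1, 44, 1765, 1822⟩, ⟨66, 1, 1, 66, 1448, 473⟩, ⟨66, 51, 1, 62, 935, 435⟩, ⟨66, 62, 1, 113, 770, 1878⟩, ⟨66,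 98, 1, 138, 407, 924⟩, ⟨66, 140, 1, 60, 1201, 1432⟩, ⟨81, 68, 1, 22, 906, 609⟩, ⟨89, 25, 1, 62, 1682, 1852⟩, ⟨89, 29, 1, 120, 824, 1230⟩, ⟨89, 36, 1, 169, 29, 415⟩, ⟨102, 10, 1, 126, 821, 1002⟩, ⟨102, 11, 1, 44, 1069, 124⟩, ⟨102, 69, 1, 177, 838, 310⟩, ⟨113, 48, 1, 66, 488, 1454⟩, ⟨120, 15, 1, 120, 1848, 185⟩, ⟨120, 18, 1, 136, 257, 1641⟩, ⟨120, 68, 1, 89, 498, 1556⟩, ⟨122, 8, 1, 128, 1399, 918⟩, ⟨122, 16, 1, 56, 108, 405⟩]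

/-- Justifications, block 15. -/
def pf15 : List Pf :=
  [⟨113, 337, 1, 0, [(4, 957, 0), (1, 567, 0)], []⟩,
    ⟨177, 10, 1, 21, [(0, 25, 0), (1, 568, 22), (0, 104, 0), (2, 575, 113), (3, 736, 0), (3, 808, 0), (0, 104, 0), (1, 594, 44), (3, 875, 0), (0, 104, 0), (2, 210, 33), (0, 104, 0), (1, 198, 87), (3, 725, 0), (0, 104, 0), (2, 580, 85), (3, 881, 0), (0, 104, 0), (1, 868, 181), (0, 104, 0)], []⟩,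
    ⟨177, 15, 1, 21, [(0, 25, 0), (1, 579, 63), (3, 881, 0), (0, 104, 0), (2, 871, 80), (0, 104, 0), (1, 237, 120), (0, 104, 0), (2, 53, 139), (0, 104, 0), (1, 147, 7), (0, 104, 0), (2, 948, 9), (0, 104, 0), (1, 483, 66), (3, 892, 0), (0, 104, 0)], []⟩,
    ⟨177, 24, 1, 21, [(0, 25, 0), (1, 962, 22), (0, 104, 0), (2, 151, 156), (0, 104, 0), (1, 630, 150), (3, 790, 0), (0, 104, 0), (2, 162, 75), (0, 104, 0), (3, 917, 0), (1, 915, 95), (0, 104, 0), (2, 127, 188), (0, 104, 0), (1, 119, 19), (0, 104, 0)], []⟩,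
    ⟨36, 1601, 2, 0, [(2, 568, 174)], [(2, 963, 0)]⟩,
    ⟨177, 55, 1, 21, [(0, 25, 0), (1, 963, 112), (0, 104, 0), (2, 569, 156), (0, 104, 0), (1, 571, 82), (0, 104, 0), (2, 716, 158), (3, 837, 0), (0, 104, 0), (1, 429, 101), (3, 822, 0), (0, 104, 0), (2, 135, 154), (0, 104, 0), (1, 598, 130), (0, 104, 0)], []⟩,
    ⟨177, 1517, 2, 0, [(1, 965, 153)], [(3, 964, 0), (1, 965, 0)]⟩,
    ⟨177, 381, 2, 21, [(1, 965, 175)], [(0, 25, 0), (3, 964, 0), (1, 961, 162), (0, 104, 0), (3, 320, 0), (2, 328, 4), (3, 867, 0), (0, 104, 0), (1, 252, 13), (0, 104, 0), (3, 858, 0), (2, 249, 176), (0, 104, 0), (1, 55, 36), (0, 104, 0), (2, 45, 97), (0, 104, 0), (1, 171, 15), (3, 795, 0), (0, 104, 0)]⟩,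
    ⟨47, 979, 1, 0, [(4, 967, 0), (1, 600, 0), (3, 914, 0)], []⟩,
    ⟨47, 1307, 1, 0, [(4, 967, 0), (1, 602, 0)], []⟩,
    ⟨193, 1003, 2, 0, [(3, 967, 0)], [(3, 966, 0), (3, 967, 0)]⟩,
    ⟨178, 16, 1, 21, [(0, 25, 0), (1, 571, 172), (0, 104, 0), (2, 716, 136), (3, 837, 0), (0, 104, 0), (1, 96, 64), (0, 104, 0), (3, 30, 0), (2, 96, 99), (0, 104, 0), (3, 94, 0), (1, 429, 118), (3, 822, 0), (0, 104, 0), (3, 94, 0), (2, 432, 18), (0, 104, 0), (3, 839, 0), (1, 920, 161), (0, 104, 0)], []⟩,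
    ⟨120, 1746, 2, 0, [(2, 971, 0)], [(3, 921, 0), (2, 385, 88)]⟩,
    ⟨123, 75, 1, 0, [(4, 972, 0), (1, 566, 0), (3, 957, 0)], []⟩,
    ⟨123, 700, 1, 0, [(4, 972, 0), (1, 569, 0)], []⟩,
    ⟨123, 295, 1, 0, [(4, 972, 0), (1, 571, 0)], []⟩,
    ⟨178, 1900, 2, 0, [(3, 972, 0)], [(3, 879, 0), (3, 972, 0)]⟩,
    ⟨222, 33, 1, 21, [(0, 25, 0), (1, 673, 25), (0, 104, 0), (2, 665, 86), (3, 851, 0), (0, 104, 0), (1, 234, 169), (3, 747, 0), (0, 104, 0), (2, 517, 25), (3, 807, 0), (0, 104, 0), (1, 150, 105), (3, 815, 0), (0, 104, 0), (2, 285, 21), (3, 830, 0), (0, 104, 0), (1, 610, 88), (3, 809, 0), (0, 104, 0)], []⟩,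
    ⟨15, 602, 2, 0, [(2, 977, 0)], [(2, 223, 145)]⟩,
    ⟨63, 846, 1, 0, [(4, 978, 0), (1, 669, 0), (3, 852, 0)], []⟩,
    ⟨63, 591, 1, 0, [(4, 978, 0), (1, 673, 0)], []⟩,
    ⟨7, 94, 2, 22, [(0, 104, 0), (1, 44, 68), (0, 104, 0), (3, 47, 0), (2, 193, 56), (3, 799, 0), (0, 25, 0), (1, 286, 120), (0, 104, 0), (3, 290, 0), (2, 293, 29), (3, 922, 0), (0, 104, 0), (1, 425, 89), (3, 841, 0), (0, 104, 0), (2, 140, 68), (0, 104, 0), (1, 170, 54), (0, 104, 0)], [(1, 43, 82)]⟩,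
    ⟨13, 422, 2, 0, [(1, 185, 21)], [(4, 981, 0), (1, 188, 0)]⟩,
    ⟨13, 51, 2, 22, [(0, 104, 0), (1, 176, 2), (3, 794, 0), (0, 104, 0), (2, 616, 165), (3, 866, 0), (0, 25, 0), (1, 535, 34), (3, 924, 0), (0, 104, 0), (2, 259, 184), (3, 786, 0), (0, 104, 0), (3, 47, 0), (1, 46, 38), (0, 104, 0), (2, 45, 46), (0, 104, 0), (1, 185, 50), (0, 104, 0)], [(1, 185, 10)]⟩,
    ⟨13, 123, 2, 22, [(0, 104, 0), (1, 45, 18), (0, 104, 0), (2, 41, 92), (0, 25, 0), (1, 127, 8), (0, 104, 0), (2, 592, 111), (3, 914, 0), (0, 104, 0), (3, 917, 0), (1, 916, 0), (3, 967, 0), (0, 104, 0), (3, 970, 0), (2, 166, 40), (0, 104, 0), (1, 185, 83), (0, 104, 0)], [(1, 185, 26)]⟩,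
    ⟨15, 115, 2, 22, [(0, 104, 0), (1, 54, 75), (0, 104, 0), (2, 46, 129), (0, 25, 0), (1, 186, 52), (3, 878, 0), (0, 104, 0), (3, 64, 0), (2, 275, 36), (3, 804, 0), (0, 104, 0), (1, 73, 99), (0, 104, 0), (2, 81, 85), (0, 104, 0), (1, 364, 168), (0, 104, 0)], [(1, 206, 83)]⟩,
    ⟨60, 1768, 1, 0, [(4, 985, 0), (1, 366, 0)], []⟩,
    ⟨60, 935, 1, 0, [(4, 985, 0), (1, 370, 0)], []⟩,
    ⟨60, 286, 1, 0, [(4, 985, 0), (1, 558, 0), (3, 957, 0)], []⟩,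
    ⟨117, 1911, 2, 0, [(3, 985, 0)], [(3, 828, 0), (3, 985, 0)]⟩,
    ⟨15, 116, 2, 22, [(0, 104, 0), (1, 54, 26), (0, 104, 0), (2, 28, 94), (0, 25, 0), (1, 74, 30), (0, 104, 0), (3, 82, 0), (2, 345, 175), (3, 737, 0), (3, 794, 0), (0, 104, 0), (1, 138, 49), (0, 104, 0), (2, 145, 102), (0, 104, 0), (1, 667, 104), (3, 978, 0), (0, 104, 0)], [(1, 217, 62)]⟩,
    ⟨25, 227, 2, 22, [(0, 104, 0), (1, 89, 114), (0, 104, 0), (2, 68, 25), (0, 25, 0), (1, 291, 33), (3, 712, 0), (0, 104, 0), (2, 518, 47), (3, 885, 0), (3, 895, 0), (0, 104, 0), (1, 306, 45), (3, 905, 0), (0, 104, 0), (2, 398, 10), (0, 104, 0), (3, 928, 0), (1, 394, 91), (0, 104, 0)], [(1, 380, 160)]⟩,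
    ⟨44, 12, 1, 22, [(0, 104, 0), (1, 149, 18), (0, 104, 0), (2, 625, 147), (3, 778, 0), (0, 25, 0), (1, 61, 63), (0, 104, 0), (3, 64, 0), (2, 61, 20), (0, 104, 0), (1, 186, 0), (3, 878, 0), (0, 104, 0), (2, 275, 142), (3, 804, 0), (0, 104, 0), (1, 318, 76), (0, 104, 0)], []⟩,
    ⟨44, 45, 1, 22, [(0, 104, 0), (1, 877, 190), (0, 104, 0), (2, 143, 3), (0, 25, 0), (1, 142, 35), (0, 104, 0), (2, 654, 93), (3, 777, 0), (0, 104, 0), (1, 480, 142), (3, 770, 0), (0, 104, 0), (2, 332, 181), (3, 867, 0), (0, 104, 0), (1, 882, 65), (0, 104, 0)], []⟩,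
    ⟨45, 65, 1, 22, [(0, 104, 0), (1, 162, 2), (0, 104, 0), (2, 145, 116), (0, 25, 0), (1, 663, 118), (3, 851, 0), (0, 104, 0), (2, 53, 73), (0, 104, 0), (1, 143, 44), (0, 104, 0), (2, 664, 119), (3, 852, 0), (0, 104, 0), (3, 955, 0), (1, 853, 99), (3, 978, 0), (0, 104, 0)], []⟩,
    ⟨46, 11, 1, 22, [(0, 104, 0), (1, 361, 2), (3, 827, 0), (3, 844, 0), (0, 104, 0), (2, 151, 71), (0, 25, 0), (1, 631, 25), (3, 781, 0), (3, 878, 0), (0, 104, 0), (3, 64, 0), (2, 275, 102), (3, 804, 0), (0, 104, 0), (1, 337, 7), (3, 767, 0), (0, 104, 0), (2, 478, 59), (3, 776, 0), (0, 104, 0), (1, 650, 103), (3, 908, 0), (0, 104, 0)], []⟩,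
    ⟨46, 69, 1, 22, [(0, 104, 0), (1, 934, 152), (0, 104, 0), (2, 236, 45), (3, 747, 0), (0, 25, 0), (1, 514, 76), (3, 885, 0), (3, 895, 0), (0, 104, 0), (2, 312, 101), (3, 903, 0), (0, 104, 0), (1, 71, 20), (0, 104, 0), (2, 341, 7), (3, 734, 0), (0, 104, 0), (1, 380, 149), (0, 104, 0)], []⟩,
    ⟨47, 41, 1, 22, [(0, 104, 0), (1, 168, 68), (0, 104, 0), (2, 58, 121), (3, 782, 0), (0, 25, 0), (1, 40, 5), (0, 104, 0), (2, 144, 109), (0, 104, 0), (1, 647, 129), (3, 913, 0), (0, 104, 0), (2, 153, 5), (0, 104, 0), (1, 993, 103), (0, 104, 0)], []⟩,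
    ⟨48, 14, 1, 22, [(0, 104, 0), (3, 955, 0), (1, 853, 174), (3, 978, 0), (0, 104, 0), (2, 222, 40), (0, 25, 0), (3, 989, 0), (1, 988, 30), (0, 104, 0), (2, 352, 100), (0, 104, 0), (1, 77, 164), (0, 104, 0), (2, 296, 55), (3, 922, 0), (0, 104, 0), (1, 540, 103), (0, 104, 0)], []⟩,
    ⟨56, 25, 1, 22, [(0, 104, 0), (1, 195, 2), (3, 799, 0), (0, 104, 0), (2, 295, 80), (3, 712, 0), (0, 25, 0), (1, 514, 142), (3, 885, 0), (3, 895, 0), (0, 104, 0), (2, 85, 32), (0, 104, 0), (1, 374, 91), (0, 104, 0), (3, 921, 0), (2, 374, 122), (0, 104, 0), (1, 356, 128), (3, 731, 0), (3, 772, 0), (3, 799, 0), (0, 104, 0)], []⟩,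
    ⟨56, 52, 1, 22, [(0, 104, 0), (1, 999, 63), (0, 104, 0), (2, 77, 170), (0, 25, 0), (1, 358, 125), (3, 844, 0), (0, 104, 0), (2, 147, 171), (0, 104, 0), (1, 53, 175), (0, 104, 0), (2, 245, 40), (3, 932, 0), (0, 104, 0), (1, 996, 59), (0, 104, 0)], []⟩,
    ⟨60, 17, 1, 22, [(0, 104, 0), (1, 987, 85), (0, 104, 0), (2, 362, 99), (3, 844, 0), (0, 25, 0), (1, 847, 174), (0, 104, 0), (2, 231, 76), (0, 104, 0), (1, 528, 135), (3, 894, 0), (0, 104, 0), (2, 132, 28), (3, 748, 0), (0, 104, 0), (1, 227, 31), (0, 104, 0)], []⟩,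
    ⟨62, 35, 1, 22, [(0, 104, 0), (1, 212, 83), (3, 849, 0), (0, 104, 0), (2, 639, 14), (3, 784, 0), (3, 875, 0), (0, 25, 0), (1, 863, 145), (0, 104, 0), (2, 540, 112), (0, 104, 0), (1, 534, 171), (3, 749, 0), (0, 104, 0), (2, 537, 167), (3, 924, 0), (0, 104, 0), (1, 305, 190), (3, 936, 0), (0, 104, 0)], []⟩,
    ⟨62, 40, 1, 22, [(0, 104, 0), (1, 861, 156), (0, 104, 0), (2, 563, 96), (3, 735, 0), (0, 25, 0), (1, 210, 90), (0, 104, 0), (2, 953, 134), (0, 104, 0), (1, 950, 105), (0, 104, 0), (2, 536, 84), (3, 749, 0), (0, 104, 0), (1, 550, 45), (3, 923, 0), (0, 104, 0)], []⟩,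
    ⟨63, 18, 1, 22, [(0, 104, 0), (1, 980, 56), (0, 104, 0), (2, 443, 26), (3, 816, 0), (0, 25, 0), (1, 103, 1), (0, 104, 0), (2, 104, 52), (3, 730, 0), (0, 104, 0), (1, 279, 71), (3, 831, 0), (0, 104, 0), (2, 144, 82), (0, 104, 0), (1, 638, 158), (3, 907, 0), (3, 914, 0), (0, 104, 0)], []⟩,
    ⟨65, 33, 1, 22, [(0, 104, 0), (1, 228, 53), (0, 104, 0), (2, 245, 156), (3, 932, 0), (0, 25, 0), (1, 163, 48), (0, 104, 0), (2, 144, 28), (0, 104, 0), (1, 646, 76), (3, 912, 0), (0, 104, 0), (2, 995, 122), (0, 104, 0), (1, 361, 14), (3, 827, 0), (3, 844, 0), (0, 104, 0)], []⟩,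
    ⟨66, 1, 1, 22, [(0, 104, 0), (1, 938, 15), (0, 104, 0), (2, 289, 82), (3, 811, 0), (0, 25, 0), (1, 322, 58), (3, 873, 0), (0, 104, 0), (2, 128, 82), (3, 748, 0), (0, 104, 0), (1, 51, 44), (0, 104, 0), (2, 163, 187), (0, 104, 0), (1, 933, 10), (0, 104, 0)], []⟩,
    ⟨66, 51, 1, 22, [(0, 104, 0), (1, 937, 21), (0, 104, 0), (2, 501, 1), (3, 872, 0), (0, 25, 0), (1, 110, 123), (0, 104, 0), (2, 115, 34), (0, 104, 0), (1, 521, 61), (3, 901, 0), (0, 104, 0), (2, 131, 22), (0, 104, 0), (1, 525, 179), (3, 902, 0), (0, 104, 0)], []⟩,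
    ⟨66, 62, 1, 22, [(0, 104, 0), (1, 229, 27), (0, 104, 0), (2, 53, 98), (0, 25, 0), (1, 146, 112), (3, 815, 0), (0, 104, 0), (2, 285, 99), (3, 830, 0), (0, 104, 0), (1, 610, 106), (3, 809, 0), (0, 104, 0), (2, 208, 168), (0, 104, 0), (1, 988, 135), (0, 104, 0)], []⟩,
    ⟨66, 98, 1, 22, [(0, 104, 0), (1, 243, 24), (3, 932, 0), (0, 104, 0), (2, 949, 123), (0, 25, 0), (1, 555, 41), (3, 754, 0), (0, 104, 0), (2, 161, 110), (0, 104, 0), (1, 442, 74), (3, 816, 0), (0, 104, 0), (2, 440, 81), (3, 816, 0), (0, 104, 0), (3, 100, 0), (1, 439, 171), (0, 104, 0)], []⟩,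
    ⟨66, 140, 1, 22, [(0, 104, 0), (1, 938, 74), (0, 104, 0), (2, 66, 141), (0, 25, 0), (1, 26, 183), (0, 104, 0), (3, 18, 0), (2, 26, 147), (0, 104, 0), (1, 74, 37), (0, 104, 0), (3, 82, 0), (2, 351, 66), (3, 738, 0), (0, 104, 0), (1, 206, 168), (0, 104, 0)], []⟩,
    ⟨81, 68, 1, 22, [(0, 104, 0), (1, 274, 147), (0, 104, 0), (2, 275, 43), (3, 804, 0), (0, 25, 0), (1, 337, 120), (3, 767, 0), (0, 104, 0), (2, 496, 33), (3, 880, 0), (0, 104, 0), (1, 490, 74), (3, 762, 0), (0, 104, 0), (2, 402, 30), (0, 104, 0), (1, 399, 67), (3, 724, 0), (0, 104, 0)], []⟩,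
    ⟨89, 25, 1, 22, [(0, 104, 0), (1, 294, 2), (3, 922, 0), (0, 104, 0), (2, 556, 52), (3, 754, 0), (0, 25, 0), (1, 159, 29), (0, 104, 0), (2, 679, 100), (3, 836, 0), (0, 104, 0), (1, 195, 46), (3, 799, 0), (0, 104, 0), (2, 309, 42), (3, 936, 0), (0, 104, 0), (1, 1007, 56), (0, 104, 0)], []⟩,
    ⟨89, 29, 1, 22, [(0, 104, 0), (3, 290, 0), (1, 288, 96), (0, 104, 0), (2, 295, 54), (3, 712, 0), (0, 25, 0), (1, 114, 27), (0, 104, 0), (2, 115, 143), (0, 104, 0), (1, 117, 177), (0, 104, 0), (2, 316, 78), (3, 904, 0), (0, 104, 0), (1, 374, 164), (0, 104, 0)], []⟩,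
    ⟨89, 36, 1, 22, [(0, 104, 0), (1, 1013, 102), (0, 104, 0), (3, 921, 0), (2, 374, 73), (0, 25, 0), (1, 379, 78), (3, 895, 0), (0, 104, 0), (2, 232, 6), (0, 104, 0), (3, 900, 0), (1, 228, 175), (0, 104, 0), (2, 245, 126), (3, 932, 0), (0, 104, 0), (1, 755, 23), (0, 104, 0)], []⟩,
    ⟨102, 10, 1, 22, [(0, 104, 0), (1, 319, 48), (0, 104, 0), (2, 71, 168), (0, 25, 0), (1, 75, 158), (0, 104, 0), (2, 377, 96), (3, 825, 0), (0, 104, 0), (1, 538, 15), (3, 749, 0), (0, 104, 0), (2, 551, 133), (3, 925, 0), (0, 104, 0), (1, 926, 100), (0, 104, 0)], []⟩,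
    ⟨102, 11, 1, 22, [(0, 104, 0), (3, 320, 0), (1, 330, 135), (3, 867, 0), (0, 104, 0), (2, 454, 95), (3, 741, 0), (3, 830, 0), (0, 25, 0), (1, 618, 153), (3, 810, 0), (0, 104, 0), (3, 82, 0), (2, 78, 158), (0, 104, 0), (3, 69, 0), (1, 67, 175), (0, 104, 0), (2, 81, 126), (0, 104, 0), (1, 359, 72), (3, 827, 0), (3, 844, 0), (0, 104, 0)], []⟩,
    ⟨102, 69, 1, 22, [(0, 104, 0), (1, 1015, 18), (0, 104, 0), (3, 928, 0), (2, 392, 168), (0, 25, 0), (1, 384, 41), (3, 823, 0), (3, 873, 0), (0, 104, 0), (2, 512, 138), (3, 848, 0), (0, 104, 0), (1, 326, 188), (3, 867, 0), (0, 104, 0), (2, 871, 154), (0, 104, 0), (1, 882, 21), (0, 104, 0)], []⟩,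
    ⟨113, 48, 1, 22, [(0, 104, 0), (1, 960, 116), (3, 972, 0), (0, 104, 0), (3, 976, 0), (2, 383, 34), (0, 25, 0), (1, 89, 126), (0, 104, 0), (2, 68, 61), (0, 104, 0), (1, 292, 175), (3, 922, 0), (0, 104, 0), (2, 556, 88), (3, 754, 0), (0, 104, 0), (1, 933, 32), (0, 104, 0)], []⟩,
    ⟨120, 15, 1, 22, [(0, 104, 0), (1, 387, 89), (0, 104, 0), (3, 976, 0), (2, 387, 167), (0, 25, 0), (3, 921, 0), (1, 378, 17), (0, 104, 0), (2, 381, 35), (3, 895, 0), (0, 104, 0), (1, 306, 80), (3, 905, 0), (0, 104, 0), (2, 389, 112), (0, 104, 0), (3, 976, 0), (1, 385, 12), (0, 104, 0)], []⟩,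
    ⟨120, 18, 1, 22, [(0, 104, 0), (3, 921, 0), (1, 387, 187), (0, 104, 0), (3, 976, 0), (2, 383, 132), (0, 25, 0), (1, 379, 93), (3, 895, 0), (0, 104, 0), (2, 315, 90), (3, 906, 0), (0, 104, 0), (1, 499, 76), (3, 872, 0), (0, 104, 0), (2, 479, 171), (3, 856, 0), (0, 104, 0), (1, 919, 94), (0, 104, 0)], []⟩,
    ⟨120, 68, 1, 22, [(0, 104, 0), (1, 378, 147), (0, 104, 0), (2, 381, 43), (3, 895, 0), (0, 25, 0), (1, 116, 20), (0, 104, 0), (2, 523, 100), (3, 901, 0), (0, 104, 0), (1, 599, 36), (3, 821, 0), (0, 104, 0), (2, 216, 12), (0, 104, 0), (1, 1003, 161), (0, 104, 0)], []⟩,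
    ⟨122, 8, 1, 22, [(0, 104, 0), (3, 991, 0), (1, 382, 32), (0, 104, 0), (2, 389, 100), (0, 25, 0), (3, 976, 0), (1, 973, 151), (0, 104, 0), (3, 826, 0), (2, 973, 83), (0, 104, 0), (3, 976, 0), (1, 974, 165), (0, 104, 0), (2, 574, 130), (3, 720, 0), (0, 104, 0), (1, 402, 130), (0, 104, 0)], []⟩,
    ⟨122, 16, 1, 22, [(0, 104, 0), (3, 991, 0), (1, 382, 93), (0, 104, 0), (2, 390, 111), (3, 823, 0), (3, 873, 0), (0, 25, 0), (1, 513, 64), (3, 807, 0), (0, 104, 0), (2, 148, 99), (3, 815, 0), (0, 104, 0), (1, 284, 134), (3, 739, 0), (0, 104, 0), (2, 103, 122), (0, 104, 0), (1, 302, 56), (3, 800, 0), (0, 104, 0)], []⟩]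

/-- Facts, block 16. -/
def fc16 : List Fc :=
  [⟨122, 29, 1, 46, 496, 1342⟩, ⟨126, 8, 1, 126, 25, 422⟩, ⟨126, 16, 1, 138, 438, 761⟩, ⟨126, 20, 1, 102, 222, 240⟩, ⟨128, 2, 1, 46, 632, 723⟩, ⟨128, 15, 1, 122, 1442, 959⟩, ⟨45, 14, 1, 231, 0, 0⟩, ⟨231, 1853, 0, 231, 1844, 0⟩, ⟨47, 2, 1, 232, 0, 0⟩, ⟨232, 1272, 0, 232, 1912, 0⟩, ⟨231, 0, 1, 63, 258, 1589⟩, ⟨63, 29, 1, 231, 322, 1867⟩, ⟨231, 22, 1, 45, 0, 1209⟩, ⟨232, 22, 1, 47, 0, 632⟩, ⟨231, 660, 0, 231, 317, 0⟩, ⟨232, 19, 0, 232, 1918, 0⟩, ⟨150, 24, 1, 232, 948, 1235⟩, ⟨177, 5, 1, 232, 1607, 1000⟩, ⟨232, 0, 1, 177, 1633, 1320⟩, ⟨232, 175, 1, 150, 684, 757⟩, ⟨48, 1, 1, 233, 0, 0⟩, ⟨233, 1853, 0, 233, 1273, 0⟩, ⟨53, 2, 1, 234, 0, 0⟩, ⟨234, 594, 0, 234, 991, 0⟩, ⟨234, 1909, 0, 234, 237, 0⟩, ⟨234, 1817, 0, 234, 155, 0⟩, ⟨233, 0,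 1, 169, 1073, 543⟩, ⟨169, 8, 1, 233, 1126, 510⟩, ⟨233, 22, 1, 48, 0, 509⟩, ⟨234, 22, 1, 53, 0, 632⟩, ⟨233, 973, 0, 233, 1042, 0⟩, ⟨138, 362, 1, 234, 360, 190⟩, ⟨234, 1, 1, 138, 1547, 592⟩, ⟨53, 15, 1, 235, 0, 0⟩, ⟨235, 594, 0, 235, 991, 0⟩, ⟨235, 1014, 0, 235, 237, 0⟩, ⟨235, 1608, 0, 235, 155, 0⟩, ⟨56, 2, 1, 236, 0, 0⟩, ⟨236, 1853, 0, 236, 1694, 0⟩, ⟨235, 0, 1, 234, 0, 270⟩, ⟨236, 0, 1, 122, 149, 1377⟩, ⟨122, 21, 1, 236, 108, 1275⟩, ⟨234, 0, 1, 235, 0, 270⟩, ⟨235, 22, 1, 53, 0, 322⟩, ⟨236, 22, 1, 56, 0, 632⟩, ⟨236, 859, 0, 236, 1782, 0⟩, ⟨136, 200, 1, 235, 1393, 1457⟩, ⟨235, 5, 1, 136, 1332, 1503⟩, ⟨62, 8, 1, 237, 0, 0⟩, ⟨66, 8, 1, 238, 0, 0⟩, ⟨237, 0, 1, 66, 1208, 1328⟩, ⟨238, 0, 1, 62, 935, 1071⟩, ⟨238, 0, 0, 237, 935, 1205⟩, ⟨237, 1205, 1, 62, 0, 1071⟩, ⟨237, 1021, 0, 237,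 867, 0⟩, ⟨233, 45, 1, 237, 371, 856⟩, ⟨237, 31, 1, 237, 146, 1751⟩, ⟨237, 30, 1, 233, 635, 1716⟩, ⟨81, 5, 1, 239, 0, 0⟩, ⟨239, 13, 0, 239, 470, 0⟩, ⟨89, 8, 1, 240, 0, 0⟩, ⟨240, 1850, 0, 240, 114, 0⟩, ⟨239, 0, 1, 123, 391, 964⟩, ⟨240, 0, 1, 120, 824, 641⟩]

/-- Justifications, block 16. -/
def pf16 : List Pf :=
  [⟨122, 29, 1, 22, [(0, 104, 0), (3, 991, 0), (1, 382, 109), (0, 104, 0), (2, 389, 97), (0, 25, 0), (3, 976, 0), (1, 974, 64), (0, 104, 0), (2, 119, 113), (0, 104, 0), (1, 107, 178), (0, 104, 0), (3, 111, 0), (2, 459, 62), (3, 929, 0), (0, 104, 0), (1, 552, 42), (3, 754, 0), (0, 104, 0)], []⟩,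
    ⟨126, 8, 1, 22, [(0, 104, 0), (3, 928, 0), (1, 398, 4), (0, 104, 0), (2, 389, 96), (0, 25, 0), (1, 973, 66), (0, 104, 0), (2, 352, 17), (0, 104, 0), (1, 359, 140), (3, 827, 0), (3, 844, 0), (0, 104, 0), (2, 1016, 58), (0, 104, 0), (1, 1015, 140), (0, 104, 0)], []⟩,
    ⟨126, 16, 1, 22, [(0, 104, 0), (3, 928, 0), (1, 398, 18), (0, 104, 0), (2, 397, 8), (3, 724, 0), (0, 25, 0), (1, 322, 76), (3, 873, 0), (0, 104, 0), (2, 505, 59), (3, 941, 0), (0, 104, 0), (3, 465, 0), (3, 935, 0), (1, 942, 64), (0, 104, 0), (2, 616, 8), (3, 866, 0), (0, 104, 0), (1, 549, 166), (3, 925, 0), (0, 104, 0)], []⟩,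
    ⟨126, 20, 1, 22, [(0, 104, 0), (3, 928, 0), (1, 1026, 18), (0, 104, 0), (2, 445, 66), (3, 816, 0), (0, 25, 0), (1, 302, 116), (3, 800, 0), (0, 104, 0), (2, 1023, 51), (0, 104, 0), (1, 382, 180), (0, 104, 0), (2, 397, 7), (3, 724, 0), (0, 104, 0), (1, 318, 67), (0, 104, 0)], []⟩,
    ⟨128, 2, 1, 22, [(0, 104, 0), (1, 419, 20), (3, 910, 0), (0, 104, 0), (2, 659, 18), (3, 918, 0), (0, 25, 0), (1, 470, 74), (3, 768, 0), (3, 873, 0), (0, 104, 0), (2, 506, 4), (3, 884, 0), (0, 104, 0), (1, 89, 20), (0, 104, 0), (2, 81, 159), (0, 104, 0), (1, 373, 78), (3, 825, 0), (0, 104, 0)], []⟩,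
    ⟨128, 15, 1, 22, [(0, 104, 0), (1, 419, 89), (3, 910, 0), (0, 104, 0), (2, 659, 83), (3, 918, 0), (0, 25, 0), (1, 480, 151), (3, 770, 0), (0, 104, 0), (2, 331, 117), (3, 805, 0), (0, 104, 0), (1, 1011, 94), (0, 104, 0), (2, 341, 39), (3, 734, 0), (0, 104, 0), (1, 380, 22), (0, 104, 0)], []⟩,
    ⟨0, 0, 0, 0, [], []⟩,
    ⟨45, 120, 2, 0, [(1, 1030, 88)], [(3, 917, 0), (1, 1030, 0)]⟩,
    ⟨0, 0, 0, 0, [], []⟩,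
    ⟨47, 929, 2, 0, [(1, 1032, 43)], [(3, 970, 0), (1, 1032, 0)]⟩,
    ⟨231, 0, 1, 0, [(2, 1030, 0), (2, 1004, 115)], []⟩,
    ⟨63, 29, 1, 9, [(0, 22, 0), (2, 1034, 30), (0, 371, 0)], []⟩,
    ⟨231, 22, 1, 9, [(0, 22, 0), (2, 1030, 0), (0, 371, 0)], []⟩,
    ⟨232, 22, 1, 9, [(0, 22, 0), (2, 1032, 0), (0, 371, 0)], []⟩,
    ⟨45, 38, 2, 11, [(0, 104, 0), (3, 917, 0), (2, 968, 73), (0, 104, 0), (2, 166, 1), (0, 104, 0), (2, 189, 13), (0, 104, 0), (3, 982, 0), (3, 983, 0), (3, 984, 0), (2, 185, 124), (0, 104, 0), (2, 182, 28), (3, 794, 0), (0, 104, 0), (2, 611, 15), (3, 809, 0), (0, 104, 0), (2, 208, 144), (0, 104, 0), (3, 989, 0), (2, 219, 110), (0, 104, 0), (2, 1034, 48), (0, 104, 0)], [(1, 1030, 11)]⟩,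
    ⟨47, 500, 2, 11, [(0, 104, 0), (2, 172, 160), (3, 795, 0), (0, 104, 0), (3, 970, 0), (2, 166, 38), (0, 104, 0), (2, 181, 20), (3, 796, 0), (0, 104, 0), (2, 979, 131), (0, 104, 0), (3, 990, 0), (2, 222, 154), (0, 104, 0), (3, 989, 0), (2, 206, 43), (0, 104, 0), (2, 215, 8), (3, 808, 0), (0, 104, 0), (2, 602, 30), (3, 967, 0), (0, 104, 0), (2, 1037, 37), (0, 104, 0)], [(1, 1032, 126)]⟩,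
    ⟨150, 24, 1, 11, [(0, 104, 0), (3, 946, 0), (3, 946, 0), (2, 481, 123), (0, 104, 0), (2, 108, 90), (0, 104, 0), (2, 109, 32), (0, 104, 0), (3, 111, 0), (2, 460, 115), (3, 931, 0), (0, 104, 0), (2, 125, 161), (0, 104, 0), (2, 575, 61), (3, 736, 0), (3, 808, 0), (0, 104, 0), (2, 602, 159), (3, 967, 0), (0, 104, 0), (2, 172, 0), (3, 795, 0), (0, 104, 0), (2, 1037, 155), (0, 104, 0)], []⟩,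
    ⟨177, 5, 1, 11, [(0, 104, 0), (3, 964, 0), (2, 882, 56), (0, 104, 0), (2, 251, 142), (0, 104, 0), (3, 255, 0), (2, 249, 140), (0, 104, 0), (2, 244, 45), (3, 834, 0), (0, 104, 0), (2, 673, 147), (3, 978, 0), (0, 104, 0), (2, 1034, 135), (0, 104, 0), (3, 1038, 0), (3, 1038, 0), (2, 1030, 185), (0, 104, 0), (2, 968, 149), (0, 104, 0), (2, 1037, 30), (0, 104, 0)], []⟩,
    ⟨232, 0, 1, 11, [(0, 104, 0), (3, 1033, 0), (3, 1039, 0), (2, 1032, 12), (0, 104, 0), (3, 970, 0), (2, 166, 12), (0, 104, 0), (2, 43, 2), (0, 104, 0), (2, 63, 38), (0, 104, 0), (3, 64, 0), (2, 61, 89), (0, 104, 0), (2, 190, 7), (3, 878, 0), (0, 104, 0), (2, 275, 171), (3, 804, 0), (0, 104, 0), (2, 319, 96), (0, 104, 0), (3, 320, 0), (2, 961, 162), (0, 104, 0)], []⟩,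
    ⟨232, 175, 1, 11, [(0, 104, 0), (3, 1033, 0), (2, 1040, 90), (0, 104, 0), (2, 481, 121), (0, 104, 0), (2, 486, 30), (3, 770, 0), (0, 104, 0), (2, 341, 142), (3, 734, 0), (0, 104, 0), (2, 382, 68), (0, 104, 0), (3, 991, 0), (2, 380, 43), (0, 104, 0), (2, 397, 8), (3, 724, 0), (0, 104, 0), (2, 342, 44), (3, 767, 0), (0, 104, 0), (2, 487, 62), (0, 104, 0)], []⟩,
    ⟨0, 0, 0, 0, [], []⟩,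
    ⟨48, 431, 2, 0, [(1, 1044, 88)], [(3, 955, 0), (1, 1044, 0)]⟩,
    ⟨0, 0, 0, 0, [], []⟩,
    ⟨53, 848, 2, 0, [(1, 1046, 150)], [(3, 798, 0), (1, 1046, 0)]⟩,
    ⟨53, 299, 2, 0, [(1, 1046, 160)], [(3, 983, 0), (1, 1046, 0)]⟩,
    ⟨53, 1842, 2, 0, [(1, 1046, 85)], [(3, 984, 0), (1, 1046, 0)]⟩,
    ⟨233, 0, 1, 0, [(2, 1044, 0), (2, 954, 39)], []⟩,
    ⟨169, 8, 1, 9, [(0, 22, 0), (2, 1050, 56), (0, 371, 0)], []⟩,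
    ⟨233, 22, 1, 9, [(0, 22, 0), (2, 1044, 0), (0, 371, 0)], []⟩,
    ⟨234, 22, 1, 9, [(0, 22, 0), (2, 1046, 0), (0, 371, 0)], []⟩,
    ⟨48, 25, 2, 11, [(0, 104, 0), (2, 167, 2), (0, 104, 0), (2, 43, 12), (0, 104, 0), (2, 54, 50), (0, 104, 0), (2, 208, 102), (0, 104, 0), (3, 989, 0), (2, 219, 97), (0, 104, 0), (3, 990, 0), (2, 217, 133), (0, 104, 0), (2, 216, 30), (0, 104, 0), (2, 953, 50), (0, 104, 0), (2, 1050, 98), (0, 104, 0)], [(1, 1044, 12)]⟩,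
    ⟨138, 362, 1, 11, [(0, 104, 0), (3, 835, 0), (2, 1026, 114), (0, 104, 0), (2, 1015, 146), (0, 104, 0), (3, 320, 0), (2, 992, 96), (0, 104, 0), (2, 948, 20), (0, 104, 0), (2, 1043, 33), (0, 104, 0), (3, 1039, 0), (2, 1032, 179), (0, 104, 0), (2, 166, 176), (0, 104, 0), (2, 189, 54), (0, 104, 0), (2, 1053, 3), (0, 104, 0)], []⟩,
    ⟨234, 1, 1, 11, [(0, 104, 0), (3, 1047, 0), (3, 1049, 0), (2, 1055, 94), (0, 104, 0), (2, 1026, 187), (0, 104, 0), (2, 392, 66), (0, 104, 0), (2, 83, 180), (0, 104, 0), (2, 81, 191), (0, 104, 0), (2, 371, 16), (3, 814, 0), (0, 104, 0), (2, 89, 31), (0, 104, 0), (2, 398, 78), (0, 104, 0), (3, 928, 0), (2, 926, 5), (0, 104, 0)], []⟩,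
    ⟨0, 0, 0, 0, [], []⟩,
    ⟨53, 355, 2, 0, [(1, 1057, 150)], [(3, 798, 0), (1, 1057, 0)]⟩,
    ⟨53, 685, 2, 0, [(1, 1057, 166)], [(3, 983, 0), (1, 1057, 0)]⟩,
    ⟨53, 1668, 2, 0, [(1, 1057, 169)], [(3, 984, 0), (1, 1057, 0)]⟩,
    ⟨0, 0, 0, 0, [], []⟩,
    ⟨56, 820, 2, 0, [(1, 1061, 88)], [(3, 854, 0), (1, 1061, 0)]⟩,
    ⟨235, 0, 1, 0, [(2, 1057, 0), (2, 1053, 7)], []⟩,
    ⟨236, 0, 1, 0, [(2, 1061, 0), (2, 1023, 175)], []⟩,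
    ⟨122, 21, 1, 9, [(0, 22, 0), (2, 1064, 53), (0, 371, 0)], []⟩,
    ⟨234, 0, 1, 9, [(0, 22, 0), (2, 1063, 2), (0, 371, 0)], []⟩,
    ⟨235, 22, 1, 9, [(0, 22, 0), (2, 1057, 0), (0, 371, 0)], []⟩,
    ⟨236, 22, 1, 9, [(0, 22, 0), (2, 1061, 0), (0, 371, 0)], []⟩,
    ⟨56, 9, 2, 11, [(0, 104, 0), (3, 854, 0), (2, 192, 106), (0, 104, 0), (2, 44, 26), (0, 104, 0), (2, 23, 123), (0, 104, 0), (3, 18, 0), (2, 25, 102), (0, 104, 0), (2, 42, 27), (0, 104, 0), (2, 139, 23), (0, 104, 0), (2, 625, 91), (3, 778, 0), (0, 104, 0), (3, 47, 0), (2, 194, 27), (0, 104, 0), (2, 1068, 23), (0, 104, 0)], [(1, 1061, 1)]⟩,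
    ⟨136, 200, 1, 11, [(0, 104, 0), (2, 430, 191), (0, 104, 0), (2, 97, 181), (3, 829, 0), (0, 104, 0), (3, 82, 0), (2, 74, 19), (0, 104, 0), (2, 24, 10), (0, 104, 0), (2, 34, 101), (0, 104, 0), (3, 32, 0), (2, 103, 38), (0, 104, 0), (2, 441, 57), (0, 104, 0), (2, 1056, 95), (0, 104, 0), (2, 1063, 93), (0, 104, 0)], []⟩,
    ⟨235, 5, 1, 11, [(0, 104, 0), (3, 1060, 0), (2, 1070, 68), (0, 104, 0), (2, 1020, 2), (0, 104, 0), (3, 921, 0), (2, 374, 139), (0, 104, 0), (2, 87, 137), (0, 104, 0), (2, 312, 81), (3, 903, 0), (0, 104, 0), (2, 90, 151), (0, 104, 0), (2, 400, 155), (3, 724, 0), (0, 104, 0), (2, 342, 91), (3, 767, 0), (0, 104, 0), (2, 479, 171), (3, 856, 0), (0, 104, 0)], []⟩,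
    ⟨0, 0, 0, 0, [], []⟩,
    ⟨0, 0, 0, 0, [], []⟩,
    ⟨237, 0, 1, 0, [(2, 1072, 0), (2, 1007, 41)], []⟩,
    ⟨238, 0, 1, 0, [(2, 1073, 0), (2, 1002, 191)], []⟩,
    ⟨62, 8, 2, 9, [(0, 22, 0), (2, 1075, 147), (0, 371, 0)], [(1, 1072, 0)]⟩,
    ⟨237, 1205, 1, 0, [(4, 1076, 0), (1, 1075, 0)], []⟩,
    ⟨62, 101, 2, 11, [(0, 104, 0), (2, 953, 157), (0, 104, 0), (3, 951, 0), (2, 755, 87), (0, 104, 0), (2, 1028, 55), (0, 104, 0), (2, 760, 90), (3, 910, 0), (0, 104, 0), (2, 654, 76), (3, 777, 0), (0, 104, 0), (2, 472, 99), (3, 768, 0), (3, 873, 0), (0, 104, 0), (2, 502, 169), (3, 714, 0), (3, 936, 0), (0, 104, 0), (2, 1006, 17), (0, 104, 0), (2, 1074, 101), (0, 104, 0)], [(1, 1072, 111)]⟩,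
    ⟨233, 45, 1, 11, [(0, 104, 0), (3, 1045, 0), (3, 1054, 0), (2, 1051, 116), (0, 104, 0), (2, 554, 30), (3, 754, 0), (0, 104, 0), (2, 164, 180), (0, 104, 0), (2, 377, 118), (3, 825, 0), (0, 104, 0), (2, 539, 172), (3, 749, 0), (0, 104, 0), (2, 545, 6), (3, 859, 0), (3, 867, 0), (0, 104, 0), (2, 235, 143), (0, 104, 0), (2, 229, 170), (0, 104, 0), (2, 1074, 126), (0, 104, 0)], []⟩,
    ⟨237, 31, 1, 11, [(0, 104, 0), (2, 1079, 77), (0, 104, 0), (3, 1045, 0), (3, 1054, 0), (2, 1051, 170), (0, 104, 0), (3, 951, 0), (2, 1014, 88), (0, 104, 0), (3, 290, 0), (2, 286, 40), (0, 104, 0), (2, 295, 191), (3, 712, 0), (0, 104, 0), (2, 518, 27), (3, 885, 0), (3, 895, 0), (0, 104, 0), (2, 117, 178), (0, 104, 0), (2, 526, 29), (3, 902, 0), (0, 104, 0), (2, 1075, 51), (3, 1076, 0), (0, 104,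 0)], []⟩,
    ⟨237, 30, 1, 21, [(0, 25, 0), (3, 1078, 0), (1, 1077, 126), (0, 104, 0), (2, 210, 22), (0, 104, 0), (1, 183, 101), (3, 794, 0), (0, 104, 0), (2, 178, 174), (3, 794, 0), (0, 104, 0), (1, 612, 132), (3, 866, 0), (0, 104, 0), (2, 544, 107), (0, 104, 0), (1, 1051, 121), (0, 104, 0)], []⟩,
    ⟨0, 0, 0, 0, [], []⟩,
    ⟨81, 998, 2, 0, [(1, 1082, 185)], [(3, 855, 0), (1, 1082, 0)]⟩,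
    ⟨0, 0, 0, 0, [], []⟩,
    ⟨89, 684, 2, 0, [(1, 1084, 90)], [(3, 290, 0), (1, 1084, 0)]⟩,
    ⟨239, 0, 1, 0, [(2, 1082, 0), (2, 571, 13), (3, 972, 0)], []⟩,
    ⟨240, 0, 1, 0, [(2, 1084, 0), (2, 1021, 141)], []⟩]

/-- Facts, block 17. -/
def fc17 : List Fc :=
  [⟨120, 1, 1, 240, 498, 1700⟩, ⟨123, 21, 1, 239, 296, 510⟩, ⟨239, 22, 1, 81, 0, 854⟩, ⟨240, 22, 1, 89, 0, 1019⟩, ⟨239, 1595, 0, 239, 1246, 0⟩, ⟨240, 972, 0, 240, 1902, 0⟩, ⟨233, 11, 1, 240, 940, 41⟩, ⟨237, 37, 1, 240, 1557, 1734⟩, ⟨240, 1, 1, 237, 1560, 1082⟩, ⟨240, 2, 1, 233, 1803, 925⟩, ⟨102, 15, 1, 241, 0, 0⟩, ⟨241, 13, 0, 241, 1320, 0⟩, ⟨126, 14, 1, 242, 0, 0⟩, ⟨241, 0, 1, 126, 124, 499⟩, ⟨242, 0, 1, 102, 542, 1281⟩, ⟨242, 0, 0, 241, 542, 107⟩, ⟨241, 107, 1, 102, 0, 1281⟩, ⟨241, 1797, 0, 241, 1448, 0⟩, ⟨150, 173,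 1, 241, 1143, 986⟩, ⟨232, 45, 1, 241, 1201, 1757⟩, ⟨241, 1, 1, 150, 228, 382⟩, ⟨241, 11, 1, 232, 1526, 532⟩, ⟨150, 14, 1, 243, 0, 0⟩, ⟨243, 64, 0, 243, 973, 0⟩, ⟨237, 21, 1, 244, 0, 0⟩, ⟨244, 1038, 0, 244, 867, 0⟩, ⟨243, 0, 1, 150, 1564, 717⟩, ⟨244, 0, 1, 237, 146, 390⟩, ⟨243, 1202, 0, 243, 1564, 0⟩, ⟨244, 576, 0, 244, 146, 0⟩, ⟨243, 1173, 0, 243, 903, 0⟩, ⟨244, 1184, 0, 244, 1240, 0⟩, ⟨243, 47, 1, 243, 1015, 866⟩, ⟨244, 5, 1, 244, 1257, 1276⟩, ⟨243, 21, 1, 245, 0, 0⟩, ⟨245, 1478, 0, 245, 973, 0⟩, ⟨245, 1509, 0, 245, 1564, 0⟩, ⟨245, 1285, 0, 245, 903, 0⟩, ⟨244, 21, 1, 246, 0, 0⟩, ⟨246, 1088, 0, 246, 867, 0⟩, ⟨246, 1015, 0, 246, 146, 0⟩, ⟨246, 495, 0, 246, 1240, 0⟩, ⟨245, 0, 1, 243, 1015, 1574⟩, ⟨246, 0, 1, 244, 1206, 1656⟩, ⟨245, 215, 0, 245, 1015, 0⟩, ⟨246, 1254, 0, 246, 1206,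 0⟩, ⟨245, 1738, 0, 245, 1734, 0⟩, ⟨246, 459, 0, 246, 1731, 0⟩, ⟨245, 1, 1, 245, 1440, 161⟩, ⟨246, 2, 1, 246, 1428, 395⟩, ⟨245, 14, 1, 247, 0, 0⟩, ⟨247, 1044, 0, 247, 973, 0⟩, ⟨247, 1107, 0, 247, 1564, 0⟩, ⟨247, 282, 0, 247, 903, 0⟩, ⟨247, 674, 0, 247, 1734, 0⟩, ⟨246, 15, 1, 248, 0, 0⟩, ⟨248, 1327, 0, 248, 867, 0⟩, ⟨248, 594, 0, 248, 146, 0⟩, ⟨248, 1815, 0, 248, 1240, 0⟩, ⟨248, 1863, 0, 248, 1206, 0⟩, ⟨248, 1392, 0, 248, 1731, 0⟩, ⟨247, 0, 1, 245, 1329, 1426⟩, ⟨248, 0, 1, 246, 1493, 883⟩, ⟨247, 839, 0, 247, 1329, 0⟩]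

/-- Justifications, block 17. -/
def pf17 : List Pf :=
  [⟨120, 1, 1, 9, [(0, 22, 0), (2, 1087, 172), (0, 371, 0)], []⟩,
    ⟨123, 21, 1, 9, [(0, 22, 0), (2, 1086, 56), (0, 371, 0)], []⟩,
    ⟨239, 22, 1, 9, [(0, 22, 0), (2, 1082, 0), (0, 371, 0)], []⟩,
    ⟨240, 22, 1, 9, [(0, 22, 0), (2, 1084, 0), (0, 371, 0)], []⟩,
    ⟨81, 31, 2, 11, [(0, 104, 0), (2, 636, 153), (3, 781, 0), (3, 878, 0), (0, 104, 0), (3, 64, 0), (2, 61, 17), (0, 104, 0), (2, 193, 53), (3, 799, 0), (0, 104, 0), (2, 289, 142), (3, 811, 0), (0, 104, 0), (2, 324, 45), (3, 873, 0), (0, 104, 0), (2, 506, 70), (3, 884, 0), (0, 104, 0), (2, 397, 187), (3, 724, 0), (0, 104, 0), (2, 331, 188), (3, 805, 0), (0, 104, 0), (2, 1090, 112), (0, 104, 0)], [(1, 1082, 63)]⟩,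
    ⟨89, 33, 2, 11, [(0, 104, 0), (2, 293, 142), (3, 922, 0), (0, 104, 0), (2, 122, 100), (0, 104, 0), (3, 111, 0), (2, 460, 80), (3, 931, 0), (0, 104, 0), (2, 133, 162), (0, 104, 0), (2, 335, 105), (3, 805, 0), (0, 104, 0), (2, 1090, 101), (0, 104, 0), (3, 1092, 0), (2, 1089, 5), (0, 104, 0), (2, 387, 24), (0, 104, 0), (2, 1087, 105), (0, 104, 0)], [(1, 1084, 33)]⟩,
    ⟨233, 11, 1, 11, [(0, 104, 0), (3, 1054, 0), (2, 1051, 177), (0, 104, 0), (2, 756, 118), (3, 860, 0), (0, 104, 0), (2, 1075, 122), (3, 1076, 0), (0, 104, 0), (2, 1079, 21), (0, 104, 0), (3, 1054, 0), (2, 1044, 95), (0, 104, 0), (2, 177, 93), (3, 796, 0), (0, 104, 0), (2, 954, 149), (0, 104, 0), (3, 951, 0), (2, 1014, 74), (0, 104, 0), (2, 1091, 68), (0, 104, 0)], []⟩,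
    ⟨237, 37, 1, 11, [(0, 104, 0), (3, 1078, 0), (3, 1078, 0), (2, 1072, 189), (0, 104, 0), (2, 953, 45), (0, 104, 0), (2, 998, 110), (0, 104, 0), (3, 955, 0), (2, 167, 27), (0, 104, 0), (2, 189, 51), (0, 104, 0), (2, 1067, 23), (0, 104, 0), (2, 1070, 10), (0, 104, 0), (2, 1020, 51), (0, 104, 0), (2, 1087, 94), (0, 104, 0)], []⟩,
    ⟨240, 1, 1, 11, [(0, 104, 0), (3, 1093, 0), (2, 1084, 90), (0, 104, 0), (2, 293, 191), (3, 922, 0), (0, 104, 0), (2, 556, 154), (3, 754, 0), (0, 104, 0), (2, 360, 172), (3, 827, 0), (3, 844, 0), (0, 104, 0), (2, 1005, 72), (0, 104, 0), (2, 231, 98), (0, 104, 0), (2, 129, 113), (0, 104, 0), (2, 595, 166), (3, 875, 0), (0, 104, 0), (2, 1075, 189), (3, 1076, 0), (0, 104, 0)], []⟩,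
    ⟨240, 2, 1, 11, [(0, 104, 0), (2, 1084, 20), (0, 104, 0), (3, 290, 0), (2, 952, 180), (0, 104, 0), (2, 998, 177), (0, 104, 0), (2, 177, 23), (3, 796, 0), (0, 104, 0), (2, 1052, 172), (0, 104, 0), (3, 1045, 0), (2, 1081, 93), (0, 104, 0), (3, 1078, 0), (3, 1078, 0), (2, 1072, 24), (0, 104, 0), (2, 953, 78), (0, 104, 0), (2, 1050, 70), (0, 104, 0)], []⟩,
    ⟨0, 0, 0, 0, [], []⟩,
    ⟨102, 354, 2, 0, [(1, 1098, 185)], [(3, 320, 0), (1, 1098, 0)]⟩,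
    ⟨0, 0, 0, 0, [], []⟩,
    ⟨241, 0, 1, 0, [(2, 1098, 0), (2, 1027, 105)], []⟩,
    ⟨242, 0, 1, 0, [(2, 1100, 0), (2, 1015, 44)], []⟩,
    ⟨102, 15, 2, 9, [(0, 22, 0), (2, 1102, 22), (0, 371, 0)], [(1, 1098, 0)]⟩,
    ⟨241, 107, 1, 0, [(4, 1103, 0), (1, 1102, 0)], []⟩,
    ⟨102, 191, 2, 11, [(0, 104, 0), (3, 320, 0), (2, 961, 35), (0, 104, 0), (2, 578, 109), (3, 881, 0), (0, 104, 0), (2, 251, 81), (0, 104, 0), (3, 858, 0), (2, 249, 86), (0, 104, 0), (2, 245, 127), (3, 932, 0), (0, 104, 0), (2, 1024, 176), (0, 104, 0), (2, 394, 130), (0, 104, 0), (3, 928, 0), (2, 1025, 49), (0, 104, 0), (2, 1101, 165), (0, 104, 0)], [(1, 1098, 41)]⟩,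
    ⟨150, 173, 1, 11, [(0, 104, 0), (2, 481, 137), (0, 104, 0), (2, 486, 81), (3, 770, 0), (0, 104, 0), (2, 323, 91), (3, 772, 0), (3, 799, 0), (0, 104, 0), (2, 77, 36), (0, 104, 0), (2, 377, 135), (3, 825, 0), (0, 104, 0), (2, 539, 39), (3, 749, 0), (0, 104, 0), (2, 551, 155), (3, 925, 0), (0, 104, 0), (2, 1026, 21), (0, 104, 0), (2, 1101, 189), (0, 104, 0)], []⟩,
    ⟨232, 45, 1, 11, [(0, 104, 0), (2, 1041, 89), (0, 104, 0), (2, 1017, 64), (0, 104, 0), (2, 1027, 136), (0, 104, 0), (2, 1025, 92), (0, 104, 0), (2, 1101, 94), (0, 104, 0), (2, 1106, 145), (0, 104, 0), (3, 946, 0), (3, 946, 0), (2, 893, 20), (0, 104, 0), (2, 1016, 106), (0, 104, 0), (2, 1102, 37), (3, 1103, 0), (0, 104, 0)], []⟩,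
    ⟨241, 1, 1, 11, [(0, 104, 0), (3, 1099, 0), (2, 1106, 66), (0, 104, 0), (3, 946, 0), (3, 946, 0), (2, 893, 178), (0, 104, 0), (2, 147, 50), (0, 104, 0), (2, 138, 102), (0, 104, 0), (2, 178, 179), (3, 794, 0), (0, 104, 0), (2, 616, 147), (3, 866, 0), (0, 104, 0), (2, 118, 170), (0, 104, 0), (2, 110, 89), (0, 104, 0), (2, 487, 87), (0, 104, 0)], []⟩,
    ⟨241, 11, 1, 11, [(0, 104, 0), (2, 1107, 52), (0, 104, 0), (3, 1039, 0), (2, 1032, 69), (0, 104, 0), (2, 166, 57), (0, 104, 0), (2, 141, 97), (0, 104, 0), (2, 148, 75), (3, 815, 0), (0, 104, 0), (2, 285, 93), (3, 830, 0), (0, 104, 0), (2, 140, 119), (0, 104, 0), (2, 168, 164), (0, 104, 0), (2, 1037, 40), (0, 104, 0)], []⟩,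
    ⟨0, 0, 0, 0, [], []⟩,
    ⟨150, 84, 2, 0, [(1, 1110, 18)], [(3, 946, 0), (1, 1110, 0)]⟩,
    ⟨0, 0, 0, 0, [], []⟩,
    ⟨237, 1620, 2, 0, [(1, 1112, 178)], [(3, 1078, 0), (1, 1112, 0)]⟩,
    ⟨243, 0, 1, 0, [(2, 1110, 0), (2, 947, 112)], []⟩,
    ⟨244, 0, 1, 0, [(2, 1112, 0), (2, 1080, 111)], []⟩,
    ⟨150, 14, 2, 9, [(0, 22, 0), (2, 1114, 178), (0, 371, 0)], [(1, 1110, 0)]⟩,
    ⟨237, 21, 2, 9, [(0, 22, 0), (2, 1115, 151), (0, 371, 0)], [(1, 1112, 0)]⟩,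
    ⟨150, 78, 2, 11, [(0, 104, 0), (3, 946, 0), (3, 946, 0), (2, 481, 8), (0, 104, 0), (2, 472, 54), (3, 768, 0), (3, 873, 0), (0, 104, 0), (2, 518, 102), (3, 885, 0), (3, 895, 0), (0, 104, 0), (2, 117, 63), (0, 104, 0), (2, 129, 108), (0, 104, 0), (2, 602, 41), (3, 967, 0), (0, 104, 0), (2, 1037, 4), (0, 104, 0), (2, 1040, 107), (0, 104, 0), (2, 1114, 162), (0, 104, 0)], [(1, 1110, 62)]⟩,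
    ⟨237, 36, 2, 11, [(0, 104, 0), (3, 1078, 0), (3, 1078, 0), (2, 1072, 152), (0, 104, 0), (2, 214, 44), (3, 849, 0), (0, 104, 0), (2, 629, 65), (3, 874, 0), (0, 104, 0), (2, 202, 25), (3, 725, 0), (0, 104, 0), (2, 562, 30), (3, 721, 0), (3, 860, 0), (0, 104, 0), (2, 953, 13), (0, 104, 0), (2, 1050, 4), (0, 104, 0), (2, 1081, 10), (0, 104, 0), (2, 1115, 28), (0, 104, 0)], [(1, 1112, 136)]⟩,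
    ⟨243, 47, 1, 11, [(0, 104, 0), (2, 1110, 4), (0, 104, 0), (2, 1043, 143), (0, 104, 0), (3, 1033, 0), (2, 1109, 57), (0, 104, 0), (2, 1106, 129), (0, 104, 0), (2, 947, 161), (0, 104, 0), (2, 1108, 141), (0, 104, 0), (3, 1099, 0), (2, 1107, 183), (0, 104, 0), (2, 1040, 132), (0, 104, 0), (2, 1114, 66), (0, 104, 0)], []⟩,
    ⟨244, 5, 1, 11, [(0, 104, 0), (3, 1117, 0), (3, 1119, 0), (2, 1112, 122), (0, 104, 0), (3, 1078, 0), (3, 1078, 0), (2, 1072, 109), (0, 104, 0), (2, 953, 110), (0, 104, 0), (2, 756, 110), (3, 860, 0), (0, 104, 0), (2, 1007, 190), (0, 104, 0), (2, 1001, 41), (0, 104, 0), (2, 1010, 114), (0, 104, 0), (2, 1074, 103), (0, 104, 0), (2, 1115, 45), (0, 104, 0)], []⟩,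
    ⟨0, 0, 0, 0, [], []⟩,
    ⟨243, 313, 2, 0, [(1, 1122, 155)], [(3, 1111, 0), (1, 1122, 0)]⟩,
    ⟨243, 616, 2, 0, [(1, 1122, 145)], [(3, 1116, 0), (1, 1122, 0)]⟩,
    ⟨243, 515, 2, 0, [(1, 1122, 113)], [(3, 1118, 0), (1, 1122, 0)]⟩,
    ⟨0, 0, 0, 0, [], []⟩,
    ⟨244, 1134, 2, 0, [(1, 1126, 30)], [(3, 1113, 0), (1, 1126, 0)]⟩,
    ⟨244, 55, 2, 0, [(1, 1126, 11)], [(3, 1117, 0), (1, 1126, 0)]⟩,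
    ⟨244, 1158, 2, 0, [(1, 1126, 99)], [(3, 1119, 0), (1, 1126, 0)]⟩,
    ⟨245, 0, 1, 0, [(2, 1122, 0), (2, 1120, 102)], []⟩,
    ⟨246, 0, 1, 0, [(2, 1126, 0), (2, 1121, 152)], []⟩,
    ⟨243, 21, 2, 9, [(0, 22, 0), (2, 1130, 108), (0, 371, 0)], [(1, 1122, 0)]⟩,
    ⟨244, 21, 2, 9, [(0, 22, 0), (2, 1131, 71), (0, 371, 0)], [(1, 1126, 0)]⟩,
    ⟨243, 34, 2, 11, [(0, 104, 0), (3, 1111, 0), (3, 1116, 0), (3, 1118, 0), (2, 1110, 65), (0, 104, 0), (2, 481, 21), (0, 104, 0), (2, 478, 96), (3, 776, 0), (0, 104, 0), (2, 648, 168), (3, 912, 0), (0, 104, 0), (3, 726, 0), (2, 760, 76), (3, 910, 0), (0, 104, 0), (2, 654, 38), (3, 777, 0), (0, 104, 0), (2, 487, 122), (0, 104, 0), (2, 1114, 80), (0, 104, 0), (2, 1130, 152), (0, 104, 0)], [(1, 1122, 37)]⟩,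
    ⟨244, 21, 2, 11, [(0, 104, 0), (3, 1119, 0), (2, 1112, 166), (0, 104, 0), (3, 1078, 0), (2, 1072, 14), (0, 104, 0), (2, 1012, 73), (0, 104, 0), (3, 290, 0), (2, 952, 29), (0, 104, 0), (3, 951, 0), (2, 1014, 19), (0, 104, 0), (2, 1003, 159), (0, 104, 0), (2, 1075, 112), (3, 1076, 0), (0, 104, 0), (2, 1115, 130), (0, 104, 0), (2, 1131, 14), (0, 104, 0)], [(1, 1126, 0)]⟩,
    ⟨245, 1, 1, 11, [(0, 104, 0), (3, 1125, 0), (3, 1123, 0), (3, 1134, 0), (2, 1122, 51), (0, 104, 0), (3, 1111, 0), (3, 1116, 0), (3, 1118, 0), (2, 1110, 125), (0, 104, 0), (2, 1043, 136), (0, 104, 0), (3, 1033, 0), (2, 1040, 110), (0, 104, 0), (2, 947, 78), (0, 104, 0), (2, 1043, 82), (0, 104, 0), (3, 1033, 0), (2, 1040, 114), (0, 104, 0), (2, 1114, 4), (0, 104, 0), (2, 1130, 61), (0, 104, 0)], []⟩,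
    ⟨246, 2, 1, 11, [(0, 104, 0), (2, 1126, 20), (0, 104, 0), (3, 1113, 0), (3, 1119, 0), (2, 1112, 65), (0, 104, 0), (2, 1096, 6), (0, 104, 0), (3, 1085, 0), (2, 1095, 13), (0, 104, 0), (2, 1080, 98), (0, 104, 0), (2, 1096, 170), (0, 104, 0), (3, 1085, 0), (2, 1095, 17), (0, 104, 0), (2, 1115, 8), (0, 104, 0), (2, 1131, 129), (0, 104, 0)], []⟩,
    ⟨0, 0, 0, 0, [], []⟩,
    ⟨245, 750, 2, 0, [(1, 1138, 117)], [(3, 1123, 0), (1, 1138, 0)]⟩,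
    ⟨245, 1145, 2, 0, [(1, 1138, 55)], [(3, 1124, 0), (1, 1138, 0)]⟩,
    ⟨245, 1355, 2, 0, [(1, 1138, 25)], [(3, 1125, 0), (1, 1138, 0)]⟩,
    ⟨245, 1428, 2, 0, [(1, 1138, 124)], [(3, 1134, 0), (1, 1138, 0)]⟩,
    ⟨0, 0, 0, 0, [], []⟩,
    ⟨246, 1101, 2, 0, [(1, 1143, 59)], [(3, 1127, 0), (1, 1143, 0)]⟩,
    ⟨246, 355, 2, 0, [(1, 1143, 150)], [(3, 1128, 0), (1, 1143, 0)]⟩,
    ⟨246, 660, 2, 0, [(1, 1143, 82)], [(3, 1129, 0), (1, 1143, 0)]⟩,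
    ⟨246, 1060, 2, 0, [(1, 1143, 24)], [(3, 1133, 0), (1, 1143, 0)]⟩,
    ⟨246, 99, 2, 0, [(1, 1143, 17)], [(3, 1135, 0), (1, 1143, 0)]⟩,
    ⟨247, 0, 1, 0, [(2, 1138, 0), (2, 1136, 64)], []⟩,
    ⟨248, 0, 1, 0, [(2, 1143, 0), (2, 1137, 144)], []⟩,
    ⟨245, 14, 2, 9, [(0, 22, 0), (2, 1149, 28), (0, 371, 0)], [(1, 1138, 0)]⟩]

/-- Facts, block 18. -/
def fc18 : List Fc :=
  [⟨248, 224, 0, 248, 1493, 0⟩, ⟨247, 866, 0, 247, 1708, 0⟩, ⟨248, 617, 0, 248, 1268, 0⟩]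

/-- Justifications, block 18. -/
def pf18 : List Pf :=
  [⟨246, 15, 2, 9, [(0, 22, 0), (2, 1150, 117), (0, 371, 0)], [(1, 1143, 0)]⟩,
    ⟨245, 14, 2, 11, [(0, 104, 0), (3, 1134, 0), (2, 1122, 21), (0, 104, 0), (3, 1116, 0), (2, 1110, 152), (0, 104, 0), (2, 1108, 111), (0, 104, 0), (3, 1099, 0), (2, 1107, 187), (0, 104, 0), (2, 1109, 97), (0, 104, 0), (2, 1106, 65), (0, 104, 0), (2, 1114, 184), (0, 104, 0), (2, 1130, 14), (0, 104, 0), (2, 1149, 66), (0, 104, 0)], [(1, 1138, 0)]⟩,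
    ⟨246, 15, 2, 11, [(0, 104, 0), (2, 1126, 156), (0, 104, 0), (3, 1113, 0), (3, 1117, 0), (3, 1119, 0), (2, 1112, 129), (0, 104, 0), (2, 1079, 129), (0, 104, 0), (3, 1045, 0), (2, 1097, 184), (0, 104, 0), (3, 1085, 0), (2, 1094, 36), (0, 104, 0), (3, 1045, 0), (2, 1081, 112), (0, 104, 0), (2, 1115, 155), (0, 104, 0), (2, 1131, 65), (0, 104, 0), (2, 1150, 59), (0, 104, 0)], [(1, 1143, 0)]⟩]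

/-- The blocks of facts. -/
def fcs : List (List Fc) := [fc0, fc1, fc2, fc3, fc4, fc5, fc6, fc7, fc8, fc9, fc10, fc11, fc12, fc13, fc14, fc15, fc16, fc17, fc18]

/-- The blocks of justifications. -/
def pfs : List (List Pf) := [pf0, pf1, pf2, pf3, pf4, pf5, pf6, pf7, pf8, pf9, pf10, pf11, pf12, pf13, pf14, pf15, pf16, pf17, pf18]

/-- The number of facts. -/
def nFacts : ℕ := 1155

/-- The definitions of the nodes. -/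
def pars : List (ℕ × ℕ) :=
  [(0, 0), (0, 0), (1, 0), (1, 1), (3, 0), (3, 1), (5, 0), (5, 1), (5, 2), (5, 8), (5, 29), (7, 1), (7, 2), (7, 5), (7, 8), (7, 14), (7, 15), (7, 21), (7, 29), (8, 1), (8, 2), (8, 5), (8, 8), (8, 14), (8, 15), (8, 21), (8, 29), (9, 2), (9, 8), (10, 1), (10, 2), (11, 1), (11, 2), (11, 5), (11, 8), (11, 14), (11, 15), (11, 21), (11, 29), (12, 1), (12, 2), (12, 5), (12, 8), (12, 14), (12, 15), (12, 21), (12, 29), (13, 1), (13, 2), (13, 8), (13, 14), (13, 15), (13, 21), (13, 29), (14, 2), (14, 5), (14, 8), (14, 15), (15, 1), (15, 2), (15, 5), (15, 14), (15, 15), (15, 21), (15, 29), (16, 1), (16, 2), (16, 5), (16, 8), (16, 14), (16, 15), (16, 21), (16, 29), (0, 0), (17, 2), (0, 0), (0, 0), (17, 14), (17, 15), (17, 21), (17, 29), (18, 1), (18, 2), (18,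 5), (18, 21), (19, 1), (19, 8), (19, 14), (19, 29), (20, 1), (20, 2), (20, 8), (20, 14), (20, 15), (20, 21), (20, 29), (21, 1), (21, 5), (21, 8), (21, 14), (21, 21), (21, 29), (22, 1), (22, 2), (22, 5), (22, 8), (22, 14), (22, 15), (22, 21), (23, 1), (23, 8), (23, 14), (23, 29), (24, 2), (24, 5), (24, 8), (24, 14), (24, 15), (24, 21), (24, 29), (25, 1), (25, 2), (25, 8), (25, 14), (25, 15), (25, 21), (25, 29), (26, 2), (26, 5), (26, 14), (26, 15), (26, 21), (26, 29), (27, 1), (27, 14), (28, 5), (28, 8), (29, 2), (29, 8), (30, 1), (30, 14), (31, 1), (31, 2), (31, 5), (31, 21), (32, 1), (32, 2), (32, 5), (32, 8), (32, 14), (32, 15), (32, 21), (32, 29), (33, 1), (33, 2), (33, 5), (33, 8), (33, 14), (33, 15), (33, 21), (33, 29), (34, 2), (34, 5), (0, 0), (34, 15), (34, 21), (34,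 29), (35, 1), (35, 2), (35, 5), (35, 8), (35, 14), (35, 15), (35, 21), (36, 1), (36, 2), (36, 5), (36, 8), (36, 14), (36, 15), (36, 21), (36, 29), (0, 0), (37, 2), (0, 0), (0, 0), (0, 0), (37, 15), (0, 0), (0, 0), (38, 1), (38, 2), (38, 5), (38, 14), (38, 15), (38, 21), (39, 1), (39, 5), (39, 8), (39, 14), (39, 21), (39, 29), (40, 1), (40, 2), (40, 5), (40, 8), (40, 14), (40, 15), (40, 21), (40, 29), (41, 1), (41, 2), (41, 5), (41, 8), (41, 14), (41, 15), (41, 21), (41, 29), (42, 1), (42, 2), (42, 5), (42, 14), (42, 15), (42, 21), (42, 29), (43, 1), (0, 0), (43, 8), (43, 14), (43, 21), (43, 29), (45, 14), (47, 2), (48, 1), (53, 2), (53, 15), (56, 2), (62, 8), (66, 8), (81, 5), (89, 8), (102, 15), (126, 14), (150, 14), (237, 21), (243, 21), (244, 21), (245, 14), (246, 15)]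

/-- The moves as syllables. -/
def mvs : List (List ℕ) :=
  [[2, 2],
    [2, 2],
    [2, 2],
    [6, 1, 6],
    [6, 1, 6],
    [179, 1, 121],
    [121, 1, 179],
    [1909, 1, 252],
    [1904, 1, 288],
    [25, 2, 374],
    [374, 2, 25],
    [107, 2, 107, 2, 107, 2, 107, 2, 107, 2, 107, 2, 107, 2, 107, 2, 107, 2, 107],
    [107, 2, 107, 2, 107, 2, 107, 2, 107, 2, 107, 2, 107, 2, 107, 2, 107, 2, 107],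
    [107, 2, 107, 2, 107, 2, 107, 2, 107, 2, 107, 2, 107, 2, 107, 2, 107, 2, 107],
    [107, 2, 107, 2, 107, 2, 107, 2, 107, 2, 107, 2, 107, 2, 107, 2, 107, 2, 107],
    [107, 2, 107, 2, 107, 2, 107, 2, 107, 2, 107, 2, 107, 2, 107, 2, 107, 2, 107],
    [107, 2, 107, 2, 107, 2, 107, 2, 107, 2, 107, 2, 107, 2, 107, 2, 107, 2, 107],
    [107, 2, 107, 2, 107, 2, 107, 2, 107, 2, 107, 2, 107, 2, 107, 2, 107, 2, 107],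
    [107, 2, 107, 2, 107, 2, 107, 2, 107, 2, 107, 2, 107, 2, 107, 2, 107, 2, 107],
    [107, 2, 107, 2, 107, 2, 107, 2, 107, 2, 107, 2, 107, 2, 107, 2, 107, 2, 107],
    [107, 2, 107, 2, 107, 2, 107, 2, 107, 2, 107, 2, 107, 2, 107, 2, 107, 2, 107],
    [28, 1, 107, 2, 107, 1, 107, 2, 107, 1, 107, 2, 107, 1, 107],
    [107, 1, 107, 2, 28, 1, 107, 2, 107, 1, 107, 2, 107, 1, 107],
    [107, 1, 107, 2, 107, 1, 107, 2, 28, 1, 107, 2, 107, 1, 107],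
    [107, 1, 107, 2, 107, 1, 107, 2, 107, 1, 107, 2, 28, 1, 107],
    [28, 1, 107, 2, 107, 1, 107, 2, 107, 1, 107, 2, 107, 1, 107],
    [107, 1, 107, 2, 28, 1, 107, 2, 107, 1, 107, 2, 107, 1, 107],
    [107, 1, 107, 2, 107, 1, 107, 2, 28, 1, 107, 2, 107, 1, 107],
    [107, 1, 107, 2, 107, 1, 107, 2, 107, 1, 107, 2, 28, 1, 107]]

/-- The origin of each move: relator, orientation, position, and the chunks. -/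
def mvSrc : List MvSrc :=
  [(23, false, 0, [[7], [7]]),
    (23, false, 1, [[7], [7]]),
    (23, false, 2, [[7], [7]]),
    (24, false, 0, [[3], [6], [3]]),
    (24, true, 1, [[2], [6], [2]]),
    (25, false, 0, [[3, 0, 0, 3, 1], [6], [0, 3, 1, 1, 3]]),
    (25, true, 5, [[0, 2, 1, 1, 2], [6], [2, 0, 0, 2, 1]]),
    (26, false, 0, [[0, 0, 3, 1, 1, 3, 5, 1, 1, 5, 1, 3], [6], [0, 0, 5, 1, 5, 1]]),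
    (26, true, 12, [[2, 0, 4, 0, 0, 4, 2, 0, 0, 2, 1, 1], [6], [0, 4, 0, 4, 1, 1]]),
    (27, false, 3, [[0, 5, 1], [7], [3, 0, 0, 3, 5, 1]]),
    (27, false, 10, [[3, 0, 0, 3, 5, 1], [7], [0, 5, 1]]),
    (28, false, 0, [[0, 0, 3, 1, 1], [7], [0, 0, 3, 1, 1], [7], [0, 0, 3, 1, 1], [7], [0, 0, 3, 1, 1], [7], [0, 0, 3, 1, 1], [7], [0, 0, 3, 1, 1], [7], [0, 0, 3, 1, 1], [7], [0, 0, 3, 1, 1], [7], [0, 0, 3, 1, 1], [7], [0, 0, 3, 1, 1]]),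
    (28, false, 6, [[0, 0, 3, 1, 1], [7], [0, 0, 3, 1, 1], [7], [0, 0, 3, 1, 1], [7], [0, 0, 3, 1, 1], [7], [0, 0, 3, 1, 1], [7], [0, 0, 3, 1, 1], [7], [0, 0, 3, 1, 1], [7], [0, 0, 3, 1, 1], [7], [0, 0, 3, 1, 1], [7], [0, 0, 3, 1, 1]]),
    (28, false, 12, [[0, 0, 3, 1, 1], [7], [0, 0, 3, 1, 1], [7], [0, 0, 3, 1, 1], [7], [0, 0, 3, 1, 1], [7], [0, 0, 3, 1, 1], [7], [0, 0, 3, 1, 1], [7], [0, 0, 3, 1, 1], [7], [0, 0, 3, 1, 1], [7], [0, 0, 3, 1, 1], [7], [0, 0, 3, 1, 1]]),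
    (28, false, 18, [[0, 0, 3, 1, 1], [7], [0, 0, 3, 1, 1], [7], [0, 0, 3, 1, 1], [7], [0, 0, 3, 1, 1], [7], [0, 0, 3, 1, 1], [7], [0, 0, 3, 1, 1], [7], [0, 0, 3, 1, 1], [7], [0, 0, 3, 1, 1], [7], [0, 0, 3, 1, 1], [7], [0, 0, 3, 1, 1]]),
    (28, false, 24, [[0, 0, 3, 1, 1], [7], [0, 0, 3, 1, 1], [7], [0, 0, 3, 1, 1], [7], [0, 0, 3, 1, 1], [7], [0, 0, 3, 1, 1], [7], [0, 0, 3, 1, 1], [7], [0, 0, 3, 1, 1], [7], [0, 0, 3, 1, 1], [7], [0, 0, 3, 1, 1], [7], [0, 0, 3, 1, 1]]),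
    (28, false, 30, [[0, 0, 3, 1, 1], [7], [0, 0, 3, 1, 1], [7], [0, 0, 3, 1, 1], [7], [0, 0, 3, 1, 1], [7], [0, 0, 3, 1, 1], [7], [0, 0, 3, 1, 1], [7], [0, 0, 3, 1, 1], [7], [0, 0, 3, 1, 1], [7], [0, 0, 3, 1, 1], [7], [0, 0, 3, 1, 1]]),
    (28, false, 36, [[0, 0, 3, 1, 1], [7], [0, 0, 3, 1, 1], [7], [0, 0, 3, 1, 1], [7], [0, 0, 3, 1, 1], [7], [0, 0, 3, 1, 1], [7], [0, 0, 3, 1, 1], [7], [0, 0, 3, 1, 1], [7], [0, 0, 3, 1, 1], [7], [0, 0, 3, 1, 1], [7], [0, 0, 3, 1, 1]]),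
    (28, false, 42, [[0, 0, 3, 1, 1], [7], [0, 0, 3, 1, 1], [7], [0, 0, 3, 1, 1], [7], [0, 0, 3, 1, 1], [7], [0, 0, 3, 1, 1], [7], [0, 0, 3, 1, 1], [7], [0, 0, 3, 1, 1], [7], [0, 0, 3, 1, 1], [7], [0, 0, 3, 1, 1], [7], [0, 0, 3, 1, 1]]),
    (28, false, 48, [[0, 0, 3, 1, 1], [7], [0, 0, 3, 1, 1], [7], [0, 0, 3, 1, 1], [7], [0, 0, 3, 1, 1], [7], [0, 0, 3, 1, 1], [7], [0, 0, 3, 1, 1], [7], [0, 0, 3, 1, 1], [7], [0, 0, 3, 1, 1], [7], [0, 0, 3, 1, 1], [7], [0, 0, 3, 1, 1]]),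
    (28, false, 54, [[0, 0, 3, 1, 1], [7], [0, 0, 3, 1, 1], [7], [0, 0, 3, 1, 1], [7], [0, 0, 3, 1, 1], [7], [0, 0, 3, 1, 1], [7], [0, 0, 3, 1, 1], [7], [0, 0, 3, 1, 1], [7], [0, 0, 3, 1, 1], [7], [0, 0, 3, 1, 1], [7], [0, 0, 3, 1, 1]]),
    (29, false, 0, [[0, 3, 1, 1, 3, 0, 3, 1, 1, 3, 0, 0, 3, 1, 1], [6], [0, 0, 3, 1, 1], [7], [0, 0, 3, 1, 1], [6], [0, 0, 3, 1, 1], [7], [0, 0, 3, 1, 1], [6], [0, 0, 3, 1, 1], [7], [0, 0, 3, 1, 1], [6], [0, 0, 3, 1, 1]]),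
    (29, false, 12, [[0, 0, 3, 1, 1], [6], [0, 0, 3, 1, 1], [7], [0, 3, 1, 1, 3, 0, 3, 1, 1, 3, 0, 0, 3, 1, 1], [6], [0, 0, 3, 1, 1], [7], [0, 0, 3, 1, 1], [6], [0, 0, 3, 1, 1], [7], [0, 0, 3, 1, 1], [6], [0, 0, 3, 1, 1]]),
    (29, false, 24, [[0, 0, 3, 1, 1], [6], [0, 0, 3, 1, 1], [7], [0, 0, 3, 1, 1], [6], [0, 0, 3, 1, 1], [7], [0, 3, 1, 1, 3, 0, 3, 1, 1, 3, 0, 0, 3, 1, 1], [6], [0, 0, 3, 1, 1], [7], [0, 0, 3, 1, 1], [6], [0, 0, 3, 1, 1]]),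
    (29, false, 36, [[0, 0, 3, 1, 1], [6], [0, 0, 3, 1, 1], [7], [0, 0, 3, 1, 1], [6], [0, 0, 3, 1, 1], [7], [0, 0, 3, 1, 1], [6], [0, 0, 3, 1, 1], [7], [0, 3, 1, 1, 3, 0, 3, 1, 1, 3, 0, 0, 3, 1, 1], [6], [0, 0, 3, 1, 1]]),
    (29, true, 15, [[0, 0, 2, 1, 1, 2, 0, 0, 2, 1, 2, 0, 0, 2, 1], [6], [0, 0, 2, 1, 1], [7], [0, 0, 2, 1, 1], [6], [0, 0, 2, 1, 1], [7], [0, 0, 2, 1, 1], [6], [0, 0, 2, 1, 1], [7], [0, 0, 2, 1, 1], [6], [0, 0, 2, 1, 1]]),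
    (29, true, 27, [[0, 0, 2, 1, 1], [6], [0, 0, 2, 1, 1], [7], [0, 0, 2, 1, 1, 2, 0, 0, 2, 1, 2, 0, 0, 2, 1], [6], [0, 0, 2, 1, 1], [7], [0, 0, 2, 1, 1], [6], [0, 0, 2, 1, 1], [7], [0, 0, 2, 1, 1], [6], [0, 0, 2, 1, 1]]),
    (29, true, 39, [[0, 0, 2, 1, 1], [6], [0, 0, 2, 1, 1], [7], [0, 0, 2, 1, 1], [6], [0, 0, 2, 1, 1], [7], [0, 0, 2, 1, 1, 2, 0, 0, 2, 1, 2, 0, 0, 2, 1], [6], [0, 0, 2, 1, 1], [7], [0, 0, 2, 1, 1], [6], [0, 0, 2, 1, 1]]),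
    (29, true, 51, [[0, 0, 2, 1, 1], [6], [0, 0, 2, 1, 1], [7], [0, 0, 2, 1, 1], [6], [0, 0, 2, 1, 1], [7], [0, 0, 2, 1, 1], [6], [0, 0, 2, 1, 1], [7], [0, 0, 2, 1, 1, 2, 0, 0, 2, 1, 2, 0, 0, 2, 1], [6], [0, 0, 2, 1, 1]])]

/-- The double cosets. -/
def roots : List ℕ :=
  [0, 1, 3, 5, 7, 8, 9, 10, 11, 12, 13, 14, 15, 16, 18, 19, 20, 21, 22, 23, 24, 25, 26, 28, 29, 31, 32, 33, 34, 35, 36, 38, 39, 40, 41, 42, 44, 45, 46, 47, 48, 53, 56, 60, 62, 63, 65, 66, 68, 72, 81, 89, 102, 113, 120, 122, 123, 126, 128, 136, 138, 143, 150, 169, 177, 231, 232, 233, 234, 235, 236, 237, 239, 240, 241, 243, 244, 245, 246, 247, 248]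

/-- The edges leaving the double cosets. -/
def cover : List (List (List Step)) :=
  [[[(5, 0, 0), (1, 0, 0)], [(5, 1, 0), (1, 0, 0)], [(5, 2, 0), (1, 0, 0)], [(5, 5, 0), (1, 0, 0)], [(5, 8, 0), (1, 0, 0)], [(5, 14, 0), (1, 0, 0)], [(5, 15, 0), (1, 0, 0)], [(5, 21, 0), (1, 0, 0)], [(5, 22, 0), (1, 0, 0)], [(5, 29, 0), (1, 0, 0)]],
    [[(1, 5, 0), (3, 7, 0)], [(1, 9, 0)], [(3, 3, 0), (1, 9, 12)], [(3, 1, 0), (1, 9, 18)], [(3, 1, 0), (3, 3, 0), (1, 9, 38)], [(3, 4, 0), (3, 1, 0), (1, 9, 126)], [(3, 1, 0), (3, 4, 0), (3, 3, 0), (1, 9, 19)], [(3, 1, 0), (3, 4, 0), (3, 1, 0), (1, 9, 87)], [(1, 8, 2)], [(3, 4, 0), (3, 3, 0), (1, 9, 5)]],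
    [[(1, 13, 0), (3, 15, 0)], [(1, 17, 0)], [(3, 12, 0), (1, 17, 115)], [(3, 11, 0), (1, 17, 2)], [(3, 11, 0), (3, 11, 0), (1, 17, 38)], [(3, 10, 0), (1, 17, 150)], [(3, 10, 0), (3, 12, 0), (1, 17, 85)], [(3, 10, 0), (3, 11, 0), (1, 17, 35)], [(1, 16, 149)], [(3, 10, 0), (3, 11, 0), (3, 11, 0), (1, 17, 107)]],
    [[(1, 19, 0), (3, 21, 0)], [(1, 23, 0)], [(1, 24, 0)], [(3, 18, 0), (3, 18, 0), (1, 24, 163)], [(1, 29, 0)], [(3, 18, 0), (1, 24, 78)], [(3, 18, 0), (3, 18, 0), (1, 23, 41)], [(3, 18, 0), (1, 23, 17)], [(1, 22, 92)], [(1, 31, 0)]],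
    [[(1, 27, 0)], [(1, 39, 0)], [(1, 40, 0)], [(1, 43, 0)], [(1, 44, 0)], [(1, 48, 0)], [(1, 49, 0)], [(1, 56, 0), (3, 782, 0)], [(1, 25, 0)], [(1, 57, 0)]],
    [[(1, 28, 0)], [(1, 65, 0)], [(1, 66, 0)], [(1, 70, 0)], [(1, 71, 0)], [(1, 74, 0)], [(1, 75, 0)], [(1, 83, 0)], [(1, 26, 0)], [(1, 84, 0)]],
    [[(1, 37, 0)], [(3, 35, 0), (1, 37, 67)], [(1, 91, 0), (3, 829, 0)], [(3, 30, 0), (3, 30, 0), (1, 91, 140), (3, 829, 0)], [(1, 93, 0)], [(3, 35, 0), (1, 33, 67)], [(3, 30, 0), (3, 30, 0), (1, 93, 117)], [(3, 30, 0), (1, 93, 74)], [(1, 33, 0)], [(3, 30, 0), (1, 91, 73), (3, 829, 0)]],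
    [[(1, 38, 0)], [(1, 99, 0)], [(1, 101, 0), (3, 730, 0)], [(3, 32, 0), (3, 32, 0), (1, 99, 80)], [(3, 36, 0), (1, 38, 61)], [(3, 36, 0), (1, 101, 25), (3, 730, 0)], [(3, 32, 0), (1, 99, 102)], [(3, 32, 0), (1, 101, 177), (3, 730, 0)], [(1, 34, 0)], [(3, 36, 0), (1, 34, 147)]],
    [[(1, 52, 0)], [(1, 107, 0)], [(1, 108, 0)], [(1, 112, 0)], [(1, 113, 0)], [(1, 118, 0)], [(1, 119, 0)], [(1, 126, 0), (3, 748, 0)], [(1, 41, 0)], [(1, 127, 0)]],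
    [[(1, 53, 0)], [(1, 136, 0)], [(1, 137, 0)], [(1, 142, 0)], [(1, 143, 0)], [(1, 146, 0), (3, 815, 0)], [(1, 147, 0)], [(1, 156, 0)], [(1, 42, 0)], [(1, 157, 0)]],
    [[(3, 785, 0), (1, 45, 126)], [(1, 166, 0)], [(1, 167, 0)], [(1, 140, 144)], [(1, 170, 0), (3, 981, 0)], [(3, 785, 0), (1, 166, 86)], [(3, 785, 0), (1, 167, 98)], [(3, 785, 0), (1, 140, 177)], [(1, 45, 0)], [(1, 185, 0)]],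
    [[(1, 61, 0)], [(3, 47, 0), (1, 61, 67)], [(1, 186, 0), (3, 878, 0)], [(1, 191, 0), (3, 799, 0)], [(1, 192, 0)], [(3, 47, 0), (1, 46, 67)], [(1, 196, 0), (3, 780, 0)], [(3, 47, 0), (1, 192, 27)], [(1, 46, 0)], [(3, 47, 0), (1, 191, 78), (3, 799, 0)]],
    [[(1, 50, 0)], [(1, 198, 0), (3, 725, 0)], [(1, 205, 0), (3, 849, 0)], [(1, 206, 0)], [(1, 183, 134), (3, 794, 0)], [(1, 209, 0), (3, 808, 0)], [(1, 210, 0)], [(1, 217, 0)], [(1, 54, 0)], [(1, 218, 0), (3, 729, 0)]],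
    [[(1, 51, 0)], [(1, 226, 0)], [(1, 227, 0)], [(1, 234, 0), (3, 747, 0)], [(1, 235, 0)], [(1, 238, 0), (3, 834, 0)], [(1, 239, 0), (3, 932, 0)], [(1, 248, 0), (3, 745, 0)], [(1, 55, 0)], [(1, 249, 0)]],
    [[(1, 59, 0)], [(1, 272, 0)], [(1, 273, 0), (3, 804, 0)], [(1, 277, 0), (3, 891, 0)], [(3, 64, 0), (1, 59, 61)], [(3, 64, 0), (1, 273, 25), (3, 804, 0)], [(3, 64, 0), (1, 272, 58)], [(1, 278, 0), (3, 890, 0)], [(1, 63, 0)], [(3, 64, 0), (1, 63, 147)]],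
    [[(1, 78, 0)], [(1, 279, 0), (3, 831, 0)], [(3, 69, 0), (1, 78, 12)], [(3, 69, 0), (1, 279, 4), (3, 831, 0)], [(1, 280, 0), (3, 740, 0)], [(1, 283, 0), (3, 830, 0)], [(3, 69, 0), (1, 67, 22)], [(3, 69, 0), (1, 283, 155), (3, 830, 0)], [(1, 67, 0)], [(1, 284, 0), (3, 739, 0)]],
    [[(1, 79, 0)], [(1, 286, 0)], [(1, 287, 0), (3, 811, 0)], [(1, 258, 37), (3, 786, 0)], [(1, 291, 0), (3, 712, 0)], [(1, 292, 0), (3, 922, 0)], [(1, 297, 0), (3, 812, 0)], [(1, 298, 0), (3, 800, 0)], [(1, 68, 0)], [(1, 305, 0), (3, 936, 0)]],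
    [[(1, 87, 0)], [(1, 306, 0), (3, 905, 0)], [(1, 116, 126)], [(3, 899, 0), (1, 72, 39)], [(3, 899, 0), (1, 306, 29), (3, 905, 0)], [(1, 313, 0), (3, 906, 0)], [(1, 230, 126)], [(3, 899, 0), (1, 87, 109)], [(1, 72, 0)], [(3, 899, 0), (1, 313, 25), (3, 906, 0)]],
    [[(1, 88, 0)], [(1, 318, 0)], [(1, 321, 0), (3, 772, 0), (3, 799, 0)], [(1, 322, 0), (3, 873, 0)], [(1, 325, 0), (3, 805, 0)], [(1, 326, 0), (3, 867, 0)], [(1, 336, 0), (3, 734, 0)], [(1, 337, 0), (3, 767, 0)], [(1, 73, 0)], [(1, 266, 1), (3, 788, 0)]],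
    [[(1, 76, 0)], [(1, 343, 0), (3, 737, 0), (3, 794, 0)], [(3, 82, 0), (1, 76, 187)], [(3, 82, 0), (1, 343, 184), (3, 737, 0), (3, 794, 0)], [(1, 344, 0), (3, 817, 0)], [(1, 347, 0), (3, 738, 0)], [(3, 82, 0), (1, 80, 177)], [(3, 82, 0), (1, 347, 8), (3, 738, 0)], [(1, 80, 0)], [(1, 348, 0), (3, 837, 0)]],
    [[(1, 77, 0)], [(1, 164, 83)], [(1, 352, 0)], [(3, 813, 0), (1, 77, 97)], [(1, 358, 0), (3, 844, 0)], [(3, 813, 0), (1, 358, 167), (3, 844, 0)], [(1, 364, 0), (3, 985, 0)], [(3, 813, 0), (1, 81, 108)], [(1, 81, 0)], [(3, 813, 0), (1, 164, 101)]],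
    [[(1, 85, 0)], [(1, 374, 0)], [(1, 379, 0), (3, 895, 0)], [(1, 356, 144), (3, 731, 0), (3, 772, 0), (3, 799, 0)], [(1, 380, 0)], [(1, 383, 0)], [(1, 384, 0), (3, 823, 0), (3, 873, 0)], [(1, 391, 0), (3, 724, 0)], [(1, 89, 0)], [(1, 392, 0)]],
    [[(1, 86, 0)], [(3, 722, 0), (1, 86, 4)], [(3, 722, 0), (1, 203, 30), (3, 725, 0)], [(1, 402, 0)], [(1, 203, 160), (3, 725, 0)], [(3, 722, 0), (1, 90, 4)], [(1, 406, 0), (3, 860, 0)], [(1, 415, 0), (3, 910, 0)], [(1, 90, 0)], [(3, 722, 0), (1, 406, 22), (3, 860, 0)]],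
    [[(1, 98, 0), (3, 829, 0)], [(1, 134, 62)], [(3, 94, 0), (1, 333, 77), (3, 805, 0)], [(1, 429, 0), (3, 822, 0)], [(1, 430, 0)], [(1, 333, 67), (3, 805, 0)], [(3, 94, 0), (1, 134, 94)], [(3, 94, 0), (1, 430, 91)], [(1, 96, 0)], [(3, 94, 0), (1, 429, 124), (3, 822, 0)]],
    [[(1, 105, 0), (3, 730, 0)], [(1, 302, 36), (3, 800, 0)], [(1, 438, 0), (3, 816, 0)], [(3, 100, 0), (1, 302, 187), (3, 800, 0)], [(1, 439, 0)], [(1, 246, 78), (3, 834, 0)], [(3, 100, 0), (1, 439, 78)], [(3, 100, 0), (1, 246, 99), (3, 834, 0)], [(1, 103, 0)], [(3, 100, 0), (1, 438, 156), (3, 816, 0)]],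
    [[(1, 122, 0)], [(3, 930, 0), (1, 122, 78)], [(3, 111, 0), (3, 930, 0), (1, 109, 85)], [(1, 464, 0)], [(3, 111, 0), (1, 122, 61)], [(3, 930, 0), (1, 109, 78)], [(3, 111, 0), (3, 930, 0), (1, 122, 169)], [(1, 466, 0), (3, 943, 0)], [(1, 109, 0)], [(3, 111, 0), (1, 109, 147)]],
    [[(1, 123, 0)], [(1, 470, 0), (3, 768, 0), (3, 873, 0)], [(1, 471, 0), (3, 892, 0)], [(1, 476, 0), (3, 776, 0)], [(1, 477, 0), (3, 856, 0)], [(1, 480, 0), (3, 770, 0)], [(1, 481, 0)], [(1, 490, 0), (3, 762, 0)], [(1, 110, 0)], [(1, 491, 0), (3, 880, 0)]],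
    [[(1, 130, 0), (3, 748, 0)], [(1, 499, 0), (3, 872, 0)], [(1, 500, 0), (3, 714, 0), (3, 936, 0)], [(1, 503, 0), (3, 941, 0)], [(1, 504, 0), (3, 884, 0)], [(1, 509, 0), (3, 848, 0)], [(1, 510, 0), (3, 713, 0)], [(1, 513, 0), (3, 807, 0)], [(1, 114, 0)], [(1, 514, 0), (3, 885, 0), (3, 895, 0)]],
    [[(1, 131, 0)], [(1, 231, 60)], [(1, 521, 0), (3, 901, 0)], [(1, 522, 0), (3, 758, 0), (3, 860, 0)], [(3, 896, 0), (1, 131, 116)], [(1, 117, 0)], [(3, 896, 0), (1, 522, 123), (3, 758, 0), (3, 860, 0)], [(3, 896, 0), (1, 521, 147), (3, 901, 0)], [(1, 115, 0)], [(3, 896, 0), (1, 115, 23)]],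
    [[(1, 120, 0)], [(1, 534, 0), (3, 749, 0)], [(1, 535, 0), (3, 924, 0)], [(1, 540, 0)], [(1, 541, 0), (3, 859, 0), (3, 867, 0)], [(1, 549, 0), (3, 925, 0)], [(1, 550, 0), (3, 923, 0)], [(1, 552, 0), (3, 754, 0)], [(1, 124, 0)], [(1, 425, 30), (3, 841, 0)]],
    [[(1, 121, 0)], [(1, 553, 0), (3, 957, 0)], [(1, 560, 0), (3, 721, 0), (3, 860, 0)], [(1, 561, 0), (3, 735, 0)], [(1, 564, 0)], [(1, 565, 0), (3, 972, 0)], [(1, 572, 0), (3, 720, 0)], [(1, 573, 0), (3, 736, 0), (3, 808, 0)], [(1, 125, 0)], [(1, 577, 0), (3, 881, 0)]],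
    [[(1, 129, 0)], [(1, 591, 0), (3, 914, 0)], [(1, 593, 0), (3, 820, 0)], [(1, 594, 0), (3, 875, 0)], [(1, 334, 160), (3, 805, 0)], [(1, 598, 0), (3, 967, 0)], [(1, 599, 0), (3, 821, 0)], [(1, 603, 0), (3, 887, 0)], [(1, 133, 0)], [(1, 135, 1)]],
    [[(1, 150, 0), (3, 815, 0)], [(1, 604, 0), (3, 842, 0)], [(1, 179, 0), (3, 794, 0)], [(1, 609, 0), (3, 819, 0)], [(1, 610, 0), (3, 809, 0)], [(1, 612, 0), (3, 866, 0)], [(1, 141, 0)], [(1, 613, 0), (3, 818, 0), (3, 941, 0)], [(1, 138, 0)], [(1, 618, 0), (3, 810, 0)]],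
    [[(1, 151, 0)], [(1, 619, 0), (3, 792, 0), (3, 875, 0)], [(3, 783, 0), (1, 151, 164)], [(1, 623, 0), (3, 778, 0)], [(1, 627, 0), (3, 874, 0)], [(3, 783, 0), (1, 627, 101), (3, 874, 0)], [(3, 783, 0), (1, 139, 124)], [(1, 631, 0), (3, 781, 0), (3, 878, 0)], [(1, 139, 0)], [(3, 783, 0), (1, 619, 164), (3, 792, 0), (3, 875, 0)]],
    [[(1, 160, 0)], [(3, 911, 0), (1, 160, 4)], [(1, 641, 0), (3, 771, 0)], [(1, 642, 0), (3, 909, 0)], [(3, 911, 0), (1, 641, 12), (3, 771, 0)], [(3, 911, 0), (1, 144, 4)], [(1, 649, 0), (3, 777, 0)], [(1, 650, 0), (3, 908, 0)], [(1, 144, 0)], [(3, 911, 0), (1, 649, 22), (3, 777, 0)]],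
    [[(1, 161, 0)], [(1, 658, 0), (3, 876, 0)], [(1, 662, 0), (3, 852, 0)], [(1, 663, 0), (3, 851, 0)], [(1, 442, 41), (3, 816, 0)], [(1, 666, 0), (3, 888, 0)], [(1, 667, 0), (3, 978, 0)], [(1, 674, 0), (3, 850, 0)], [(1, 145, 0)], [(1, 675, 0), (3, 836, 0)]],
    [[(1, 149, 0)], [(1, 497, 83), (3, 880, 0)], [(1, 847, 76)], [(1, 846, 115)], [(1, 992, 20)], [(1, 893, 97)], [(1, 877, 151)], [(1, 845, 115)], [(1, 153, 0)], [(1, 993, 142)]],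
    [[(1, 158, 0)], [(1, 994, 83)], [(3, 917, 0), (1, 158, 20)], [(3, 917, 0), (1, 915, 171)], [(1, 915, 85)], [(1, 1030, 0)], [(3, 917, 0), (1, 162, 48)], [(3, 917, 0), (1, 916, 52), (3, 967, 0)], [(1, 162, 0)], [(1, 916, 169), (3, 967, 0)]],
    [[(1, 159, 0)], [(1, 361, 0), (3, 827, 0), (3, 844, 0)], [(1, 934, 154)], [(1, 995, 18)], [(1, 538, 160), (3, 749, 0)], [(1, 165, 0)], [(1, 933, 131)], [(1, 996, 102)], [(1, 163, 0)], [(1, 755, 130)]],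
    [[(1, 173, 0), (3, 795, 0)], [(3, 970, 0), (1, 968, 56)], [(1, 1032, 0)], [(1, 968, 161)], [(3, 970, 0), (1, 173, 43), (3, 795, 0)], [(3, 970, 0), (1, 969, 182)], [(1, 997, 11)], [(1, 969, 75)], [(1, 168, 0)], [(3, 970, 0), (1, 168, 95)]],
    [[(1, 180, 0), (3, 796, 0)], [(1, 1044, 0)], [(3, 955, 0), (1, 169, 68)], [(3, 955, 0), (1, 797, 137), (3, 834, 0)], [(1, 797, 102), (3, 834, 0)], [(1, 998, 0)], [(3, 955, 0), (1, 180, 89), (3, 796, 0)], [(3, 955, 0), (1, 853, 87), (3, 978, 0)], [(1, 169, 0)], [(1, 853, 63), (3, 978, 0)]],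
    [[(1, 187, 0), (3, 981, 0)], [(3, 982, 0), (3, 983, 0), (1, 187, 132), (3, 981, 0)], [(1, 1046, 0)], [(3, 983, 0), (3, 984, 0), (1, 187, 97), (3, 981, 0)], [(3, 984, 0), (1, 187, 65), (3, 981, 0)], [(3, 983, 0), (1, 187, 172), (3, 981, 0)], [(1, 1057, 0)], [(3, 982, 0), (3, 983, 0), (3, 984, 0), (1, 187, 109), (3, 981, 0)], [(3, 982, 0), (1, 187, 98), (3, 981, 0)], [(3, 982, 0), (3, 984, 0), (1, 187, 91), (3, 981, 0)]],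
    [[(1, 195, 0), (3, 799, 0)], [(3, 854, 0), (1, 195, 132), (3, 799, 0)], [(1, 1061, 0)], [(3, 854, 0), (1, 802, 78)], [(1, 801, 20), (3, 834, 0)], [(3, 854, 0), (1, 194, 132)], [(1, 1000, 48)], [(3, 854, 0), (1, 801, 176), (3, 834, 0)], [(1, 194, 0)], [(1, 802, 158)]],
    [[(1, 222, 0)], [(3, 989, 0), (1, 1001, 156)], [(3, 989, 0), (1, 222, 187)], [(1, 1001, 11)], [(1, 986, 186)], [(1, 988, 50)], [(3, 989, 0), (1, 208, 177)], [(3, 989, 0), (1, 988, 24)], [(1, 208, 0)], [(1, 987, 16)]],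
    [[(1, 212, 0), (3, 849, 0)], [(1, 862, 83)], [(1, 863, 121)], [(1, 864, 40)], [(1, 1072, 0)], [(1, 861, 172)], [(1, 1003, 1)], [(1, 865, 20), (3, 886, 0)], [(1, 216, 0)], [(1, 1002, 48)]],
    [[(1, 219, 0)], [(3, 990, 0), (1, 223, 139)], [(3, 990, 0), (1, 980, 139)], [(1, 980, 111)], [(1, 1004, 18)], [(3, 990, 0), (1, 219, 169)], [(3, 990, 0), (1, 979, 115)], [(1, 979, 86)], [(1, 223, 0)], [(1, 1035, 0)]],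
    [[(1, 242, 0), (3, 834, 0)], [(1, 889, 52)], [(1, 232, 11)], [(3, 900, 0), (1, 242, 57), (3, 834, 0)], [(3, 900, 0), (1, 753, 129), (3, 844, 0)], [(1, 753, 18), (3, 844, 0)], [(1, 233, 11)], [(3, 900, 0), (1, 228, 7)], [(1, 228, 0)], [(3, 900, 0), (1, 889, 41)]],
    [[(1, 243, 0), (3, 932, 0)], [(1, 1006, 0)], [(1, 1010, 12)], [(1, 938, 16)], [(1, 1073, 0), (3, 1076, 0)], [(1, 1009, 18)], [(1, 1008, 142)], [(1, 937, 92)], [(1, 229, 0)], [(1, 1007, 87)]],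
    [[(1, 252, 0)], [(1, 871, 143)], [(1, 882, 138)], [(1, 868, 43)], [(1, 843, 172), (3, 866, 0)], [(1, 870, 24)], [(1, 883, 138)], [(1, 869, 43)], [(1, 237, 0)], [(1, 452, 156), (3, 741, 0), (3, 830, 0)]],
    [[(1, 251, 0)], [(3, 255, 0), (1, 254, 75)], [(3, 858, 0), (1, 254, 65)], [(1, 710, 87), (3, 941, 0)], [(3, 255, 0), (3, 858, 0), (1, 251, 182)], [(3, 255, 0), (1, 251, 161)], [(3, 858, 0), (1, 251, 101)], [(1, 944, 81)], [(1, 254, 0)], [(3, 255, 0), (3, 858, 0), (1, 254, 182)]],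
    [[(1, 276, 0), (3, 804, 0)], [(3, 855, 0), (1, 274, 161)], [(1, 715, 111), (3, 837, 0)], [(1, 1082, 0)], [(1, 806, 72)], [(3, 855, 0), (1, 276, 75), (3, 804, 0)], [(3, 855, 0), (1, 806, 181)], [(1, 570, 149), (3, 972, 0)], [(1, 274, 0)], [(3, 855, 0), (1, 715, 63), (3, 837, 0)]],
    [[(1, 294, 0), (3, 922, 0)], [(1, 1012, 18)], [(3, 290, 0), (1, 288, 19)], [(3, 290, 0), (1, 1012, 105)], [(1, 1084, 0)], [(3, 290, 0), (1, 1014, 157)], [(3, 290, 0), (1, 294, 183), (3, 922, 0)], [(1, 1014, 82)], [(1, 288, 0)], [(1, 1013, 0)]],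
    [[(1, 330, 0), (3, 867, 0)], [(3, 320, 0), (1, 330, 132), (3, 867, 0)], [(1, 1015, 11)], [(1, 1016, 18)], [(3, 320, 0), (1, 1017, 122)], [(3, 320, 0), (1, 319, 132)], [(1, 1098, 0)], [(1, 1017, 102)], [(1, 319, 0)], [(3, 320, 0), (1, 1016, 105)]],
    [[(1, 368, 0), (3, 985, 0)], [(3, 826, 0), (1, 958, 151)], [(1, 959, 183), (3, 985, 0)], [(1, 958, 8)], [(1, 1018, 83)], [(3, 826, 0), (1, 960, 32), (3, 972, 0)], [(3, 826, 0), (1, 1018, 93)], [(1, 960, 155), (3, 972, 0)], [(1, 354, 0)], [(3, 826, 0), (1, 959, 170), (3, 985, 0)]],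
    [[(1, 387, 0)], [(1, 1088, 0)], [(3, 921, 0), (1, 1020, 108)], [(3, 921, 0), (1, 387, 154)], [(1, 1020, 18)], [(1, 1021, 62)], [(1, 1019, 0)], [(3, 921, 0), (1, 378, 154)], [(1, 378, 0)], [(3, 921, 0), (1, 1019, 131)]],
    [[(1, 396, 0)], [(3, 991, 0), (1, 1022, 65)], [(3, 991, 0), (1, 382, 115)], [(1, 1023, 1)], [(1, 1022, 0)], [(3, 991, 0), (1, 1024, 91)], [(3, 991, 0), (1, 396, 139)], [(1, 1065, 0)], [(1, 382, 0)], [(1, 1024, 0)]],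
    [[(1, 385, 0)], [(3, 976, 0), (1, 973, 115)], [(3, 976, 0), (1, 389, 65)], [(1, 975, 82)], [(1, 974, 189)], [(3, 976, 0), (1, 974, 115)], [(3, 976, 0), (1, 385, 101)], [(1, 1089, 0)], [(1, 389, 0)], [(1, 973, 11)]],
    [[(1, 394, 0)], [(1, 1027, 17)], [(3, 928, 0), (1, 398, 20)], [(1, 1026, 1)], [(1, 1025, 0)], [(1, 1100, 0), (3, 1103, 0)], [(3, 928, 0), (1, 394, 48)], [(3, 928, 0), (1, 1025, 12)], [(1, 398, 0)], [(3, 928, 0), (1, 1026, 81)]],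
    [[(1, 419, 0), (3, 910, 0)], [(3, 726, 0), (1, 764, 44)], [(1, 1028, 0)], [(1, 764, 179)], [(3, 726, 0), (1, 1028, 20)], [(3, 726, 0), (1, 763, 117), (3, 776, 0)], [(1, 1029, 0)], [(1, 763, 188), (3, 776, 0)], [(1, 404, 0)], [(3, 726, 0), (1, 1029, 48)]],
    [[(3, 839, 0), (1, 432, 111)], [(3, 839, 0), (1, 857, 123)], [(1, 436, 82), (3, 867, 0)], [(1, 919, 18)], [(1, 920, 11)], [(1, 857, 109)], [(3, 839, 0), (1, 436, 142), (3, 867, 0)], [(1, 1070, 10)], [(1, 432, 0)], [(3, 839, 0), (1, 920, 122)]],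
    [[(3, 835, 0), (1, 441, 0)], [(1, 1055, 27)], [(3, 835, 0), (1, 446, 150), (3, 922, 0)], [(1, 927, 12), (3, 936, 0)], [(3, 835, 0), (1, 926, 136)], [(1, 939, 119)], [(1, 446, 141), (3, 922, 0)], [(3, 835, 0), (1, 927, 12), (3, 936, 0)], [(1, 441, 0)], [(1, 926, 142)]],
    [[(1, 469, 0), (3, 943, 0)], [(3, 935, 0), (1, 940, 65)], [(1, 940, 11)], [(3, 465, 0), (3, 935, 0), (1, 942, 92)], [(3, 465, 0), (1, 940, 48)], [(3, 935, 0), (1, 942, 68)], [(1, 942, 152)], [(3, 465, 0), (3, 935, 0), (1, 940, 44)], [(1, 467, 0)], [(3, 465, 0), (1, 942, 12)]],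
    [[(1, 483, 0), (3, 892, 0)], [(1, 947, 83)], [(3, 946, 0), (3, 946, 0), (1, 487, 130)], [(3, 946, 0), (1, 487, 67)], [(1, 1040, 11)], [(1, 1110, 0)], [(3, 946, 0), (3, 946, 0), (1, 483, 17), (3, 892, 0)], [(3, 946, 0), (1, 483, 67), (3, 892, 0)], [(1, 487, 0)], [(1, 1106, 17)]],
    [[(1, 555, 0), (3, 754, 0)], [(1, 953, 83)], [(3, 951, 0), (1, 555, 187), (3, 754, 0)], [(3, 951, 0), (1, 953, 185)], [(1, 1051, 0)], [(3, 951, 0), (1, 952, 53)], [(3, 951, 0), (1, 544, 177)], [(1, 952, 1)], [(1, 544, 0)], [(1, 954, 133)]],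
    [[(1, 579, 0), (3, 881, 0)], [(3, 964, 0), (1, 961, 178)], [(1, 961, 11)], [(1, 1041, 0)], [(3, 964, 0), (1, 568, 138)], [(3, 964, 0), (1, 962, 6)], [(1, 962, 0)], [(1, 965, 11), (3, 967, 0)], [(1, 568, 0)], [(3, 964, 0), (1, 579, 138), (3, 881, 0)]],
    [[(1, 1034, 0)], [(3, 1031, 0), (3, 1038, 0), (1, 1034, 43)], [(3, 1038, 0), (1, 1036, 136)], [(3, 1031, 0), (3, 1038, 0), (3, 1038, 0), (1, 1036, 124)], [(3, 1038, 0), (3, 1038, 0), (1, 1036, 142)], [(3, 1031, 0), (3, 1038, 0), (1, 1036, 43)], [(3, 1038, 0), (1, 1034, 136)], [(3, 1031, 0), (3, 1038, 0), (3, 1038, 0), (1, 1034, 124)], [(1, 1036, 0)], [(3, 1038, 0), (3, 1038, 0), (1, 1034, 98)]],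
    [[(1, 1042, 0)], [(3, 1033, 0), (3, 1039, 0), (1, 1042, 13)], [(3, 1039, 0), (1, 1042, 20)], [(1, 1043, 141)], [(3, 1033, 0), (1, 1043, 91)], [(3, 1033, 0), (3, 1039, 0), (1, 1037, 23)], [(3, 1039, 0), (1, 1037, 48)], [(3, 1033, 0), (1, 1107, 131)], [(1, 1037, 0)], [(1, 1107, 142)]],
    [[(1, 1050, 0)], [(3, 1054, 0), (1, 1052, 66)], [(3, 1045, 0), (3, 1054, 0), (1, 1050, 157)], [(1, 1094, 18)], [(3, 1045, 0), (1, 1094, 64)], [(3, 1054, 0), (1, 1050, 113)], [(3, 1045, 0), (3, 1054, 0), (1, 1052, 158)], [(3, 1045, 0), (1, 1079, 129)], [(1, 1052, 0)], [(1, 1079, 142)]],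
    [[(1, 1066, 0)], [(1, 1056, 0)], [(3, 1048, 0), (1, 1056, 91)], [(3, 1048, 0), (3, 1049, 0), (1, 1056, 132)], [(3, 1047, 0), (3, 1049, 0), (1, 1056, 57)], [(3, 1047, 0), (1, 1056, 150)], [(3, 1047, 0), (3, 1048, 0), (1, 1056, 65)], [(3, 1047, 0), (3, 1048, 0), (3, 1049, 0), (1, 1056, 172)], [(1, 1053, 0)], [(3, 1049, 0), (1, 1056, 123)]],
    [[(1, 1063, 0)], [(3, 1058, 0), (3, 1059, 0), (1, 1071, 12)], [(3, 1059, 0), (3, 1060, 0), (1, 1071, 190)], [(1, 1071, 0)], [(3, 1058, 0), (3, 1060, 0), (1, 1071, 154)], [(3, 1059, 0), (1, 1071, 187)], [(3, 1058, 0), (3, 1059, 0), (3, 1060, 0), (1, 1071, 6)], [(3, 1058, 0), (1, 1071, 136)], [(1, 1067, 0)], [(3, 1060, 0), (1, 1071, 129)]],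
    [[(1, 1064, 0)], [(3, 1069, 0), (3, 1062, 0), (3, 1069, 0), (1, 1064, 4)], [(3, 1062, 0), (3, 1069, 0), (3, 1062, 0), (3, 1069, 0), (1, 1068, 35)], [(3, 1069, 0), (1, 1068, 94)], [(3, 1062, 0), (3, 1069, 0), (1, 1068, 53)], [(3, 1069, 0), (3, 1062, 0), (3, 1069, 0), (1, 1068, 4)], [(3, 1062, 0), (3, 1069, 0), (3, 1062, 0), (3, 1069, 0), (1, 1064, 35)], [(3, 1069, 0), (1, 1064, 123)], [(1, 1068, 0)], [(3, 1062, 0), (3, 1069, 0), (1, 1064, 18)]],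
    [[(1, 1074, 0)], [(1, 1081, 12)], [(3, 1078, 0), (1, 1077, 80)], [(1, 1080, 83)], [(3, 1078, 0), (3, 1078, 0), (1, 1077, 45)], [(1, 1095, 1)], [(3, 1078, 0), (1, 1074, 42)], [(1, 1112, 0)], [(1, 1077, 94)], [(3, 1078, 0), (3, 1078, 0), (1, 1074, 46)]],
    [[(1, 1086, 0)], [(3, 1092, 0), (3, 1083, 0), (3, 1092, 0), (1, 1090, 172)], [(3, 1092, 0), (1, 1090, 91)], [(3, 1083, 0), (3, 1092, 0), (3, 1083, 0), (3, 1092, 0), (1, 1086, 63)], [(3, 1083, 0), (3, 1092, 0), (1, 1086, 74)], [(3, 1092, 0), (3, 1083, 0), (3, 1092, 0), (1, 1086, 83)], [(3, 1092, 0), (1, 1086, 15)], [(3, 1083, 0), (3, 1092, 0), (3, 1083, 0), (3, 1092, 0), (1, 1090, 149)], [(1, 1090, 0)], [(3, 1083, 0), (3, 1092, 0), (1, 1090, 74)]],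
    [[(1, 1087, 0)], [(1, 1096, 0)], [(1, 1097, 0)], [(3, 1093, 0), (1, 1087, 146)], [(3, 1085, 0), (3, 1093, 0), (1, 1087, 12)], [(3, 1085, 0), (1, 1097, 124)], [(3, 1085, 0), (1, 1096, 65)], [(3, 1093, 0), (1, 1091, 6)], [(1, 1091, 0)], [(3, 1085, 0), (3, 1093, 0), (1, 1091, 22)]],
    [[(1, 1101, 0)], [(1, 1108, 0)], [(3, 1099, 0), (3, 1105, 0), (1, 1101, 28)], [(1, 1109, 18)], [(3, 1105, 0), (1, 1104, 167)], [(3, 1099, 0), (1, 1109, 0)], [(3, 1099, 0), (3, 1105, 0), (1, 1104, 99)], [(3, 1099, 0), (1, 1108, 62)], [(1, 1104, 48)], [(3, 1105, 0), (1, 1101, 154)]],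
    [[(1, 1114, 0)], [(3, 1111, 0), (3, 1111, 0), (3, 1118, 0), (1, 1114, 44)], [(3, 1111, 0), (3, 1118, 0), (1, 1114, 124)], [(1, 1120, 12)], [(3, 1118, 0), (1, 1114, 140)], [(3, 1111, 0), (3, 1116, 0), (3, 1118, 0), (1, 1114, 113)], [(3, 1116, 0), (3, 1118, 0), (1, 1114, 115)], [(1, 1122, 0)], [(3, 1116, 0), (1, 1114, 149)], [(3, 1118, 0), (3, 1116, 0), (1, 1114, 171)]],
    [[(1, 1115, 0)], [(3, 1113, 0), (3, 1119, 0), (1, 1115, 105)], [(3, 1113, 0), (3, 1113, 0), (3, 1119, 0), (1, 1115, 6)], [(1, 1121, 0)], [(3, 1117, 0), (3, 1119, 0), (1, 1115, 174)], [(3, 1113, 0), (3, 1117, 0), (3, 1119, 0), (1, 1115, 17)], [(3, 1113, 0), (3, 1113, 0), (3, 1117, 0), (3, 1119, 0), (1, 1115, 178)], [(1, 1126, 0)], [(3, 1117, 0), (1, 1115, 141)], [(3, 1119, 0), (1, 1115, 171)]],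
    [[(1, 1130, 0)], [(1, 1136, 0)], [(3, 1125, 0), (3, 1134, 0), (1, 1130, 88)], [(3, 1132, 0), (3, 1134, 0), (1, 1130, 15)], [(3, 1123, 0), (3, 1132, 0), (3, 1134, 0), (1, 1130, 19)], [(1, 1138, 0)], [(3, 1125, 0), (3, 1132, 0), (3, 1134, 0), (1, 1130, 17)], [(3, 1134, 0), (1, 1130, 101)], [(3, 1132, 0), (1, 1130, 150)], [(3, 1123, 0), (3, 1134, 0), (1, 1130, 63)]],
    [[(1, 1131, 0)], [(3, 1135, 0), (1, 1131, 67)], [(1, 1137, 0)], [(3, 1127, 0), (3, 1135, 0), (3, 1133, 0), (1, 1131, 40)], [(3, 1127, 0), (3, 1127, 0), (3, 1135, 0), (1, 1131, 20)], [(3, 1135, 0), (3, 1133, 0), (1, 1131, 17)], [(1, 1143, 0)], [(3, 1127, 0), (3, 1135, 0), (1, 1131, 153)], [(3, 1133, 0), (1, 1131, 28)], [(3, 1127, 0), (3, 1127, 0), (3, 1135, 0), (3, 1133, 0), (1, 1131, 154)]],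
    [[(1, 1149, 0)], [(3, 1142, 0), (3, 1153, 0), (1, 1149, 129)], [(3, 1140, 0), (3, 1153, 0), (3, 1153, 0), (1, 1149, 34)], [(3, 1140, 0), (3, 1153, 0), (1, 1149, 149)], [(3, 1153, 0), (3, 1153, 0), (1, 1149, 8)], [(3, 1139, 0), (3, 1141, 0), (3, 1153, 0), (1, 1149, 15)], [(3, 1141, 0), (3, 1153, 0), (1, 1149, 179)], [(3, 1153, 0), (1, 1149, 23)], [(3, 1151, 0), (1, 1149, 37)], [(3, 1139, 0), (3, 1142, 0), (3, 1153, 0), (1, 1149, 92)]],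
    [[(1, 1150, 0)], [(3, 1154, 0), (1, 1150, 159)], [(3, 1146, 0), (3, 1148, 0), (3, 1154, 0), (1, 1150, 39)], [(3, 1148, 0), (3, 1154, 0), (1, 1150, 34)], [(3, 1144, 0), (3, 1145, 0), (3, 1154, 0), (1, 1150, 68)], [(3, 1145, 0), (3, 1154, 0), (1, 1150, 36)], [(3, 1147, 0), (3, 1144, 0), (3, 1154, 0), (1, 1150, 14)], [(3, 1145, 0), (3, 1148, 0), (3, 1154, 0), (1, 1150, 63)], [(3, 1152, 0), (1, 1150, 105)], [(3, 1144, 0), (3, 1154, 0), (1, 1150, 156)]]]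

/-- The certificate. -/
noncomputable def cert : Cert := mkCert fcs pars mvs 64 29

/-- The justifications. -/
def pf (f : ℕ) : Pf := (pfs.getD (f / 64) []).getD (f % 64) ⟨0, 0, 0, 0, [], []⟩

end Cfsg.Agent.Lib.J3Uniq.Data
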