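import Mathlib
import Cfsg.Agent.Lib.HJUniq.Amalgam

/-!
# Uniqueness of the third Janko group: the element `r` with `r s r s = k`

The argument of `Lib/HJUniq/Amalgam` (helper99), for any element `r` with the properties of `RProp`.

Owner: helper74.
-/

set_option autoImplicit false
set_option linter.style.haveILetI false

namespace Cfsg.Agent.Lib.J3Uniq

open Cfsg.Agent.Lib.CosetEnum Cfsg.Agent.Lib.ExactCover Cfsg.Agent.Lib.HJUniq
open Cfsg.Agent.Lib.Involutions.Basic (invol_iff)

variable {G : Type*} [Group G]

/-- Some element with the properties of `RProp` also has `r s r s = k`. -/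
theorem exists_good {z a t q r : G} (hc : Chart z a t q) (hr : RProp z a t q r) (hne : q ≠ z) :
    ∃ r, RProp z a t q r ∧ r * evC a t q sW * r * evC a t q sW = evC a t q kW := by
  have hfu := hr.not_mem hc hne
  obtain ⟨hs2, hsz, hsq⟩ := l_facts hc
  have hconjz : r * evC a t q sW * r * evC a t q sW * z *
      (r * evC a t q sW * r * evC a t q sW)⁻¹ = z := by
    calc r * evC a t q sW * r * evC a t q sW * z * (r * evC a t q sW * r * evC a t q sW)⁻¹
        = r * (evC a t q sW * (r * (evC a t q sW * z * (evC a t q sW)⁻¹) * r⁻¹) * (evC a t q sW)⁻¹) * r⁻¹ := by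
          group
      _ = z := by rw [hsz, hr.rz hc, hsq, hr.ruz hc]
  have hconjq : r * evC a t q sW * r * evC a t q sW * q *
      (r * evC a t q sW * r * evC a t q sW)⁻¹ = q := by
    calc r * evC a t q sW * r * evC a t q sW * q * (r * evC a t q sW * r * evC a t q sW)⁻¹
        = r * (evC a t q sW * (r * (evC a t q sW * q * (evC a t q sW)⁻¹) * r⁻¹) * (evC a t q sW)⁻¹) * r⁻¹ := by
          group
      _ = q := by rw [hsq, hr.ruz hc, hsz, hr.rz hc]
  obtain ⟨j, hj, hjl⟩ := hc.surj (Subgroup.mem_centralizer_singleton_iff.2 (mul_inv_eq_iff_eq_mul.1 hconjz))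
  have hw : small (wd j) = true := small_wd hj
  have hjl' : evC a t q (wd j) = r * evC a t q sW * r * evC a t q sW := hjl.symm
  have hchk := allBelow_iff.1 l_check j hj
  simp only [lCheck, Bool.or_eq_true, List.any_eq_true, Nat.beq_eq] at hchk
  obtain ⟨j', hj', hjj⟩ : ∃ x ∈ [176, 1863, 369, 1696], j = x := by
    refine hchk.resolve_left fun hbad => ?_
    rw [Bool.not_eq_true'] at hbad
    refine absurd hbad ?_
    simp only [Bool.not_eq_false, Bool.and_eq_true, Nat.beq_eq]
    have sy := fun idx => small_sub (w0 := [2]) (w1 := kW) (w2 := yW) rfl (by decide) (by decide) idx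
    refine ⟨⟨⟨?_, ?_⟩, ?_⟩, ?_⟩
    · refine (hc.iff (small_append hw rfl) (small_append rfl hw)).1 ?_
      rw [evC_append, evC_append, hjl', (evC_single a t q).2]
      exact mul_inv_eq_iff_eq_mul.1 hconjq
    all_goals
      refine (hc.iff (small_append hw (by decide)) (small_append (sy _) hw)).1 ?_
      rw [evC_append, evC_append, hjl']
    · exact conj_l hc hr [2] [2, 0] [1, 0, 1, 1] (by decide +kernel) (by decide +kernel)
    · exact conj_l hc hr kW [1] [1] (by decide +kernel) (by decide +kernel)
    · exact conj_l hc hr eW [0, 2, 0] [2, 1, 1, 0, 1] (by decide +kernel) (by decide +kernel)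
  subst hjj
  simp only [List.mem_cons, List.not_mem_nil, or_false] at hj'
  rcases hj' with rfl | rfl | rfl | rfl
  · exact ⟨r, hr, hjl'.symm.trans (hc.eq_of (by decide +kernel))⟩
  · refine (false_of_collapse hc hfu HJL61.enum (by decide +kernel) ?_).elim
    rw [show HJL61.relWords = HJC1920.relWords ++ relR lW61 by decide +kernel]
    exact relWords_hold hc hr (by decide) (hjl'.symm.trans (hc.eq_of (by decide +kernel)))
  · refine (false_of_collapse hc hfu HJL121.enum (by decide +kernel) ?_).elim
    rw [show HJL121.relWords = HJC1920.relWords ++ relR lW121 by decide +kernel]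
    exact relWords_hold hc hr (by decide) (hjl'.symm.trans (hc.eq_of (by decide +kernel)))
  -- replace `r` by its conjugate under `q`
  have hqq : q⁻¹ = q := inv_eq_of_mul_eq_one_right hc.toRels.hq
  have hcq : ∀ l, small l = true → sc ([4] ++ l) = sc (l ++ [4]) → Commute q (evC a t q l) := by
    intro l hl e
    have e' := (hc.iff (small_append rfl hl) (small_append hl rfl)).2 e
    rw [evC_append, evC_append, (evC_single a t q).2] at e'
    exact e'
  have cqt : Commute q t := by
    have := hcq [2] rfl (by decide +kernel)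
    rwa [(evC_single a t q).1] at this
  have cqk := hcq kW (by decide) (by decide +kernel)
  have cqe := hcq eW (by decide) (by decide +kernel)
  have cqy := hcq yW (by decide) (by decide +kernel)
  refine ⟨q * r * q⁻¹, ⟨?_, ?_, ?_, ?_⟩, ?_⟩
  · rw [conj_pow, hr.cube, mul_one, mul_inv_cancel]
  · exact (cqt.mul_left hr.rt).mul_left cqt.inv_left
  · exact (cqk.mul_left hr.rk).mul_left cqk.inv_left
  · calc q * r * q⁻¹ * evC a t q eW * (q * r * q⁻¹)⁻¹
        = q * (r * (q⁻¹ * evC a t q eW * q) * r⁻¹) * q⁻¹ := by group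
      _ = evC a t q yW := by
        rw [mul_assoc q⁻¹, cqe.symm.eq, ← mul_assoc q⁻¹, inv_mul_cancel, one_mul, hr.re, cqy.eq,
          mul_inv_cancel_right]
  · have e1 := hc.eq_of (l := [4] ++ sW ++ [4]) (l' := sW ++ zW) (by decide +kernel)
    rw [evC_append, evC_append, evC_append, (evC_single a t q).2, hc.toRels.evC_zW] at e1
    have e2 := hc.eq_of (l := wd 1696 ++ uzW) (l' := kW) (by decide +kernel)
    rw [evC_append, hc.evC_uzW, hjl'] at e2
    have e3 : z * r = r * (q * z) := by rw [← mul_inv_eq_iff_eq_mul.1 (hr.ruz hc)]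
    have e4 : z * evC a t q sW = evC a t q sW * z := (mul_inv_eq_iff_eq_mul.1 hsz).symm
    rw [hqq, ← e2]
    generalize evC a t q sW = s at e1 e3 e4 hconjq ⊢
    have e5 : q * (r * s * r * s) = r * s * r * s * q := (mul_inv_eq_iff_eq_mul.1 hconjq).symm
    calc q * r * q * s * (q * r * q) * s = q * r * (q * s * q) * r * q * s := by group
      _ = q * r * s * (z * r) * q * s := by rw [e1]; group
      _ = q * r * s * r * ((q * z) * q) * s := by rw [e3]; group
      _ = q * r * s * r * (z * s) := by
        rw [show q * z * q = z by rw [← hc.toRels.zq.eq, mul_assoc, hc.toRels.hq, mul_one], mul_assoc]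
      _ = q * (r * s * r * s) * z := by rw [e4]; group
      _ = r * s * r * s * (q * z) := by rw [e5]; group

end Cfsg.Agent.Lib.J3Uniq
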