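import Cfsg.Agent.Lib.J3Uniq.Alt0

/-!
# Uniqueness of the third Janko group: an element of order seven in the first alternative amalgam

Owner: helper74.
-/

set_option autoImplicit false
set_option maxRecDepth 100000

namespace Cfsg.Agent.Lib.J3Uniq.Alt0

/-- The trace of `(x r) ^ 7` for `x` the position `1`. -/
def sevenSteps : List Step :=
  [(0, 1, 0), (5, 1, 0), (1, 0, 0), (0, 1, 0), (1, 6, 0), (0, 1, 0), (1, 15, 0), (0, 1, 0), (3, 16, 0), (3, 106, 0), (1, 17, 58), (3, 20, 0), (0, 1, 0), (3, 16, 0), (3, 16, 0), (3, 106, 0), (1, 21, 86), (0, 1, 0), (1, 13, 115), (0, 1, 0), (1, 12, 169)]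

theorem seven_pieces : pieces sevenSteps = (List.replicate 7 [4, 1]).flatten := by decide +kernel

theorem seven_run : ((run cert nFacts sevenSteps (0, 0, 0)).map fun s => Nat.beq s.2.1 0 && Nat.beq (mulI s.1 s.2.2) 0) =
    some true := by
  decide +kernel

end Cfsg.Agent.Lib.J3Uniq.Alt0
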