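import Mathlib
import Cfsg.Agent.S0497
import Cfsg.Agent.S0848
import Cfsg.Agent.Lib.J3Uniq.Bound
import Cfsg.Agent.Lib.J3Uniq.Amalgam

/-!
# Uniqueness of the third Janko group: the centraliser of `k` modulo `⟨k⟩`

The images of `r` and `r' = c r c` generate with a dihedral group of order `8` a perfect group in which an
involution has centraliser `D₈`, hence `A₆`; there `r r'` has order `5` and `r r'⁻¹` order `4`.

Owner: helper74.
-/

set_option autoImplicit false
set_option linter.style.haveILetI false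
set_option maxRecDepth 100000

namespace Cfsg.Agent.Lib.J3Uniq.Six

open Cfsg.Agent.Lib.CosetEnum Cfsg.Agent.Lib.HJUniq

/-- Two involutions in even position of `A₆` are conjugate to the chosen one. -/
theorem alt_invol : ∀ σ : Equiv.Perm (Fin 6), Equiv.Perm.sign σ = 1 → σ * σ = 1 → σ ≠ 1 →
    ∃ τ : Equiv.Perm (Fin 6), τ * σ = (Equiv.swap 0 1 * Equiv.swap 2 3) * τ := by
  decide +kernel

set_option synthInstance.maxSize 4096 in
set_option synthInstance.maxHeartbeats 400000 in
theorem alt_six : ∀ r : Equiv.Perm (Fin 6),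
    (Equiv.Perm.sign r = 1 ∧ r * r * r = 1 ∧
      r * (Equiv.swap 0 1 * Equiv.swap 2 3) * (r * r) ≠ Equiv.swap 0 1 * Equiv.swap 2 3 ∧
      r * (r * (Equiv.swap 0 1 * Equiv.swap 2 3) * (r * r)) * (r * r) =
        r * (Equiv.swap 0 1 * Equiv.swap 2 3) * (r * r) * (Equiv.swap 0 1 * Equiv.swap 2 3)) →
    ∀ r' : Equiv.Perm (Fin 6),
    (Equiv.Perm.sign r' = 1 ∧ r' * r' * r' = 1 ∧
      r' * (Equiv.swap 0 1 * Equiv.swap 2 3) * (r' * r') ≠ Equiv.swap 0 1 * Equiv.swap 2 3 ∧
      r' * (r' * (Equiv.swap 0 1 * Equiv.swap 2 3) * (r' * r')) * (r' * r') =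
        r' * (Equiv.swap 0 1 * Equiv.swap 2 3) * (r' * r') * (Equiv.swap 0 1 * Equiv.swap 2 3)) →
    (fun q s : Equiv.Perm (Fin 6) => q * s ≠ s * q ∧ s * r * s = r * r ∧ q * r' * q = r' * r')
      (r * (Equiv.swap 0 1 * Equiv.swap 2 3) * (r * r)) (r' * (Equiv.swap 0 1 * Equiv.swap 2 3) * (r' * r')) →
    (fun x y : Equiv.Perm (Fin 6) => x * x * x * x * x = 1 ∧ y * y * y * y = 1) (r * r') (r * (r' * r')) := by
  decide +kernel

/-- The positions of a dihedral group. -/
def dPos : DihedralGroup 4 → ℕ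
  | .r i => [0, 95, 1015, 58].getD i.val 0
  | .sr i => [4, 22, 594, 215].getD i.val 0

theorem dPos_facts : (∀ x, dPos x < 1920 ∧ mulI (dPos x) 176 = mulI 176 (dPos x)) ∧
    (∀ x y, mulI (dPos x) (dPos y) = dPos (x * y)) ∧
    (∀ x, dPos x ∈ [0, 176, 118] → x = 1) ∧ (∀ x, mulI (dPos x) 1015 = mulI 1015 (dPos x)) := by
  decide +kernel

theorem cent_k : allBelow 1920 (fun x => !(Nat.beq (mulI x 176) (mulI 176 x)) ||
    [0, 176, 118].any fun i => [0, 95, 1015, 58, 4, 22, 594, 215].any fun d => Nat.beq x (mulI d i)) = true := by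
  decide +kernel

theorem dihedral_center : ∀ x : DihedralGroup 4, x ≠ 1 → x ≠ DihedralGroup.r 2 →
    ∃ y, x * y * x⁻¹ * y⁻¹ = DihedralGroup.r 2 := by decide +kernel

theorem pos_facts : sc sW = 22 ∧ sc cW = 104 ∧ mulI 104 104 = 0 ∧ mulI (mulI 104 4) 104 = 22 ∧
    mulI (mulI 104 176) 104 = 118 ∧ mulI 22 22 = 0 ∧ mulI 22 176 = mulI 176 22 ∧
    mulI 4 176 = mulI 176 4 ∧ mulI (mulI 104 22) 104 = 4 ∧ mulI 104 1015 = mulI 1015 104 := by
  decide +kernel

variable {G : Type*} [Group G] [Finite G] {z a t q r : G}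

/-- The orders of `r c` and `r c r⁻¹ c`. -/
theorem orders (h : J3Order.Local.Ctx z a t q) (hr : RProp z a t q r)
    (hl : r * evC a t q sW * r * evC a t q sW = evC a t q kW) (hG : ¬ 7 ∣ Nat.card G) :
    (r * evC a t q cW) ^ 10 = 1 ∧
    (r * evC a t q cW * r⁻¹ * evC a t q cW) ^ 4 ∈ Subgroup.zpowers (evC a t q kW) ∧
    ∃ S : Subgroup G, 360 ∣ Nat.card S ∧ evC a t q kW ∈ S ∧ 3 * 360 ∣ Nat.card S ∧
      ∀ H : Subgroup G, r ∈ H → Subgroup.centralizer ({z} : Set G) ≤ H → S ≤ H := by
  classical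
  set k := evC a t q kW with hk
  have ek : J3Uniq.el a t q 176 = k := Amalgam.el_k h
  have eq4 := Amalgam.el_q h
  have ez := Amalgam.el_z h
  set s := evC a t q sW with hs
  have es : J3Uniq.el a t q 22 = s := (Amalgam.val_eq h (by decide) pos_facts.1).symm
  set c := evC a t q cW with hc
  have ec : J3Uniq.el a t q 104 = c := (Amalgam.val_eq h (by decide) pos_facts.2.1).symm
  have he : ∀ {i j : ℕ}, i < 1920 → j < 1920 →
      J3Uniq.el a t q (mulI i j) = J3Uniq.el a t q i * J3Uniq.el a t q j :=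
    fun hi hj => Amalgam.mul_el h hi hj
  have hcc : c * c = 1 := by
    have e := congrArg (J3Uniq.el a t q) pos_facts.2.2.1
    rwa [he (by omega) (by omega), ec, J3Uniq.el_zero] at e
  have hci : c⁻¹ = c := inv_eq_of_mul_eq_one_right hcc
  have hcq : c * q * c = s := by
    have e := congrArg (J3Uniq.el a t q) pos_facts.2.2.2.1
    rwa [he (by decide +kernel) (by omega), he (by omega) (by omega), ec, eq4, es] at e
  have hcs : c * s * c = q := by
    have e := congrArg (J3Uniq.el a t q) pos_facts.2.2.2.2.2.2.2.2.1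
    rwa [he (by decide +kernel) (by omega), he (by omega) (by omega), ec, eq4, es] at e
  have hk3 : k * k * k = 1 := by
    have e := congrArg (J3Uniq.el a t q) (show mulI (mulI 176 176) 176 = 0 by decide +kernel)
    rwa [he (by decide +kernel) (by omega), he (by omega) (by omega), ek, J3Uniq.el_zero] at e
  have hki : J3Uniq.el a t q 118 = k⁻¹ := by
    refine eq_inv_of_mul_eq_one_left ?_
    rw [← ek, ← he (by omega) (by omega), Amalgam.t_conj.2.2.2.2.1, J3Uniq.el_zero]
  have hck : c * k * c = k⁻¹ := by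
    have e := congrArg (J3Uniq.el a t q) pos_facts.2.2.2.2.1
    rwa [he (by decide +kernel) (by omega), he (by omega) (by omega), ec, ek, hki] at e
  have hss : s * s = 1 := by
    have e := congrArg (J3Uniq.el a t q) pos_facts.2.2.2.2.2.1
    rwa [he (by omega) (by omega), es, J3Uniq.el_zero] at e
  have hsk : Commute s k := by
    have e := congrArg (J3Uniq.el a t q) pos_facts.2.2.2.2.2.2.1
    rwa [he (by omega) (by omega), he (by omega) (by omega), es, ek] at e
  have hqk : Commute q k := by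
    have e := congrArg (J3Uniq.el a t q) pos_facts.2.2.2.2.2.2.2.1
    rwa [he (by omega) (by omega), he (by omega) (by omega), eq4, ek] at e
  have hzk : Commute z k := by rw [← ek]; exact (h.commute (i := 176) (by omega)).symm
  have hcz : c * z * c = z := by
    rw [← ec]
    have hcz' := h.commute (i := 104) (by omega)
    have : Commute (J3Uniq.el a t q 104) z := hcz'
    rw [this.eq, mul_assoc, ec, hcc, mul_one]
  set r' := c * r * c with hr'
  have hr3 : r * r * r = 1 := by rw [← pow_two, ← pow_succ, hr.cube]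
  have hrinv : r⁻¹ = r * r := inv_eq_of_mul_eq_one_right (by rw [← mul_assoc, hr3])
  have hcconj : ∀ x y : G, (c * x * c) * (c * y * c) = c * (x * y) * c := fun x y => by
    calc (c * x * c) * (c * y * c) = c * x * (c * c) * y * c := by group
      _ = c * (x * y) * c := by rw [hcc]; group
  have hr'3 : r' * r' * r' = 1 := by rw [hr', hcconj, hcconj, hr3, mul_one, hcc]
  have hr'k : Commute r' k := by
    have hk' : k = c * k⁻¹ * c := by
      rw [← hck]
      calc k = c * c * k * (c * c) := by rw [hcc, one_mul, mul_one]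
        _ = c * (c * k * c) * c := by group
    rw [Commute, SemiconjBy, hr', hk', hcconj, hcconj, (hr.rk.inv_right).eq]
  have hrz := hr.rz h.toChart
  have hrq := hr.rq h.toChart
  set K := Subgroup.centralizer ({k} : Set G) with hK
  have mK : ∀ {x : G}, Commute x k → x ∈ K := fun hx => Subgroup.mem_centralizer_singleton_iff.2 hx
  let kK : K := ⟨k, mK (Commute.refl k)⟩
  let N : Subgroup K := Subgroup.zpowers kK
  have hcK : ∀ x : K, Commute x kK := fun x =>
    Subtype.ext (Subgroup.mem_centralizer_singleton_iff.1 x.2)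
  haveI hN : N.Normal := ⟨fun n hn x => by
    obtain ⟨i, rfl⟩ := Subgroup.mem_zpowers_iff.1 hn
    rw [((hcK x).zpow_right i).eq, mul_inv_cancel_right]
    exact Subgroup.zpow_mem_zpowers kK i⟩
  let π := QuotientGroup.mk' N
  have hmemN : ∀ x : K, x ∈ N ↔ (x : G) ∈ Subgroup.zpowers k := fun x => by
    constructor
    · rintro ⟨i, rfl⟩; exact ⟨i, (SubgroupClass.coe_zpow kK i).symm⟩
    · rintro ⟨i, e⟩; exact ⟨i, Subtype.ext ((SubgroupClass.coe_zpow kK i).trans e)⟩
  let zK : K := ⟨z, mK hzk⟩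
  let qK : K := ⟨q, mK hqk⟩
  let sK : K := ⟨s, mK hsk⟩
  let rK : K := ⟨r, mK hr.rk⟩
  let r'K : K := ⟨r', mK hr'k⟩
  set Z := π zK with hZ
  set A := π qK with hA
  set B := π sK with hB
  set R := π rK with hR
  set R' := π r'K with hR'
  have hZZ : Z * Z = 1 := by
    rw [hZ, ← map_mul, show zK * zK = 1 from Subtype.ext h.toRels.hz, map_one]
  have hR3 : R * R * R = 1 := by
    rw [hR, ← map_mul, ← map_mul, show rK * rK * rK = 1 from Subtype.ext hr3, map_one]
  have hR'3 : R' * R' * R' = 1 := by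
    rw [hR', ← map_mul, ← map_mul, show r'K * r'K * r'K = 1 from Subtype.ext hr'3, map_one]
  have hRi : R⁻¹ = R * R := inv_eq_of_mul_eq_one_right (by rw [← mul_assoc, hR3])
  have hR'i : R'⁻¹ = R' * R' := inv_eq_of_mul_eq_one_right (by rw [← mul_assoc, hR'3])
  have hRZ : R * Z * R⁻¹ = A := by
    rw [hR, hZ, hA, ← map_inv, ← map_mul, ← map_mul]
    exact congrArg π (Subtype.ext hrz)
  have hRA : R * A * R⁻¹ = A * Z := by
    rw [hR, hZ, hA, ← map_inv, ← map_mul, ← map_mul, ← map_mul]
    exact congrArg π (Subtype.ext hrq)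
  have hr'z : r' * z * r'⁻¹ = s := by
    rw [show r'⁻¹ = c * r⁻¹ * c by rw [hr', mul_inv_rev, mul_inv_rev, hci, mul_assoc]]
    calc r' * z * (c * r⁻¹ * c) = r' * (c * z * c) * (c * r⁻¹ * c) := by rw [hcz]
      _ = c * (r * z * r⁻¹) * c := by rw [hr', hcconj, hcconj]
      _ = s := by rw [hrz, hcq]
  have hr's : r' * s * r'⁻¹ = s * z := by
    rw [show r'⁻¹ = c * r⁻¹ * c by rw [hr', mul_inv_rev, mul_inv_rev, hci, mul_assoc]]
    calc r' * s * (c * r⁻¹ * c) = r' * (c * q * c) * (c * r⁻¹ * c) := by rw [hcq]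
      _ = c * (r * q * r⁻¹) * c := by rw [hr', hcconj, hcconj]
      _ = (c * q * c) * (c * z * c) := by rw [hrq, hcconj]
      _ = s * z := by rw [hcq, hcz]
  have hR'Z : R' * Z * R'⁻¹ = B := by
    rw [hR', hZ, hB, ← map_inv, ← map_mul, ← map_mul]
    exact congrArg π (Subtype.ext hr'z)
  have hR'B : R' * B * R'⁻¹ = B * Z := by
    rw [hR', hZ, hB, ← map_inv, ← map_mul, ← map_mul, ← map_mul]
    exact congrArg π (Subtype.ext hr's)
  have hBB : B * B = 1 := by rw [hB, ← map_mul, show sK * sK = 1 from Subtype.ext hss, map_one]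
  have hAA : A * A = 1 := by rw [hA, ← map_mul, show qK * qK = 1 from Subtype.ext h.toRels.hq, map_one]
  have hBRB : B * R * B = R⁻¹ := by
    refine eq_inv_of_mul_eq_one_left ?_
    rw [hB, hR, ← map_mul, ← map_mul, ← map_mul]
    refine (QuotientGroup.eq_one_iff _).2 ((hmemN _).2 ?_)
    show s * r * s * r ∈ Subgroup.zpowers k
    rw [show s * r * s * r = r⁻¹ * (r * s * r * s) * r by group, hl, mul_assoc, ← hr.rk.eq,
      inv_mul_cancel_left]
    exact Subgroup.mem_zpowers k
  have hARA : A * R' * A = R'⁻¹ := by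
    refine eq_inv_of_mul_eq_one_left ?_
    rw [hA, hR', ← map_mul, ← map_mul, ← map_mul]
    refine (QuotientGroup.eq_one_iff _).2 ((hmemN _).2 ?_)
    show q * r' * q * r' ∈ Subgroup.zpowers k
    rw [← hcs, hr', hcconj, hcconj, hcconj,
      show s * r * s * r = r⁻¹ * (r * s * r * s) * r by group, hl, mul_assoc r⁻¹, ← hr.rk.eq,
      inv_mul_cancel_left, hck]
    exact Subgroup.inv_mem _ (Subgroup.mem_zpowers k)
  -- the subgroup
  set L : Subgroup (K ⧸ N) := Subgroup.closure {A, B, R, R'} with hL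
  have hAL : A ∈ L := Subgroup.subset_closure (by simp)
  have hBL : B ∈ L := Subgroup.subset_closure (by simp)
  have hRL : R ∈ L := Subgroup.subset_closure (by simp)
  have hR'L : R' ∈ L := Subgroup.subset_closure (by simp)
  have hZL : Z ∈ L := by
    rw [show Z = A * (R * A * R⁻¹) by rw [hRA, ← mul_assoc, hAA, one_mul]]
    exact L.mul_mem hAL (L.mul_mem (L.mul_mem hRL hAL) (L.inv_mem hRL))
  let aL : L := ⟨A, hAL⟩
  let bL : L := ⟨B, hBL⟩
  let rL : L := ⟨R, hRL⟩
  let sL : L := ⟨R', hR'L⟩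
  let zL : L := ⟨Z, hZL⟩
  have hgen : ∀ S : Subgroup L, aL ∈ S → bL ∈ S → rL ∈ S → sL ∈ S → S = ⊤ := by
    intro S h1 h2 h3 h4
    have hle : L ≤ S.map L.subtype := (Subgroup.closure_le _).2 (by
      rintro x (rfl | rfl | rfl | rfl)
      exacts [⟨aL, h1, rfl⟩, ⟨bL, h2, rfl⟩, ⟨rL, h3, rfl⟩, ⟨sL, h4, rfl⟩])
    refine eq_top_iff.2 fun x _ => ?_
    obtain ⟨y, hy, e⟩ := hle x.2
    exact Subtype.ext e ▸ hy
  have inz : ∀ S : Subgroup L, S.Normal → zL ∈ S → S = ⊤ := by
    intro S hS hz
    have hA' : aL ∈ S := by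
      rw [show aL = rL * zL * rL⁻¹ from Subtype.ext hRZ.symm]; exact hS.conj_mem _ hz _
    have hB' : bL ∈ S := by
      rw [show bL = sL * zL * sL⁻¹ from Subtype.ext hR'Z.symm]; exact hS.conj_mem _ hz _
    refine hgen S hA' hB' ?_ ?_
    · have e : rL = bL * (rL * bL⁻¹ * rL⁻¹) := Subtype.ext (by
        show R = B * (R * B⁻¹ * R⁻¹)
        rw [inv_eq_of_mul_eq_one_right hBB, ← mul_assoc, ← mul_assoc, hBRB, hRi]
        calc R = (R * R * R) * R := by rw [hR3, one_mul]
          _ = _ := by group)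
      rw [e]
      exact S.mul_mem hB' (hS.conj_mem _ (S.inv_mem hB') _)
    · have e : sL = aL * (sL * aL⁻¹ * sL⁻¹) := Subtype.ext (by
        show R' = A * (R' * A⁻¹ * R'⁻¹)
        rw [inv_eq_of_mul_eq_one_right hAA, ← mul_assoc, ← mul_assoc, hARA, hR'i]
        calc R' = (R' * R' * R') * R' := by rw [hR'3, one_mul]
          _ = _ := by group)
      rw [e]
      exact S.mul_mem hA' (hS.conj_mem _ (S.inv_mem hA') _)
  have hperf : commutator L = ⊤ := by
    refine inz _ inferInstance ?_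
    have e : zL = aL⁻¹ * rL * aL * rL⁻¹ := Subtype.ext (by
      show Z = A⁻¹ * R * A * R⁻¹
      rw [inv_eq_of_mul_eq_one_right hAA, mul_assoc A, mul_assoc A, hRA, ← mul_assoc, hAA, one_mul])
    rw [e, show aL⁻¹ * rL * aL * rL⁻¹ = aL⁻¹ * rL * aL⁻¹⁻¹ * rL⁻¹ by rw [inv_inv]]
    exact Subgroup.commutator_mem_commutator (Subgroup.mem_top _) (Subgroup.mem_top _)
  -- the centraliser of `Z`
  let dK : DihedralGroup 4 → K := fun x => ⟨J3Uniq.el a t q (dPos x), mK (by
    have e := congrArg (J3Uniq.el a t q) (dPos_facts.1 x).2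
    rwa [he (dPos_facts.1 x).1 (by omega), he (by omega) (dPos_facts.1 x).1, ek] at e)⟩
  have hdmul : ∀ x y, dK x * dK y = dK (x * y) := fun x y => Subtype.ext (by
    show J3Uniq.el a t q (dPos x) * J3Uniq.el a t q (dPos y) = J3Uniq.el a t q (dPos (x * y))
    rw [← he (dPos_facts.1 x).1 (dPos_facts.1 y).1, dPos_facts.2.1])
  have hdL : ∀ x, π (dK x) ∈ L := by
    have h0 : π (dK (DihedralGroup.sr 0)) = A := congrArg π (Subtype.ext eq4)
    have h1 : π (dK (DihedralGroup.sr 1)) = B := congrArg π (Subtype.ext es)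
    have h01 : π (dK (DihedralGroup.r 1)) = A * B := by
      rw [show (DihedralGroup.r 1 : DihedralGroup 4) = DihedralGroup.sr 0 * DihedralGroup.sr 1 by decide,
        ← hdmul, map_mul, h0, h1]
    have hd1 : dK 1 = 1 := Subtype.ext (J3Uniq.el_zero (a := a) (t := t) (q := q))
    have hpow : ∀ n : ℕ, dK ((DihedralGroup.r 1) ^ n) = dK (DihedralGroup.r 1) ^ n := fun n => by
      induction n with
      | zero => rw [pow_zero, pow_zero, hd1]
      | succ n ih => rw [pow_succ, pow_succ, ← hdmul, ih]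
    intro x
    rcases x with i | i
    · rw [show (DihedralGroup.r i : DihedralGroup 4) = DihedralGroup.r 1 ^ i.val by
        rw [DihedralGroup.r_one_pow, ZMod.natCast_zmod_val], hpow, map_pow, h01]
      exact L.pow_mem (L.mul_mem hAL hBL) _
    · rw [show (DihedralGroup.sr i : DihedralGroup 4) = DihedralGroup.sr 0 * DihedralGroup.r 1 ^ i.val by
        rw [DihedralGroup.r_one_pow, ZMod.natCast_zmod_val, DihedralGroup.sr_mul_r, zero_add],
        ← hdmul, hpow, map_mul, map_pow, h0, h01]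
      exact L.mul_mem hAL (L.pow_mem (L.mul_mem hAL hBL) _)
  let f : DihedralGroup 4 →* Subgroup.centralizer ({zL} : Set L) :=
    MonoidHom.mk' (fun x => ⟨⟨π (dK x), hdL x⟩, Subgroup.mem_centralizer_singleton_iff.2 (Subtype.ext (by
      show π (dK x) * Z = Z * π (dK x)
      rw [hZ, ← map_mul, ← map_mul]
      refine congrArg π (Subtype.ext ?_)
      show J3Uniq.el a t q (dPos x) * z = z * J3Uniq.el a t q (dPos x)
      exact (h.commute (dPos_facts.1 x).1).eq))⟩)
      fun x y => Subtype.ext (Subtype.ext (by show π (dK (x * y)) = π (dK x) * π (dK y); rw [← map_mul, hdmul]))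
  have hkpos : ∀ x : K, x ∈ N → ∀ i < 1920, J3Uniq.el a t q i = (x : G) → i ∈ [0, 176, 118] := by
    intro x hx i hi e
    obtain ⟨m, hm⟩ := (hmemN x).1 hx
    have : k ^ m = 1 ∨ k ^ m = k ∨ k ^ m = k⁻¹ := by
      rw [← Int.mul_ediv_add_emod m 3, zpow_add, zpow_mul, show k ^ (3 : ℤ) = 1 by
        rw [show (3 : ℤ) = ((3 : ℕ) : ℤ) from rfl, zpow_natCast, pow_succ, pow_two, hk3], one_zpow, one_mul]
      have h1 := Int.emod_nonneg m (show (3 : ℤ) ≠ 0 by omega)
      have h2 := Int.emod_lt_of_pos m (show (0 : ℤ) < 3 by omega)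
      have h3 : m % 3 = 0 ∨ m % 3 = 1 ∨ m % 3 = 2 := by omega
      rcases h3 with e | e | e <;> rw [e]
      · left; exact zpow_zero k
      · right; left; exact zpow_one k
      · right; right
        refine eq_inv_of_mul_eq_one_left ?_
        rw [show (2 : ℤ) = ((2 : ℕ) : ℤ) from rfl, zpow_natCast, pow_two, hk3]
    rcases this with e' | e' | e'
    · rw [Amalgam.el_inj' h hi (j := 0) (by omega) (by rw [e, ← hm, J3Uniq.el_zero]; exact e')]; simp
    · rw [Amalgam.el_inj' h hi (j := 176) (by omega) (by rw [e, ← hm, ek]; exact e')]; simp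
    · rw [Amalgam.el_inj' h hi (j := 118) (by omega) (by rw [e, ← hm, hki]; exact e')]; simp
  have hfinj : Function.Injective f := (injective_iff_map_eq_one f).2 fun x hx => by
    have e : π (dK x) = 1 := congrArg (fun y : Subgroup.centralizer ({zL} : Set L) => ((y : L) : K ⧸ N)) hx
    exact dPos_facts.2.2.1 x (hkpos _ ((QuotientGroup.eq_one_iff _).1 e) _ (dPos_facts.1 x).1 rfl)
  have hfsur : Function.Surjective f := by
    rintro ⟨⟨x, hxL⟩, hx⟩
    obtain ⟨xK, rfl⟩ := QuotientGroup.mk'_surjective N x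
    have hcx : π xK * Z = Z * π xK := congrArg Subtype.val (Subgroup.mem_centralizer_singleton_iff.1 hx)
    have hmem : zK⁻¹ * (xK * zK * xK⁻¹) ∈ N := by
      refine (QuotientGroup.eq_one_iff _).1 ?_
      show π (zK⁻¹ * (xK * zK * xK⁻¹)) = 1
      rw [map_mul, map_mul, map_mul, map_inv, map_inv, ← hZ, hcx, mul_inv_cancel_right, inv_mul_cancel]
    obtain ⟨m, hm⟩ := (hmemN _).1 hmem
    have e1 : (xK : G) * z * (xK : G)⁻¹ = z * k ^ m := by
      have : k ^ m = z⁻¹ * ((xK : G) * z * (xK : G)⁻¹) := hm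
      rw [this, mul_inv_cancel_left]
    have hkm : k ^ m = 1 := by
      have h2 : (z * k ^ m) * (z * k ^ m) = 1 := by
        rw [← e1, show (xK : G) * z * (xK : G)⁻¹ * ((xK : G) * z * (xK : G)⁻¹) =
          (xK : G) * (z * z) * (xK : G)⁻¹ by group, h.toRels.hz, mul_one, mul_inv_cancel]
      have hcz2 := hzk.zpow_right m
      rw [show z * k ^ m * (z * k ^ m) = z * (k ^ m * z) * k ^ m by group, ← hcz2.eq,
        ← mul_assoc, h.toRels.hz, one_mul] at h2
      have h3 : (k ^ m) ^ 3 = 1 := by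
        rw [← zpow_natCast, ← zpow_mul, mul_comm, zpow_mul, zpow_natCast, pow_succ, pow_two, hk3, one_zpow]
      rw [pow_succ, pow_two, h2, one_mul] at h3
      exact h3
    rw [hkm, mul_one] at e1
    obtain ⟨i, hi, hie⟩ := h.surj (mul_inv_eq_iff_eq_mul.1 e1)
    have hie' : J3Uniq.el a t q i = (xK : G) := hie.symm
    have hB := allBelow_iff.1 cent_k i hi
    simp only [Bool.or_eq_true, Bool.not_eq_true', List.any_eq_true, Nat.beq_eq] at hB
    rcases hB with e | ⟨j, hj, d, hd, rfl⟩
    · exfalso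
      refine Bool.eq_false_iff.1 e (Nat.beq_eq ▸ Amalgam.el_inj' h (J3Uniq.mulI_lt hi (by omega))
        (J3Uniq.mulI_lt (by omega) hi) ?_)
      rw [he hi (by omega), he (by omega) hi, ek, hie']
      exact Subgroup.mem_centralizer_singleton_iff.1 xK.2
    have hdd : ∀ d ∈ [0, 95, 1015, 58, 4, 22, 594, 215], ∃ y : DihedralGroup 4, dPos y = d := by decide +kernel
    obtain ⟨y, rfl⟩ := hdd d hd
    refine ⟨y, Subtype.ext (Subtype.ext ?_)⟩
    show π (dK y) = π xK
    refine QuotientGroup.eq.2 ((hmemN _).2 ?_)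
    show (J3Uniq.el a t q (dPos y))⁻¹ * (xK : G) ∈ Subgroup.zpowers k
    have hjl : j < 1920 := by
      simp only [List.mem_cons, List.not_mem_nil, or_false] at hj
      rcases hj with rfl | rfl | rfl <;> omega
    rw [← hie', he (dPos_facts.1 y).1 hjl, inv_mul_cancel_left]
    simp only [List.mem_cons, List.not_mem_nil, or_false] at hj
    rcases hj with rfl | rfl | rfl
    · rw [J3Uniq.el_zero]; exact one_mem _
    · rw [ek]; exact Subgroup.mem_zpowers k
    · rw [hki]; exact Subgroup.inv_mem _ (Subgroup.mem_zpowers k)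
  have e8 : Subgroup.centralizer ({zL} : Set L) ≃* DihedralGroup 4 :=
    (MulEquiv.ofBijective f ⟨hfinj, hfsur⟩).symm
  have hzL1 : zL ≠ 1 := fun e => by
    have e' : π (dK (DihedralGroup.r 2)) = 1 := by
      rw [show dK (DihedralGroup.r 2) = zK from Subtype.ext ez]
      exact congrArg Subtype.val e
    exact absurd (hfinj ((Subtype.ext (Subtype.ext e') : f (DihedralGroup.r 2) = 1).trans (map_one f).symm))
      (by decide)
  have hzL2 : zL * zL = 1 := Subtype.ext hZZ
  have hcardL : Nat.card L = 360 := by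
    refine (S0848.result hperf zL (orderOf_eq_prime (by rw [pow_two, hzL2]) hzL1) e8).resolve_left fun e => hG ?_
    refine dvd_trans (dvd_trans (show 7 ∣ 168 by norm_num) (e ▸ Subgroup.card_subgroup_dvd_card L)) ?_
    exact (Subgroup.card_quotient_dvd_card N).trans (Subgroup.card_subgroup_dvd_card K)
  -- `L` is simple
  haveI hsimple : IsSimpleGroup L := by
    haveI : Nontrivial L := ⟨⟨zL, 1, hzL1⟩⟩
    refine ⟨fun M hM => ?_⟩
    by_cases hz : zL ∈ M
    · exact Or.inr (inz M hM hz)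
    left
    have hfree : ∀ m ∈ M, m * zL = zL * m → m = 1 := by
      intro m hm hmz
      by_contra hm1
      obtain ⟨x, hx⟩ := hfsur ⟨m, Subgroup.mem_centralizer_singleton_iff.2 hmz⟩
      have hxm : (f x : L) = m := congrArg Subtype.val hx
      have hf2 : (f (DihedralGroup.r 2) : L) = zL := Subtype.ext (congrArg π (Subtype.ext ez))
      have hx1 : x ≠ 1 := fun e => hm1 (by rw [← hxm, e, map_one]; rfl)
      by_cases hx2 : x = DihedralGroup.r 2
      · exact hz (by rw [← hf2, ← hx2, hxm]; exact hm)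
      obtain ⟨y, hy⟩ := dihedral_center x hx1 hx2
      refine hz ?_
      rw [← hf2, ← hy, map_mul, map_mul, map_mul, map_inv, map_inv, Subgroup.coe_mul, Subgroup.coe_mul,
        Subgroup.coe_mul, Subgroup.coe_inv, Subgroup.coe_inv, hxm, mul_assoc, mul_assoc]
      exact M.mul_mem hm (by
        rw [← mul_assoc]; exact hM.conj_mem _ (M.inv_mem hm) _)
    -- `Z` and its conjugates invert `M`
    have hinv : ∀ u : L, (∀ m ∈ M, m * u = u * m → m = 1) → u * u = 1 → ∀ m ∈ M, u * m * u = m⁻¹ := by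
      intro u hu hu2 m hm
      have hui : u⁻¹ = u := inv_eq_of_mul_eq_one_right hu2
      have hmem : ∀ x : M, u * (x : L) * u ∈ M := fun x => by
        have := hM.conj_mem x x.2 u
        rwa [hui] at this
      let φ : M → M := fun x => ⟨u * (x : L) * u, hmem x⟩
      let φh : M →* M := MonoidHom.mk' φ fun x y => Subtype.ext (by
        show u * ((x : L) * y) * u = u * x * u * (u * y * u)
        calc u * ((x : L) * y) * u = u * x * (u * u) * y * u := by rw [hu2]; group
          _ = _ := by group)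
      have hff : MonoidHom.FixedPointFree φh := fun x hx => by
        have e : u * (x : L) * u = x := congrArg Subtype.val hx
        refine Subtype.ext (hu x x.2 ?_)
        calc (x : L) * u = u * x * u * u := by rw [e]
          _ = u * x := by rw [mul_assoc, hu2, mul_one]
      have hinv2 : Function.Involutive φh := fun x => Subtype.ext (by
        show u * (u * (x : L) * u) * u = x
        calc u * (u * (x : L) * u) * u = (u * u) * x * (u * u) := by group
          _ = x := by rw [hu2, one_mul, mul_one])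
      have := congrFun (MonoidHom.FixedPointFree.coe_eq_inv_of_involutive hff hinv2) ⟨m, hm⟩
      exact congrArg Subtype.val this
    have hfreeC : ∀ g : L, ∀ m ∈ M, m * (g * zL * g⁻¹) = g * zL * g⁻¹ * m → m = 1 := by
      intro g m hm e
      have h1 : g⁻¹ * m * g = 1 := by
        refine hfree _ (by simpa using hM.conj_mem m hm g⁻¹) ?_
        calc g⁻¹ * m * g * zL = g⁻¹ * (m * (g * zL * g⁻¹)) * g := by group
          _ = zL * (g⁻¹ * m * g) := by rw [e]; group
      calc m = g * (g⁻¹ * m * g) * g⁻¹ := by group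
        _ = 1 := by rw [h1]; group
    have hAconj : aL = rL * zL * rL⁻¹ := Subtype.ext hRZ.symm
    have hAZ : aL * zL = rL * aL * rL⁻¹ := Subtype.ext hRA.symm
    have hAfree : ∀ m ∈ M, m * aL = aL * m → m = 1 := by rw [hAconj]; exact hfreeC rL
    rw [eq_bot_iff]
    intro m hm
    refine Subgroup.mem_bot.2 (hfreeC (rL * rL) m hm ?_)
    have e1 := hinv zL hfree hzL2 m hm
    have e2 := hinv aL hAfree (Subtype.ext hAA) m⁻¹ (M.inv_mem hm)
    rw [inv_inv, ← e1] at e2
    have hfix : aL * zL * m * (zL * aL) = m := by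
      calc aL * zL * m * (zL * aL) = aL * (zL * m * zL) * aL := by group
        _ = m := by
          rw [e1]
          exact (hinv aL hAfree (Subtype.ext hAA) m⁻¹ (M.inv_mem hm)).trans (inv_inv m)
    have hza : zL * aL * (aL * zL) = 1 := by
      rw [mul_assoc, ← mul_assoc aL, show aL * aL = 1 from Subtype.ext hAA, one_mul, hzL2]
    rw [show rL * rL * zL * (rL * rL)⁻¹ = rL * (rL * zL * rL⁻¹) * rL⁻¹ by group, ← hAconj, ← hAZ]
    calc m * (aL * zL) = aL * zL * m * (zL * aL) * (aL * zL) := by rw [hfix]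
      _ = aL * zL * m := by rw [mul_assoc (aL * zL * m), hza, mul_one]
  -- transport to `A₆`
  obtain ⟨e6⟩ := S0497.result (G := L) hcardL
  let ψ : L →* Equiv.Perm (Fin 6) := (alternatingGroup (Fin 6)).subtype.comp e6.toMonoidHom
  have hψinj : Function.Injective ψ := Subtype.val_injective.comp e6.injective
  have hsign : ∀ x, Equiv.Perm.sign (ψ x) = 1 := fun x => Equiv.Perm.mem_alternatingGroup.1 (e6 x).2
  obtain ⟨τ, hτ⟩ := alt_invol (ψ zL) (hsign _) (by rw [← map_mul, hzL2, map_one])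
    fun e => hzL1 (hψinj (e.trans (map_one ψ).symm))
  let χ : L →* Equiv.Perm (Fin 6) := (MulAut.conj τ).toMonoidHom.comp ψ
  have hχinj : Function.Injective χ := (MulAut.conj τ).injective.comp hψinj
  have hχs : ∀ x, Equiv.Perm.sign (χ x) = 1 := fun x => by
    show Equiv.Perm.sign (τ * ψ x * τ⁻¹) = 1
    rw [map_mul, map_mul, map_inv, hsign, mul_one, mul_inv_cancel]
  have hχz : χ zL = Equiv.swap 0 1 * Equiv.swap 2 3 := by
    show τ * ψ zL * τ⁻¹ = _
    rw [hτ, mul_inv_cancel_right]
  have hr2 : rL * rL = rL⁻¹ := Subtype.ext hRi.symm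
  have hs2 : sL * sL = sL⁻¹ := Subtype.ext hR'i.symm
  have hχA : χ rL * (Equiv.swap 0 1 * Equiv.swap 2 3) * (χ rL * χ rL) = χ aL := by
    rw [← hχz, ← map_mul, ← map_mul, ← map_mul, hr2]
    exact congrArg χ (Subtype.ext hRZ)
  have hχB : χ sL * (Equiv.swap 0 1 * Equiv.swap 2 3) * (χ sL * χ sL) = χ bL := by
    rw [← hχz, ← map_mul, ← map_mul, ← map_mul, hs2]
    exact congrArg χ (Subtype.ext hR'Z)
  have hABne : aL * bL ≠ bL * aL := fun e => by
    have e' : π (dK (DihedralGroup.sr 0 * DihedralGroup.sr 1)) =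
        π (dK (DihedralGroup.sr 1 * DihedralGroup.sr 0)) := by
      rw [← hdmul, ← hdmul, map_mul, map_mul]
      calc π (dK (DihedralGroup.sr 0)) * π (dK (DihedralGroup.sr 1)) = A * B := by
            rw [show dK (DihedralGroup.sr 0) = qK from Subtype.ext eq4,
              show dK (DihedralGroup.sr 1) = sK from Subtype.ext es]
        _ = B * A := congrArg Subtype.val e
        _ = _ := by
            rw [show dK (DihedralGroup.sr 0) = qK from Subtype.ext eq4,
              show dK (DihedralGroup.sr 1) = sK from Subtype.ext es]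
    exact absurd (hfinj (Subtype.ext (Subtype.ext e') : f _ = f _)) (by decide)
  have hzL' : ∀ {u : L}, u ≠ zL → χ u ≠ Equiv.swap 0 1 * Equiv.swap 2 3 := fun hu e =>
    hu (hχinj (e.trans hχz.symm))
  have hne1 : aL ≠ zL := fun e => hABne (by
    rw [e]
    obtain ⟨x, hx⟩ : ∃ x : DihedralGroup 4, (f x : L) = bL :=
      ⟨DihedralGroup.sr 1, Subtype.ext (congrArg π (Subtype.ext es))⟩
    rw [← hx]
    exact (Subgroup.mem_centralizer_singleton_iff.1 (f x).2).symm)
  have hne2 : bL ≠ zL := fun e => hABne (by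
    rw [e]
    obtain ⟨x, hx⟩ : ∃ x : DihedralGroup 4, (f x : L) = aL :=
      ⟨DihedralGroup.sr 0, Subtype.ext (congrArg π (Subtype.ext eq4))⟩
    rw [← hx]
    exact Subgroup.mem_centralizer_singleton_iff.1 (f x).2)
  have key := alt_six (χ rL)
    ⟨hχs _, by rw [← map_mul, ← map_mul, show rL * rL * rL = 1 from Subtype.ext hR3, map_one],
      by rw [hχA]; exact hzL' hne1,
      by
        rw [hχA, ← hχz, ← map_mul, ← map_mul, ← map_mul, ← map_mul, hr2]
        exact congrArg χ (Subtype.ext hRA)⟩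
    (χ sL)
    ⟨hχs _, by rw [← map_mul, ← map_mul, show sL * sL * sL = 1 from Subtype.ext hR'3, map_one],
      by rw [hχB]; exact hzL' hne2,
      by
        rw [hχB, ← hχz, ← map_mul, ← map_mul, ← map_mul, ← map_mul, hs2]
        exact congrArg χ (Subtype.ext hR'B)⟩
    (by
      rw [hχA, hχB]
      refine ⟨fun e => hABne (hχinj (by rw [map_mul, map_mul]; exact e)), ?_, ?_⟩
      · rw [← map_mul, ← map_mul, ← map_mul, hr2]
        exact congrArg χ (Subtype.ext hBRB)
      · rw [← map_mul, ← map_mul, ← map_mul, hs2]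
        exact congrArg χ (Subtype.ext hARA))
  simp only at key
  obtain ⟨k5, k4⟩ := key
  have h5 : (R * R') ^ 5 = 1 := by
    have e : (rL * sL) * (rL * sL) * (rL * sL) * (rL * sL) * (rL * sL) = 1 := hχinj (by
      rw [map_one, ← k5]; simp only [map_mul])
    have e' := congrArg Subtype.val e
    simpa [pow_succ, mul_assoc] using e'
  have h4 : (R * R'⁻¹) ^ 4 = 1 := by
    have e : (rL * (sL * sL)) * (rL * (sL * sL)) * (rL * (sL * sL)) * (rL * (sL * sL)) = 1 := hχinj (by
      rw [map_one, ← k4]; simp only [map_mul])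
    have e' := congrArg Subtype.val e
    rw [hR'i]
    simpa [pow_succ, mul_assoc] using e'
  refine ⟨?_, ?_, ?_⟩
  · have hm : (rK * r'K) ^ 5 ∈ N := (QuotientGroup.eq_one_iff _).1 (by
      show π ((rK * r'K) ^ 5) = 1
      rw [map_pow, map_mul, h5])
    have hm' : (r * r') ^ 5 ∈ Subgroup.zpowers k := (hmemN _).1 hm
    have e : r * r' = (r * c) * (r * c) := by rw [hr']; group
    rw [e, ← pow_two, ← pow_mul] at hm'
    obtain ⟨m, hm'⟩ := hm'
    have hm'' : k ^ m = (r * c) ^ 10 := hm'
    set u := r * c with hu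
    have h1 : u * k * u⁻¹ = k⁻¹ := by
      rw [hu, mul_inv_rev, show r * c * k * (c⁻¹ * r⁻¹) = r * (c * k * c⁻¹) * r⁻¹ by group, hci, hck,
        (hr.rk.inv_right).eq, mul_inv_cancel_right]
    have h2 : u * u ^ 10 * u⁻¹ = u ^ 10 := by
      rw [← (Commute.self_pow u 10).eq.symm, mul_inv_cancel_right]
    rw [← hm'', ← conj_zpow, h1, inv_zpow] at h2
    have h3 : k ^ m * k ^ m = 1 := by
      calc k ^ m * k ^ m = k ^ m * (k ^ m)⁻¹ := by rw [h2]
        _ = 1 := mul_inv_cancel _
    have h4 : (k ^ m) ^ 3 = 1 := by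
      rw [← zpow_natCast, ← zpow_mul, mul_comm, zpow_mul, zpow_natCast, pow_succ, pow_two, hk3, one_zpow]
    rw [pow_succ, pow_two, h3, one_mul] at h4
    rw [← hm'', h4]
  · have hm : (rK * r'K⁻¹) ^ 4 ∈ N := (QuotientGroup.eq_one_iff _).1 (by
      show π ((rK * r'K⁻¹) ^ 4) = 1
      rw [map_pow, map_mul, map_inv, h4])
    have hm' : (r * r'⁻¹) ^ 4 ∈ Subgroup.zpowers k := (hmemN _).1 hm
    have e : r * r'⁻¹ = r * c * r⁻¹ * c := by rw [hr', mul_inv_rev, mul_inv_rev, hci]; group
    rwa [e] at hm'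
  · let S : Subgroup G := (L.comap π).map K.subtype
    have hcS : Nat.card S = 3 * 360 := by
      rw [Subgroup.card_map_of_injective K.subtype_injective]
      have hNle : N ≤ L.comap π := fun x hx => by
        show π x ∈ L
        rw [show π x = 1 from (QuotientGroup.eq_one_iff x).2 hx]
        exact L.one_mem
      have hker : (L.comap π) ⊓ π.ker = N := by rw [QuotientGroup.ker_mk']; exact inf_eq_right.2 hNle
      have hcN : Nat.card N = 3 := by
        rw [Nat.card_zpowers]
        refine orderOf_eq_prime (Subtype.ext ?_) fun e => ?_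
        · show k ^ 3 = 1; rw [pow_succ, pow_two, hk3]
        · have e' : J3Uniq.el a t q 176 = J3Uniq.el a t q 0 := by
            rw [ek, J3Uniq.el_zero]; exact congrArg Subtype.val e
          exact absurd (Amalgam.el_inj' h (by omega) (by omega) e') (by omega)
      let g : (L.comap π) →* L := (π.comp (L.comap π).subtype).codRestrict L fun x => x.2
      have hgs : Function.Surjective g := fun y => by
        obtain ⟨x, hx⟩ := QuotientGroup.mk'_surjective N y.1
        exact ⟨⟨x, by show π x ∈ L; rw [hx]; exact y.2⟩, Subtype.ext hx⟩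
      have hgk : Nat.card g.ker = 3 := by
        rw [← hcN]
        refine Nat.card_congr ⟨fun x => ⟨x.1.1, (QuotientGroup.eq_one_iff _).1 (congrArg Subtype.val x.2)⟩,
          fun x => ⟨⟨x.1, hNle x.2⟩, Subtype.ext ((QuotientGroup.eq_one_iff _).2 x.2)⟩,
          fun x => rfl, fun x => rfl⟩
      rw [← Subgroup.card_mul_index g.ker, hgk, Subgroup.index_ker, MonoidHom.range_eq_top.2 hgs,
        Subgroup.card_top, hcardL]
    refine ⟨S, by rw [hcS]; exact dvd_mul_left _ _, ⟨kK, ?_, rfl⟩, by rw [hcS], fun H hrH hCH => ?_⟩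
    · show π kK ∈ L
      rw [show π kK = 1 from (QuotientGroup.eq_one_iff _).2 (Subgroup.mem_zpowers kK)]
      exact L.one_mem
    · have mC : ∀ {i}, i < 1920 → J3Uniq.el a t q i ∈ H := fun hi => hCH (h.el_mem hi)
      have hcH : c ∈ H := ec ▸ mC (by omega)
      have hkH : k ∈ H := ek ▸ mC (by omega)
      have hgens : (L.comap π) ≤ H.subgroupOf K := by
        have hN' : N ≤ H.subgroupOf K := Subgroup.zpowers_le.2 hkH
        have hsub : L ≤ (H.subgroupOf K).map π := (Subgroup.closure_le _).2 (by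
          rintro x (rfl | rfl | rfl | rfl)
          exacts [⟨qK, show q ∈ H from eq4 ▸ mC (by omega), rfl⟩, ⟨sK, show s ∈ H from es ▸ mC (by omega), rfl⟩,
            ⟨rK, hrH, rfl⟩, ⟨r'K, show r' ∈ H from H.mul_mem (H.mul_mem hcH hrH) hcH, rfl⟩])
        intro x hx
        obtain ⟨y, hy, hyx⟩ := hsub hx
        have : y⁻¹ * x ∈ N := QuotientGroup.eq.1 hyx
        have := (H.subgroupOf K).mul_mem hy (hN' this)
        rwa [mul_inv_cancel_left] at this
      rintro _ ⟨x, hx, rfl⟩
      exact hgens hx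

end Cfsg.Agent.Lib.J3Uniq.Six
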