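import Cfsg.Agent.Lib.J3Uniq.Bound

/-!
# Uniqueness of the third Janko group: a conjugate of `z` equal to `t`

Owner: helper74.
-/

set_option autoImplicit false
set_option maxRecDepth 100000

namespace Cfsg.Agent.Lib.J3Uniq.Data

/-- A word `g` with `g⁻¹ z g = t` in the amalgam. -/
def tWord : List ℕ := [7, 0, 6, 0, 6, 0, 7, 0, 6, 0, 0, 7, 1]

/-- The trace of `g⁻¹ z g t`, with `r⁻¹` written as `r r`. -/
def tSteps : List Step :=
  [(0, 1, 0), (5, 1, 0), (1, 0, 0), (0, 8, 0), (3, 1, 0), (3, 3, 0), (1, 9, 38), (1, 13, 38), (3, 15, 0), (0, 2, 0), (3, 11, 0), (1, 17, 169), (0, 2, 0), (3, 18, 0), (1, 24, 179), (1, 28, 29), (0, 2, 0), (1, 56, 159), (3, 782, 0), (1, 43, 161), (0, 2, 0), (1, 185, 133), (0, 1015, 0), (1, 187, 104), (3, 981, 0), (1, 170, 112), (3, 981, 0), (0, 1, 0), (1, 45, 54), (0, 1, 0), (1, 25, 48), (0, 1, 0), (1, 19, 139), (3, 21, 0), (1, 22, 154), (0, 1, 0), (1, 16, 16), (0, 5, 0), (1, 5, 19), (3, 7, 0), (1, 8, 165),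 (0, 9, 0)]

/-- The chunks of that trace. -/
def tChunks : List (List ℕ) :=
  [[0], [6], [1, 1], [6], [6], [1], [6], [1], [6], [6], [1], [6], [6], [1], [6], [0, 4, 1, 4, 0, 4, 1, 4], [6], [6], [0], [6], [0], [6], [0], [6], [6], [0], [6], [0, 0], [6], [6], [1, 2]]

theorem t_chunks : tChunks.flatten =
    (invWord' tWord ++ HJUniq.zW ++ tWord ++ [2]).flatMap (fun g => if g = 7 then [6, 6] else [g]) := by
  decide +kernel

theorem t_pieces : pieces tSteps = tChunks.map chunkSyl ∧ (tChunks.all fun l => HJUniq.small l || l == [6]) = true := by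
  decide +kernel

theorem t_run : ((run cert nFacts tSteps (0, 0, 0)).map fun s => Nat.beq s.2.1 0 && Nat.beq (mulI s.1 s.2.2) 0) =
    some true := by
  decide +kernel

end Cfsg.Agent.Lib.J3Uniq.Data
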