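import Mathlib
import Cfsg.Agent.Lib.J3Uniq.Good
import Cfsg.Agent.Lib.J3Uniq.Six
import Cfsg.Agent.Lib.J3Uniq.Seven
import Cfsg.Agent.Lib.J3Uniq.Alt1
import Cfsg.Agent.Lib.J3Uniq.TConj
import Cfsg.Agent.Lib.J3Order.Main
import Cfsg.Agent.Lib.SporMatrix.J3Centralizer

/-!
# Uniqueness of the third Janko group

A simple group with one class of involutions and centraliser `2^{1+4}.A₅` is generated by `a, t, q, r` with the
relators of the amalgam, so any two such groups are isomorphic.

Owner: helper74.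
-/

set_option autoImplicit false
set_option linter.style.haveILetI false
set_option maxRecDepth 100000

namespace Cfsg.Agent.Lib.J3Uniq

open Cfsg.Agent.Lib.CosetEnum Cfsg.Agent.Lib.HJUniq

/-- The word `(r c r⁻¹ c) ^ 4`. -/
def fourBase : List ℕ := (List.replicate 4 ([6] ++ cW ++ [7] ++ cW)).flatten

theorem moves0_ok : movesB (baseWords ++ [tenW, fourBase]) Alt0.mvSrc Alt0.cert = true := by decide +kernel

theorem moves1_ok : movesB (baseWords ++ [tenW, fourBase ++ kW]) Alt1.mvSrc Alt1.cert = true := by decide +kernel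

theorem letters_base : (∀ l ∈ baseWords ++ [tenW, fourBase], ∀ g ∈ l, g < 8) ∧
    (∀ l ∈ baseWords ++ [tenW, fourBase ++ kW], ∀ g ∈ l, g < 8) := by decide +kernel

theorem rb_facts : ∀ n ∈ Nat.divisors 2907, n % 128 = 1 → n = 1 := by decide +kernel

theorem ev_flat {G : Type*} [Group G] (φ : ℕ → G) (n : ℕ) (l : List ℕ) :
    HJUniq.ev φ (List.replicate n l).flatten = HJUniq.ev φ l ^ n := by
  induction n with
  | zero => simp [HJUniq.ev]
  | succ n ih => rw [List.replicate_succ, List.flatten_cons, HJUniq.ev_append, ih, pow_succ']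

variable {G : Type*} [Group G] {z a t q r : G}

/-- The value of a trace returning to the trivial double coset. -/
theorem sval_of_return {K : Cert} (h : Sound K a t q r) (pf : ℕ → Pf) (N : ℕ)
    (hB : ∀ f < N, factB K f (K.fact f) (pf f) = true) {l : List Step}
    (hl : ((run K N l (0, 0, 0)).map fun s => Nat.beq s.2.1 0 && Nat.beq (mulI s.1 s.2.2) 0) = some true) :
    sval a t q r (pieces l) = 1 := by
  obtain ⟨⟨L, I, R⟩, hs, e⟩ := Option.map_eq_some_iff.1 hl
  simp only [Bool.and_eq_true, Nat.beq_eq] at e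
  obtain ⟨rfl, e⟩ := e
  obtain ⟨⟨hL, hR⟩, h2⟩ := run_sound h (all_good h pf N hB) hs ⟨Nat.zero_lt_succ _, Nat.zero_lt_succ _⟩
  simp only [val, el_zero, node_zero, one_mul, mul_one] at h2
  rw [← h2, J3Uniq.el_mul h.rels hL hR, e, el_zero]

theorem not_rels0 [Finite G] (h : J3Order.Local.Ctx z a t q) (hr : r ∉ Subgroup.centralizer ({z} : Set G))
    (hG : ¬ 7 ∣ Nat.card G) (hR : Holds (baseWords ++ [tenW, fourBase]) a t q r) : False := by
  have hS : Sound Alt0.cert a t q r :=
    hR.sound (List.subset_append_left _ _) letters_base.1 (src := Alt0.mvSrc) moves0_ok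
  have e := sval_of_return hS Alt0.pf Alt0.nFacts
    (fun f hf => allBelow_iff.1 Alt0.facts_ok f hf) Alt0.seven_run
  rw [Alt0.seven_pieces] at e
  have e7 : (el a t q 1 * r) ^ 7 = 1 := by
    rw [← e]
    simp [sval, pval, List.replicate, pow_succ, mul_assoc]
  have h1 : el a t q 1 * r = 1 := by
    have hd : orderOf (el a t q 1 * r) ∣ Nat.gcd 7 (Nat.card G) :=
      Nat.dvd_gcd (orderOf_dvd_of_pow_eq_one e7) (orderOf_dvd_natCard _)
    rw [Nat.Coprime.gcd_eq_one ((Nat.Prime.coprime_iff_not_dvd (by norm_num)).2 hG), Nat.dvd_one] at hd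
    exact orderOf_eq_one_iff.1 hd
  refine hr ?_
  rw [← inv_eq_of_mul_eq_one_right h1]
  exact inv_mem (h.el_mem (i := 1) (by omega))

theorem not_rels1 (h : J3Order.Local.Ctx z a t q) (hR : Holds (baseWords ++ [tenW, fourBase ++ kW]) a t q r) :
    False := by
  have hS : Sound Alt1.cert a t q r :=
    hR.sound (List.subset_append_left _ _) letters_base.2 (src := Alt1.mvSrc) moves1_ok
  obtain ⟨i, hi, j, hj, hne, e⟩ := eq_of_clash hS Alt1.pf Alt1.nFacts
    (fun f hf => allBelow_iff.1 Alt1.facts_ok f hf) Alt1.fin_ok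
  exact hne (Amalgam.el_inj' h hi hj e)

/-- The words `g` and `g⁻¹ z g t` in `r` and `r r` for `r⁻¹`. -/
theorem ev_expand (a t q : G) {r : G} (hr : r ^ 3 = 1) (l : List ℕ) :
    HJUniq.ev (lett a t q r) (l.flatMap fun g => if g = 7 then [6, 6] else [g]) =
      HJUniq.ev (lett a t q r) l := by
  induction l with
  | nil => rfl
  | cons g l ih =>
    rw [List.flatMap_cons, HJUniq.ev_append, ih, HJUniq.ev_cons]
    refine congrArg (· * _) ?_
    by_cases hg : g = 7
    · subst hg
      rw [if_pos rfl]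
      show HJUniq.ev (lett a t q r) [6, 6] = r⁻¹
      simp only [HJUniq.ev, List.map_cons, List.map_nil, List.prod_cons, List.prod_nil, mul_one, lett]
      refine (inv_eq_of_mul_eq_one_right ?_).symm
      rw [← mul_assoc, ← pow_two, ← pow_succ, hr]
    · rw [if_neg hg, ev_single]

/-- In the amalgam `t` is conjugate to `z`. -/
theorem exists_conj_t (h : J3Order.Local.Ctx z a t q) (hR : Holds relWords a t q r) :
    ∃ g, g * z * g⁻¹ = t ∧ ∀ H : Subgroup G, r ∈ H → Subgroup.centralizer ({z} : Set G) ≤ H → g ∈ H := by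
  have hS : Sound Data.cert a t q r := hR.sound base_subset rel_letters (src := Data.mvSrc) moves_ok
  have e := sval_of_return hS Data.pf Data.nFacts (fun f hf => allBelow_iff.1 Data.facts_ok f hf) Data.t_run
  rw [Data.t_pieces.1] at e
  have hval : ∀ ch : List (List ℕ), (ch.all fun l => small l || l == [6]) = true →
      sval a t q r (ch.map chunkSyl) = HJUniq.ev (lett a t q r) ch.flatten := by
    intro ch hch
    induction ch with
    | nil => rfl
    | cons l ch ih =>
      simp only [List.all_cons, Bool.and_eq_true] at hch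
      rw [List.flatten_cons, HJUniq.ev_append, ← ih hch.2, List.map_cons, sval, List.map_cons, List.prod_cons]
      refine congrArg (· * _) ?_
      have hl := hch.1
      simp only [Bool.or_eq_true, beq_iff_eq] at hl
      rcases hl with hl | rfl
      · have hne : l ≠ [6] ∧ l ≠ [7] := ⟨fun e => by simp [e, small] at hl, fun e => by simp [e, small] at hl⟩
        rw [chunkSyl, if_neg hne.1, if_neg hne.2, pval_shift, ev_small a t q r hl]
        exact (Amalgam.val_eq h hl rfl).symm
      · simp [chunkSyl, pval, HJUniq.ev, lett]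
  rw [hval _ Data.t_pieces.2, Data.t_chunks, ev_expand a t q (hR.mono base_subset).cube, HJUniq.ev_append,
    HJUniq.ev_append, HJUniq.ev_append, ev_single] at e
  have hlt : ∀ g ∈ Data.tWord, g < 8 := by decide +kernel
  rw [ev_invWord' a t q r hlt, ev_small a t q r (l := zW) (by decide), h.toRels.evC_zW,
    show lett a t q r 2 = t from rfl] at e
  refine ⟨(HJUniq.ev (lett a t q r) Data.tWord)⁻¹, ?_, fun H hrH hCH => H.inv_mem ?_⟩
  · rw [inv_inv]
    generalize HJUniq.ev (lett a t q r) Data.tWord = g at e ⊢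
    calc g⁻¹ * z * g = g⁻¹ * z * g * (t * t) := by rw [h.toRels.ht, mul_one]
      _ = (g⁻¹ * z * g * t) * t := by group
      _ = t := by rw [e, one_mul]
  · refine H.list_prod_mem fun x hx => ?_
    obtain ⟨n, hn, rfl⟩ := List.mem_map.1 hx
    have hn8 := hlt n hn
    have hmem : ∀ l, small l = true → evC a t q l ∈ H := fun l hl => hCH (h.toChart.mem hl)
    interval_cases n
    · simpa [HJUniq.ev, lett] using hmem [0] rfl
    · simpa [HJUniq.ev, lett] using hmem [1] rfl
    · simpa [HJUniq.ev, lett] using hmem [2] rfl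
    · simpa [HJUniq.ev, lett] using hmem [3] rfl
    · simpa [HJUniq.ev, lett] using hmem [4] rfl
    · simpa [HJUniq.ev, lett] using hmem [5] rfl
    · exact hrH
    · exact H.inv_mem hrH

/-- A subgroup containing `C(z)` in which all involutions of `C(z)` are conjugate to `z`, whose order is divisible
by `1080`, is the whole group. -/
theorem eq_top_of_conj [Finite G] (h : J3Order.Local.Ctx z a t q) (hN : Nat.card G = 50232960) (H : Subgroup G)
    (hCH : Subgroup.centralizer ({z} : Set G) ≤ H)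
    (hinv : ∀ u : G, Commute u z → orderOf u = 2 → ∃ g ∈ H, g * z * g⁻¹ = u) (h1080 : 1080 ∣ Nat.card H) :
    H = ⊤ := by
  classical
  haveI : Fact (Nat.Prime 2) := ⟨Nat.prime_two⟩
  set C := Subgroup.centralizer ({z} : Set G) with hC
  obtain ⟨PC⟩ : Nonempty (Sylow 2 C) := inferInstance
  set P : Subgroup G := (PC : Subgroup C).map C.subtype with hP
  have hP128 : Nat.card P = 128 := by
    rw [hP, Subgroup.card_map_of_injective C.subtype_injective, PC.card_eq_multiplicity, h.card,
      show Nat.factorization 1920 2 = 7 by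
        rw [Nat.factorization_def _ Nat.prime_two, show (1920 : ℕ) = 2 ^ 7 * 15 by norm_num,
          padicValNat.mul (by norm_num) (by norm_num), padicValNat.prime_pow,
          padicValNat.eq_zero_of_not_dvd (by norm_num)]]
    norm_num
  have hPC : P ≤ C := Subgroup.map_subtype_le _
  have hPH : P ≤ H := hPC.trans hCH
  -- `P` is a Sylow subgroup of `H`
  have hH2 : Nat.factorization (Nat.card H) 2 = 7 := by
    refine le_antisymm ?_ ?_
    · have h1 := (Nat.factorization_le_iff_dvd (Nat.card_pos (α := H)).ne' (by rw [hN]; norm_num)).2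
        (Subgroup.card_subgroup_dvd_card H) 2
      refine h1.trans (le_of_eq ?_)
      rw [hN, Nat.factorization_def _ Nat.prime_two, show (50232960 : ℕ) = 2 ^ 7 * 392445 by norm_num,
        padicValNat.mul (by norm_num) (by norm_num), padicValNat.prime_pow,
        padicValNat.eq_zero_of_not_dvd (by norm_num)]
    · refine (Nat.prime_two.pow_dvd_iff_le_factorization Nat.card_pos.ne').1 ?_
      rw [show 2 ^ 7 = Nat.card P by rw [hP128]; norm_num]
      exact Subgroup.card_dvd_of_le hPH
  obtain ⟨PH, hPH'⟩ : ∃ S : Sylow 2 H, (S : Subgroup H) = P.subgroupOf H := by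
    refine ⟨Sylow.ofCard (P.subgroupOf H) ?_, rfl⟩
    rw [Nat.card_congr (Subgroup.subgroupOfEquivOfLe hPH).toEquiv, hP128, hH2]
    norm_num
  -- involutions of `H` are conjugate in `H` to `z`
  have hH : ∀ u ∈ H, orderOf u = 2 → ∃ g ∈ H, g * z * g⁻¹ = u := by
    intro u hu hu2
    let uH : H := ⟨u, hu⟩
    have h2 : IsPGroup 2 (Subgroup.zpowers uH) := IsPGroup.of_card (n := 1) (by
      rw [Nat.card_zpowers, ← Subgroup.orderOf_coe, pow_one]; exact hu2)
    obtain ⟨S, hS⟩ := h2.exists_le_sylow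
    obtain ⟨g, hg⟩ := MulAction.exists_smul_eq H S PH
    have hmem : g * uH * g⁻¹ ∈ (PH : Subgroup H) := by
      rw [← hg, Sylow.coe_subgroup_smul]
      exact Subgroup.smul_mem_pointwise_smul uH (MulAut.conj g) _ (hS (Subgroup.mem_zpowers uH))
    rw [hPH', Subgroup.mem_subgroupOf] at hmem
    have hc : Commute ((g : G) * u * (g : G)⁻¹) z := Subgroup.mem_centralizer_singleton_iff.1 (hPC hmem)
    obtain ⟨g', hg', e⟩ := hinv _ hc
      (by rw [Cfsg.Agent.Lib.Involutions.Basic.orderOf_conj_eq]; exact hu2)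
    refine ⟨(g : G)⁻¹ * g', H.mul_mem (H.inv_mem g.2) hg', ?_⟩
    calc (g : G)⁻¹ * g' * z * ((g : G)⁻¹ * g')⁻¹ = (g : G)⁻¹ * (g' * z * g'⁻¹) * g := by group
      _ = u := by rw [e]; group
  -- `P` fixes only one coset
  have hfree : ∀ x : G ⧸ H, x ≠ (QuotientGroup.mk 1 : G ⧸ H) → MulAction.stabilizer P x = ⊥ := by
    intro x hx
    induction x using QuotientGroup.induction_on with | _ g => ?_
    rw [Subgroup.eq_bot_iff_forall]
    intro p hp
    by_contra hp1
    obtain ⟨m, hm⟩ : ∃ m : ℕ, orderOf p = 2 ^ m := by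
      have hPG : IsPGroup 2 P := IsPGroup.of_card (n := 7) (by rw [hP128]; norm_num)
      exact IsPGroup.iff_orderOf.1 hPG p
    have hm0 : m ≠ 0 := fun e => hp1 (orderOf_eq_one_iff.1 (by rw [hm, e, pow_zero]))
    set v := p ^ 2 ^ (m - 1) with hv
    have hv2 : orderOf v = 2 := by
      have hdiv : 2 ^ (m - 1) ∣ 2 ^ m := pow_dvd_pow 2 (Nat.sub_le m 1)
      rw [hv, orderOf_pow, hm, Nat.gcd_eq_right hdiv, Nat.pow_div (Nat.sub_le m 1) (by norm_num),
        show m - (m - 1) = 1 by omega, pow_one]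
    have hvfix : v ∈ MulAction.stabilizer P (QuotientGroup.mk g : G ⧸ H) := Subgroup.pow_mem _ hp _
    have hvg : g⁻¹ * (v : G) * g ∈ H := by
      have e : ((v : G) • (QuotientGroup.mk g : G ⧸ H)) = QuotientGroup.mk g := hvfix
      rw [MulAction.Quotient.smul_mk, smul_eq_mul, eq_comm, QuotientGroup.eq] at e
      simpa [mul_assoc] using e
    have hvG : orderOf (v : G) = 2 := by rw [Subgroup.orderOf_coe, hv2]
    obtain ⟨h0, hh0, e0⟩ := hH (v : G) (hPH v.2) hvG
    obtain ⟨h1, hh1, e1⟩ := hH _ hvg (by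
      rw [show g⁻¹ * (v : G) * g = g⁻¹ * (v : G) * g⁻¹⁻¹ by rw [inv_inv],
        Cfsg.Agent.Lib.Involutions.Basic.orderOf_conj_eq]
      exact hvG)
    have hc : h0⁻¹ * g * h1 ∈ C := by
      refine Subgroup.mem_centralizer_singleton_iff.2 (mul_inv_eq_iff_eq_mul.1 ?_)
      calc h0⁻¹ * g * h1 * z * (h0⁻¹ * g * h1)⁻¹ = h0⁻¹ * g * (h1 * z * h1⁻¹) * g⁻¹ * h0 := by group
        _ = h0⁻¹ * (v : G) * h0 := by rw [e1]; group
        _ = z := by rw [← e0]; group
    refine hx (QuotientGroup.eq.2 ?_)
    rw [mul_one]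
    refine H.inv_mem ?_
    have := H.mul_mem (H.mul_mem hh0 (hCH hc)) (H.inv_mem hh1)
    rwa [show h0 * (h0⁻¹ * g * h1) * h1⁻¹ = g by group] at this
  -- the congruence
  have hmod : H.index % 128 = 1 := by
    let x0 : G ⧸ H := QuotientGroup.mk 1
    let S : SubMulAction P (G ⧸ H) :=
      { carrier := {x | x ≠ x0}
        smul_mem' := fun p x hx e => hx (by
          have e' : (p⁻¹ • x0) = x := by rw [← e, inv_smul_smul]
          rw [← e']
          show ((p⁻¹ : P) : G) • (QuotientGroup.mk 1 : G ⧸ H) = QuotientGroup.mk 1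
          rw [MulAction.Quotient.smul_mk, smul_eq_mul, mul_one, QuotientGroup.eq, mul_one]
          exact H.inv_mem (hPH (p⁻¹).2)) }
    have hdvd : 128 ∣ Nat.card S := by
      haveI : Fintype (MulAction.orbitRel.Quotient P S) := Fintype.ofFinite _
      rw [Nat.card_congr (MulAction.selfEquivSigmaOrbits P S), Nat.card_sigma]
      refine Finset.dvd_sum fun x _ => ?_
      rw [← hP128, ← Subgroup.card_mul_index (MulAction.stabilizer P (Quotient.out x)),
        MulAction.index_stabilizer, ← Nat.card_coe_set_eq]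
      have : MulAction.stabilizer P (Quotient.out x) = ⊥ := by
        refine le_antisymm (fun p hp => ?_) bot_le
        rw [← hfree _ (Quotient.out x).2]
        exact congrArg Subtype.val hp
      rw [this, Subgroup.card_bot, one_mul]
    have hcard : H.index = Nat.card S + 1 := by
      have h1 : ({x0} : Set (G ⧸ H))ᶜ.ncard + ({x0} : Set (G ⧸ H)).ncard = Nat.card (G ⧸ H) := by
        rw [add_comm]; exact Set.ncard_add_ncard_compl _
      rw [Set.ncard_singleton] at h1
      have h2 : Nat.card S = ({x0} : Set (G ⧸ H))ᶜ.ncard := by rw [← Nat.card_coe_set_eq]; rfl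
      rw [Subgroup.index, h2, h1]
    omega
  have h17280 : 17280 ∣ Nat.card H :=
    Nat.lcm_dvd (show 1920 ∣ Nat.card H from h.card ▸ Subgroup.card_dvd_of_le hCH) h1080
  have hidx : H.index ∈ Nat.divisors 2907 := by
    refine Nat.mem_divisors.2 ⟨?_, by norm_num⟩
    obtain ⟨c, hc⟩ := h17280
    have := Subgroup.card_mul_index H
    rw [hc, hN] at this
    exact ⟨c, Nat.eq_of_mul_eq_mul_left (show 0 < 17280 by norm_num) (by rw [show 17280 * 2907 = 50232960 by norm_num, ← this]; ring)⟩
  exact Subgroup.index_eq_one.1 (rb_facts _ hidx hmod)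

/-- The generators with the relators. -/
theorem exists_gens [Finite G] (h : J3Order.Local.Ctx z a t q) (hN : Nat.card G = 50232960) :
    ∃ r : G, Holds relWords a t q r ∧ Subgroup.closure ({a, t, q, r} : Set G) = ⊤ := by
  obtain ⟨r0, hr0⟩ := Amalgam.exists_r h
  obtain ⟨r, hr, hl⟩ := exists_good h.toChart hr0 (Amalgam.q_ne h).1
  have hG7 : ¬ 7 ∣ Nat.card G := by rw [hN]; norm_num
  have hnC : r ∉ Subgroup.centralizer ({z} : Set G) := hr.not_mem h.toChart (Amalgam.q_ne h).1
  obtain ⟨h10, h4, S, -, -, hS, hSH⟩ := Six.orders h hr hl hG7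
  set k := evC a t q kW with hk
  have hbase : Holds baseWords a t q r := HJUniq.relWords_hold h.toChart hr (wl := kW) (by decide) hl
  have hev6 : ∀ l, small l = true → HJUniq.ev (lett a t q r) ([6] ++ l) = r * evC a t q l := fun l hl => by
    rw [HJUniq.ev_append, ev_single, ev_small a t q r hl]; rfl
  have hten : HJUniq.ev (lett a t q r) tenW = 1 := by
    rw [tenW, ev_flat, hev6 cW (by decide)]; exact h10
  have hfb : HJUniq.ev (lett a t q r) fourBase = (r * evC a t q cW * r⁻¹ * evC a t q cW) ^ 4 := by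
    rw [fourBase, ev_flat, HJUniq.ev_append, HJUniq.ev_append, hev6 cW (by decide), ev_single,
      ev_small a t q r (by decide)]
    rfl
  have hk' : HJUniq.ev (lett a t q r) kW = k := ev_small a t q r (by decide)
  have hk3 : k ^ (3 : ℤ) = 1 := by
    rw [show (3 : ℤ) = ((3 : ℕ) : ℤ) from rfl, zpow_natCast, pow_succ, pow_two, hk, ← evC_append, ← evC_append,
      h.toChart.eq_of (l := kW ++ kW ++ kW) (l' := []) (by decide +kernel), evC_nil]
  have hRels : Holds relWords a t q r := by
    obtain ⟨m, hm'⟩ := h4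
    have hm : k ^ m = (r * evC a t q cW * r⁻¹ * evC a t q cW) ^ 4 := hm'
    have hsum : k ^ m = k ^ (m % 3) := by
      conv_lhs => rw [← Int.mul_ediv_add_emod m 3, zpow_add, zpow_mul, hk3, one_zpow, one_mul]
    have h1 := Int.emod_nonneg m (show (3 : ℤ) ≠ 0 by omega)
    have h2 := Int.emod_lt_of_pos m (show (0 : ℤ) < 3 by omega)
    have h3 : m % 3 = 0 ∨ m % 3 = 1 ∨ m % 3 = 2 := by omega
    have hk3' : k * k * k = 1 := by
      rw [← hk3, show (3 : ℤ) = ((3 : ℕ) : ℤ) from rfl, zpow_natCast, pow_succ, pow_two]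
    rcases h3 with e | e | e <;> rw [e] at hsum
    · exfalso
      refine not_rels0 (r := r) h hnC hG7 fun l hl => ?_
      simp only [List.mem_append, List.mem_cons, List.not_mem_nil, or_false] at hl
      rcases hl with hl | rfl | rfl
      · exact hbase l hl
      · exact hten
      · rw [hfb, ← hm, hsum, zpow_zero]
    · intro l hl
      simp only [relWords, List.mem_append, List.mem_cons, List.not_mem_nil, or_false] at hl
      rcases hl with hl | rfl | rfl
      · exact hbase l (by simpa [baseWords] using hl)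
      · exact hten
      · rw [show fourW = fourBase ++ kW ++ kW from rfl, HJUniq.ev_append, HJUniq.ev_append, hfb, ← hm, hsum,
          zpow_one, hk', hk3']
    · exfalso
      refine not_rels1 (r := r) h fun l hl => ?_
      simp only [List.mem_append, List.mem_cons, List.not_mem_nil, or_false] at hl
      rcases hl with hl | rfl | rfl
      · exact hbase l hl
      · exact hten
      · rw [HJUniq.ev_append, hfb, ← hm, hsum, hk', show (2 : ℤ) = ((2 : ℕ) : ℤ) from rfl, zpow_natCast,
          pow_two, hk3']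
  refine ⟨r, hRels, ?_⟩
  set H := Subgroup.closure ({a, t, q, r} : Set G) with hH
  have hrH : r ∈ H := Subgroup.subset_closure (by simp)
  have hCH : Subgroup.centralizer ({z} : Set G) ≤ H := by
    rw [← h.gen]
    exact Subgroup.closure_mono (by intro x hx; simp only [Set.mem_insert_iff, Set.mem_singleton_iff] at hx ⊢; tauto)
  refine eq_top_of_conj h hN H hCH (fun u hu hu2 => ?_) ?_
  · obtain ⟨i, hi, e⟩ := h.surj hu
    have e' : el a t q i = u := e.symm
    have hB := allBelow_iff.1 Amalgam.inv_ok i hi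
    simp only [Amalgam.invB, Bool.or_eq_true, Bool.not_eq_true', List.any_eq_true, Bool.and_eq_true,
      Nat.beq_eq, Nat.blt_eq] at hB
    rcases hB with hB | ⟨⟨x, w, r0'⟩, -, ⟨⟨hx, hw⟩, hr0'⟩, hwr⟩
    · exfalso
      obtain ⟨hu1, hu0⟩ := Cfsg.Agent.Lib.Involutions.Basic.invol_iff.1 hu2
      rw [Bool.and_eq_false_iff] at hB
      rcases hB with e1 | e1
      · simp only [Bool.not_eq_false', Nat.beq_eq] at e1
        exact hu0 (by rw [← e', e1, el_zero])
      · refine (Bool.eq_false_iff.1 e1) (Nat.beq_eq ▸ Amalgam.el_inj' h (mulI_lt hi hi) (by omega) ?_)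
        rw [Amalgam.mul_el h hi hi, e', hu1, el_zero]
    obtain ⟨r1, hr1, rfl⟩ := hr0'
    simp only at hx
    subst hx
    have hr1' : r0' < 1920 := by
      simp only [List.mem_cons, List.not_mem_nil, or_false] at hr1
      rcases hr1 with rfl | rfl | rfl <;> omega
    have e1 : u * el a t q w = el a t q w * el a t q r0' := by
      rw [← e', ← Amalgam.mul_el h hi hw, ← Amalgam.mul_el h hw hr1', hwr]
    have hwH : el a t q w ∈ H := hCH (h.el_mem hw)
    have key : ∀ g ∈ H, g * z * g⁻¹ = el a t q r0' → ∃ g ∈ H, g * z * g⁻¹ = u := fun g hg e2 =>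
      ⟨el a t q w * g, H.mul_mem hwH hg, by
        rw [mul_inv_rev, show el a t q w * g * z * (g⁻¹ * (el a t q w)⁻¹) =
          el a t q w * (g * z * g⁻¹) * (el a t q w)⁻¹ by group, e2, ← e1, mul_inv_cancel_right]⟩
    simp only [List.mem_cons, List.not_mem_nil, or_false] at hr1
    rcases hr1 with rfl | rfl | rfl
    · exact key r hrH (by rw [Amalgam.el_q h]; exact hr.rz h.toChart)
    · exact key 1 H.one_mem (by rw [Amalgam.el_z h]; group)
    · obtain ⟨g, hg, hgH⟩ := exists_conj_t h hRels
      exact key g (hgH H hrH hCH) (by rw [Amalgam.el_t h]; exact hg)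
  · exact (show 1080 ∣ Nat.card S from hS).trans (Subgroup.card_dvd_of_le (hSH H hrH hCH))

/-- A chart in a simple group of the type of `J₃`. -/
theorem exists_ctx {G : Type*} [Group G] [Finite G] [IsSimpleGroup G]
    (hone : ∀ x y : G, orderOf x = 2 → orderOf y = 2 → IsConj x y) (t : G) (ht : orderOf t = 2)
    (E : Subgroup (Subgroup.centralizer ({t} : Set G))) [E.Normal] (hE : Nat.card E = 32)
    (hX : Cfsg.IsExtraspecial 2 E) (e : (Subgroup.centralizer ({t} : Set G)) ⧸ E ≃* alternatingGroup (Fin 5)) :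
    ∃ a s q : G, J3Order.Local.Ctx t a s q := by
  obtain ⟨Q, -, h⟩ := J3Order.Prelim.exists_hyp t ht E hX hE e
  obtain ⟨v, hv⟩ := h.exists_five hone
  obtain ⟨a, s, q, hc⟩ := J3Order.Outside.exists_chart hv hone
  exact ⟨a, s, q, hc, ht, hone⟩

/-- The theorem: a simple group of this type is `J₃`. -/
theorem isoJ3 {G : Type*} [Group G] [Finite G] [IsSimpleGroup G]
    (hone : ∀ x y : G, orderOf x = 2 → orderOf y = 2 → IsConj x y) (t : G) (ht : orderOf t = 2)
    (E : Subgroup (Subgroup.centralizer ({t} : Set G))) [E.Normal] (hE : Nat.card E = 32)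
    (hX : Cfsg.IsExtraspecial 2 E) (e : (Subgroup.centralizer ({t} : Set G)) ⧸ E ≃* alternatingGroup (Fin 5)) :
    Cfsg.Spor.IsoJ3 G := by
  have hN := J3Order.card_of_one_class hone t ht E hE hX e
  obtain ⟨a, s, q, hc⟩ := exists_ctx hone t ht E hE hX e
  obtain ⟨r, hR, hgen⟩ := exists_gens hc hN
  obtain ⟨F, iF, iFt, hF⟩ : ∃ (F : Type) (_ : Field F) (_ : Fintype F), Fintype.card F = 4 := by
    haveI : Fact (Nat.Prime 2) := ⟨Nat.prime_two⟩
    haveI : Finite (GaloisField 2 2) := Nat.finite_of_card_ne_zero (by rw [GaloisField.card 2 2 (by norm_num)]; norm_num)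
    letI := Fintype.ofFinite (GaloisField 2 2)
    refine ⟨GaloisField 2 2, inferInstance, inferInstance, ?_⟩
    rw [← Nat.card_eq_fintype_card, GaloisField.card 2 2 (by norm_num)]
    norm_num
  obtain ⟨ω, hω⟩ : ∃ ω : F, ω ^ 2 + ω + 1 = 0 := by
    classical
    obtain ⟨x, -, hx⟩ := Finset.exists_mem_notMem_of_card_lt_card (t := (Finset.univ : Finset F))
      (s := ({0, 1} : Finset F)) (by
        rw [Finset.card_univ, hF]
        exact lt_of_le_of_lt Finset.card_le_two (by norm_num))
    simp only [Finset.mem_insert, Finset.mem_singleton, not_or] at hx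
    have h3 : x ^ 3 = 1 := by
      have := FiniteField.pow_card_sub_one_eq_one x hx.1
      rwa [hF] at this
    refine ⟨x, ?_⟩
    have hz : (x - 1) * (x ^ 2 + x + 1) = 0 := by linear_combination h3
    exact (mul_eq_zero.1 hz).resolve_left (sub_ne_zero.2 hx.2)
  have hg := SporMatrix.J3.good_of_card hF hω
  haveI : IsSimpleGroup (Cfsg.Spor.J3 F ω) := SporMatrix.J3.isSimpleGroup_J3 hg
  haveI : Finite (Cfsg.Spor.J3 F ω) := Nat.finite_of_card_ne_zero (by rw [SporMatrix.J3.card_J3 hg]; norm_num)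
  have hone' : ∀ x y : Cfsg.Spor.J3 F ω, orderOf x = 2 → orderOf y = 2 → IsConj x y :=
    fun x y hx hy => SporMatrix.J3.isConj_of_involutions hg hx hy
  haveI := SporMatrix.J3.qBar_normal hg
  have hcomp := SporMatrix.J3.qBar_complement hg
  obtain ⟨e5⟩ := SporMatrix.J3.hSub_equiv hg
  obtain ⟨a', s', q', hc'⟩ := exists_ctx hone' (SporMatrix.J3.tBar hg) (SporMatrix.J3.orderOf_tBar hg)
    (SporMatrix.J3.qBar hg) (SporMatrix.J3.card_qBar hg) (SporMatrix.J3.qBar_isExtraspecial hg)
    ((hcomp.symm.QuotientMulEquiv.trans (SporMatrix.J3.hBarEquiv hg)).trans e5)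
  obtain ⟨r', hR', hgen'⟩ := exists_gens hc' (SporMatrix.J3.card_J3 hg)
  exact ⟨F, iF, iFt, ω, hF, hω, nonempty_iso hR hR' hgen hgen' hN (SporMatrix.J3.card_J3 hg)⟩

end Cfsg.Agent.Lib.J3Uniq
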